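import Cfsg.Agent.Lib.RankOne.Setup
import Cfsg.Agent.S1121

/-!
The standing set-up `Cfsg.IsRankOneSetup`: involutions, the set `K` of inverted elements and the
bijection `s ↦ k` given by `t * s * t = r⁻¹ * k * t * r`; fixed points of subsets of `D`.
-/

set_option autoImplicit false
set_option linter.unusedSectionVars false

namespace Cfsg.Agent.RankOne.Setup

open MulAction

variable {G Ω : Type*} [Group G] [Finite G] [MulAction G Ω] {a : Ω} {t : G} {Q : Subgroup G}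

local notation "DD" => (stabilizer G a ⊓ stabilizer G (t • a) : Subgroup G)
local notation "II" => Cfsg.involutionsIn (stabilizer G a : Set G)
local notation "KK" => Cfsg.invertedBy (stabilizer G a ⊓ stabilizer G (t • a)) t

theorem t_smul_smul (h : Cfsg.IsRankOneSetup G Ω a t Q) : t • t • a = a := by
  rw [← mul_smul, h.mul_self, one_smul]

omit [Finite G] in
theorem mem_dd {d : G} : d ∈ DD ↔ d • a = a ∧ d • (t • a) = t • a := Iff.rfl

section Odd

variable (h : Cfsg.IsRankOneSetup G Ω a t Q)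
include h

theorem exists_pow_sq {d : G} (hd : d ∈ DD) : ∃ n : ℕ, d = (d * d) ^ n ∧ d = d ^ n * d ^ n := by
  obtain ⟨k, hk⟩ := h.odd_card
  have h1 : d ^ Nat.card ↥DD = 1 := orderOf_dvd_iff_pow_eq_one.1 (Subgroup.orderOf_dvd_natCard _ hd)
  refine ⟨k + 1, ?_, ?_⟩
  · rw [← pow_two, ← pow_mul, show 2 * (k + 1) = Nat.card ↥DD + 1 by omega, pow_succ, h1, one_mul]
  · rw [← pow_add, show k + 1 + (k + 1) = Nat.card ↥DD + 1 by omega, pow_succ, h1, one_mul]

theorem sq_inj_dd {d e : G} (hd : d ∈ DD) (he : e ∈ DD) (hde : d * d = e * e) : d = e := by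
  obtain ⟨k, hk⟩ := h.odd_card
  have key : ∀ x ∈ DD, x = (x * x) ^ (k + 1) := fun x hx => by
    rw [← pow_two, ← pow_mul, show 2 * (k + 1) = Nat.card ↥DD + 1 by omega, pow_succ,
      orderOf_dvd_iff_pow_eq_one.1 (Subgroup.orderOf_dvd_natCard _ hx), one_mul]
  rw [key d hd, key e he, hde]

theorem dd_eq_one {d : G} (hd : d ∈ DD) (hdd : d * d = 1) : d = 1 :=
  sq_inj_dd h hd (one_mem _) (by rw [hdd, one_mul])

theorem commute_of_sq {d x : G} (hd : d ∈ DD) (hc : Commute (d * d) x) : Commute d x := by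
  obtain ⟨n, hn, -⟩ := exists_pow_sq h hd
  rw [hn]
  exact hc.pow_left n

/-- No non-identity element of `D` is conjugate to its inverse in `D`. -/
theorem not_real {d e : G} (he : e ∈ DD) (hd : d ∈ DD) (hed : e * d * e⁻¹ = d⁻¹) : d = 1 := by
  have h2 : Commute (e * e) d := by
    show e * e * d = d * (e * e)
    have h3 : e * d⁻¹ * e⁻¹ = d := by rw [← conj_inv, hed, inv_inv]
    calc e * e * d = e * (e * d * e⁻¹) * e := by group
      _ = e * d⁻¹ * e⁻¹ * (e * e) := by rw [hed]; group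
      _ = d * (e * e) := by rw [h3]
  have h1 := (commute_of_sq h he h2).eq
  rw [h1, mul_inv_cancel_right] at hed
  exact dd_eq_one h hd (eq_inv_iff_mul_eq_one.1 hed)

theorem mem_kk {k : G} : k ∈ KK ↔ k ∈ DD ∧ t * k * t = k⁻¹ := by
  show (_ ∧ _) ↔ _
  rw [t_inv h]

theorem kk_pow {k : G} (hk : k ∈ KK) (n : ℕ) : k ^ n ∈ KK :=
  ⟨pow_mem hk.1 n, by rw [← conj_pow, hk.2, inv_pow]⟩

theorem exists_sqrt {k : G} (hk : k ∈ KK) : ∃ g ∈ KK, g * g = k := by
  obtain ⟨n, -, hn⟩ := exists_pow_sq h hk.1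
  exact ⟨k ^ n, kk_pow h hk n, hn.symm⟩

theorem twisted_inj {k k₁ k₂ : G} (hk : k ∈ KK) (h₁ : k₁ ∈ KK) (h₂ : k₂ ∈ KK)
    (he : k₁ * k * k₁ = k₂ * k * k₂) : k₁ = k₂ := by
  obtain ⟨g, hg, rfl⟩ := exists_sqrt h hk
  have e : ∀ x : G, g * x * g * (g * x * g) = g * (x * (g * g) * x) * g := fun x => by group
  have := sq_inj_dd h (mul_mem (mul_mem hg.1 h₁.1) hg.1) (mul_mem (mul_mem hg.1 h₂.1) hg.1)
    (by rw [e, e, he])
  exact mul_left_cancel (mul_right_cancel this)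

theorem swap_mem_kk {u : G} (hu2 : u * u = 1) (hua : u • a = t • a) : u * t ∈ KK := by
  have hub : u • (t • a) = a := by rw [← hua, ← mul_smul, hu2, one_smul]
  refine (mem_kk h).2 ⟨mem_dd.2 ⟨by rw [mul_smul, hub], by rw [mul_smul, t_smul_smul h, hua]⟩, ?_⟩
  rw [mul_inv_rev, t_inv h, inv_eq_of_mul_eq_one_right hu2]
  simp [mul_assoc, h.mul_self]

theorem kk_mul_t {k : G} (hk : k ∈ KK) :
    k * t ≠ 1 ∧ k * t * (k * t) = 1 ∧ (k * t) • a = t • a := by
  obtain ⟨hkD, hkt⟩ := (mem_kk h).1 hk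
  refine ⟨fun e => t_smul_ne h ?_, ?_, ?_⟩
  · rw [show t = k⁻¹ from eq_inv_of_mul_eq_one_right e, inv_smul_eq_iff]
    exact (mem_dd.1 hkD).1.symm
  · calc k * t * (k * t) = k * (t * k * t) := by group
      _ = 1 := by rw [hkt, mul_inv_cancel]
  · rw [mul_smul, (mem_dd.1 hkD).2]

/-- An involution fixes at most one point. -/
theorem fixed_unique {u : G} (hu1 : u ≠ 1) (hu2 : u * u = 1) {p p' : Ω} (hp : u • p = p)
    (hp' : u • p' = p') : p = p' := by
  by_contra hne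
  obtain ⟨g, hga, hgb⟩ := is_two_pretransitive_iff.1 h.two_transitive hne (t_smul_ne h).symm
  have hmem : g * u * g⁻¹ ∈ DD := by
    refine mem_dd.2 ⟨?_, ?_⟩
    · rw [mul_smul, mul_smul, ← hga, inv_smul_smul, hp]
    · rw [mul_smul, mul_smul, ← hgb, inv_smul_smul, hp']
  have := dd_eq_one h hmem (by
    rw [show g * u * g⁻¹ * (g * u * g⁻¹) = g * (u * u) * g⁻¹ by group, hu2]; group)
  exact hu1 (conj_eq_one_iff.1 this)

theorem exists_smul_a (p : Ω) : ∃ g : G, g • a = p := by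
  haveI := h.two_transitive
  haveI : IsPretransitive G Ω := isPretransitive_of_is_two_pretransitive
  exact MulAction.exists_smul_eq G a p

theorem exists_ii : ∃ s, s ∈ II := by
  obtain ⟨q, hqQ, hq⟩ := Involution.exists_involution_mem h.even_card
  exact ⟨q, h.le hqQ, Involution.ne_one hq, Involution.mul_self hq⟩

theorem mem_Q_of_ii {s : G} (hs : s ∈ II) : s ∈ Q := by
  obtain ⟨x, hx, d, hd, rfl⟩ := exists_decomp h hs.1
  have e : x * (d * x * d⁻¹) * (d * d) = 1 * 1 := by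
    rw [one_mul, ← hs.2.2]; group
  have h2 := (decomp_unique h (mul_mem hx (h.conj_mem d hd.1 x hx)) (one_mem Q) (mul_mem hd hd)
    (one_mem _) e).2
  rw [dd_eq_one h hd h2, mul_one]
  exact hx

theorem exists_fixed {u : G} (hu1 : u ≠ 1) (hu2 : u * u = 1) : ∃ p : Ω, u • p = p := by
  obtain ⟨s, hs⟩ := exists_ii h
  obtain ⟨g, hg⟩ := (S1121.result h).2 s u hs.2.1 hs.2.2 hu1 hu2
  exact ⟨g • a, by rw [← hg, mul_smul, mul_smul, inv_smul_smul, show s • a = a from hs.1]⟩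

theorem conj_mem_ii {g u : G} (hu1 : u ≠ 1) (hu2 : u * u = 1) {p : Ω} (hp : u • p = p)
    (hg : g • p = a) : g * u * g⁻¹ ∈ II := by
  refine ⟨?_, fun e => hu1 (conj_eq_one_iff.1 e), ?_⟩
  · show (g * u * g⁻¹) • a = a
    rw [mul_smul, mul_smul, ← hg, inv_smul_smul, hp]
  · rw [show g * u * g⁻¹ * (g * u * g⁻¹) = g * (u * u) * g⁻¹ by group, hu2]; group

theorem finite_omega : Finite Ω :=
  Nat.finite_of_card_ne_zero (by rw [card_omega h]; omega)

/-- `|K|` is the number of involutions of `G_a`. -/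
theorem card_kk : Nat.card KK = Nat.card II := by
  classical
  haveI := finite_omega h
  letI := Fintype.ofFinite Ω
  let Inv := {u : G // u ≠ 1 ∧ u * u = 1}
  -- fibres of `u ↦ u • a`
  let F : Ω → Type _ := fun c => {u : Inv // u.1 • a = c}
  -- fibres of the fixed point map
  let M : Ω → Type _ := fun p => {u : Inv // u.1 • p = p}
  have hM : ∀ p, Nat.card (M p) = Nat.card II := by
    intro p
    obtain ⟨g, hg⟩ := exists_smul_a h p
    refine Nat.card_congr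
      { toFun := fun u => ⟨g⁻¹ * u.1.1 * g, by
          have := conj_mem_ii h u.1.2.1 u.1.2.2 u.2 (g := g⁻¹) (by rw [← hg, inv_smul_smul])
          rwa [inv_inv] at this⟩
        invFun := fun s => ⟨⟨g * s.1 * g⁻¹, fun e => s.2.2.1 (conj_eq_one_iff.1 e), by
            rw [show g * s.1 * g⁻¹ * (g * s.1 * g⁻¹) = g * (s.1 * s.1) * g⁻¹ by group, s.2.2.2]
            group⟩, by
          show (g * s.1 * g⁻¹) • p = p
          rw [mul_smul, mul_smul, ← hg, inv_smul_smul, show s.1 • a = a from s.2.1]⟩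
        left_inv := fun u => Subtype.ext (Subtype.ext (by simp [mul_assoc]))
        right_inv := fun s => Subtype.ext (by simp [mul_assoc]) }
  have eM : Inv ≃ Σ p, M p :=
    { toFun := fun u => ⟨Classical.choose (exists_fixed h u.2.1 u.2.2), u,
        Classical.choose_spec (exists_fixed h u.2.1 u.2.2)⟩
      invFun := fun x => x.2.1
      left_inv := fun u => rfl
      right_inv := fun ⟨p, u, hu⟩ => by
        have e : Classical.choose (exists_fixed h u.2.1 u.2.2) = p :=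
          fixed_unique h u.2.1 u.2.2 (Classical.choose_spec (exists_fixed h u.2.1 u.2.2)) hu
        subst e
        rfl }
  have eF : Inv ≃ Σ c, F c :=
    { toFun := fun u => ⟨u.1 • a, u, rfl⟩
      invFun := fun x => x.2.1
      left_inv := fun u => rfl
      right_inv := fun ⟨c, u, hu⟩ => by subst hu; rfl }
  have hF : ∀ c, c ≠ a → Nat.card (F c) = Nat.card KK := by
    intro c hc
    obtain ⟨x, hx, hxc⟩ := exists_smul_eq h hc
    have hxa : x • a = a := h.le hx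
    refine Nat.card_congr
      { toFun := fun u => ⟨x⁻¹ * u.1.1 * x * t, swap_mem_kk h (by
            rw [show x⁻¹ * u.1.1 * x * (x⁻¹ * u.1.1 * x) = x⁻¹ * (u.1.1 * u.1.1) * x by group,
              u.1.2.2]
            group) (by rw [mul_smul, mul_smul, hxa, u.2, ← hxc, inv_smul_smul])⟩
        invFun := fun k => ⟨⟨x * (k.1 * t) * x⁻¹, fun e => (kk_mul_t h k.2).1 (conj_eq_one_iff.1 e), by
            rw [show x * (k.1 * t) * x⁻¹ * (x * (k.1 * t) * x⁻¹) =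
              x * (k.1 * t * (k.1 * t)) * x⁻¹ by group, (kk_mul_t h k.2).2.1]
            group⟩, by
          show (x * (k.1 * t) * x⁻¹) • a = c
          rw [mul_smul, mul_smul, show x⁻¹ • a = a by rw [inv_smul_eq_iff, hxa],
            (kk_mul_t h k.2).2.2, hxc]⟩
        left_inv := fun u => Subtype.ext (Subtype.ext (by simp [mul_assoc, ← mul_assoc t t, h.mul_self]))
        right_inv := fun k => Subtype.ext (by simp [mul_assoc, ← mul_assoc t t, h.mul_self]) }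
  have hFa : Nat.card (F a) = Nat.card II := hM a
  have key := (Nat.card_congr eF).symm.trans (Nat.card_congr eM)
  rw [Nat.card_sigma, Nat.card_sigma, Finset.sum_congr rfl (fun p _ => hM p),
    ← Finset.add_sum_erase _ _ (Finset.mem_univ a), hFa,
    Finset.sum_congr rfl (fun c hc => hF c (Finset.ne_of_mem_erase hc)), Finset.sum_const,
    Finset.sum_const, Finset.card_erase_of_mem (Finset.mem_univ a), Finset.card_univ,
    ← Nat.card_eq_fintype_card, card_omega h, Nat.add_sub_cancel, smul_eq_mul, smul_eq_mul,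
    add_mul, one_mul, add_comm (Nat.card Q * _)] at key
  exact Nat.eq_of_mul_eq_mul_left Nat.card_pos (Nat.add_left_cancel key)

/-- `r` and `k` are the parts of `t * s * t`. -/
def IsPart (a : Ω) (t : G) (Q : Subgroup G) (s r k : G) : Prop :=
  r ∈ Q ∧ k ∈ Cfsg.invertedBy (stabilizer G a ⊓ stabilizer G (t • a)) t ∧
    t * s * t = r⁻¹ * k * t * r

theorem isPart_unique {s r r' k k' : G} (h1 : IsPart a t Q s r k) (h2 : IsPart a t Q s r' k') :
    r = r' ∧ k = k' := by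
  obtain ⟨-, e2, e3⟩ := parts_unique h (inv_mem h1.1) (inv_mem h2.1) h1.2.1.1 h2.2.1.1 h1.1 h2.1
    (h1.2.2.symm.trans h2.2.2)
  exact ⟨e3, e2⟩

theorem exists_isPart {s : G} (hs : s ∈ II) : ∃ r k, IsPart a t Q s r k := by
  have htt : ∀ x : G, t * (t * x) = x := fun x => by rw [← mul_assoc, h.mul_self, one_mul]
  have hu2 : t * s * t * (t * s * t) = 1 := by
    simp only [mul_assoc, htt]
    rw [← mul_assoc s s, hs.2.2, one_mul, h.mul_self]
  have hua : (t * s * t) • a ≠ a := fun e => by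
    rw [mul_smul, mul_smul, smul_eq_iff_eq_inv_smul, t_inv h] at e
    exact t_smul_ne h (fixed_unique h hs.2.1 hs.2.2 hs.1 e).symm
  obtain ⟨x, hx, hxe⟩ := exists_smul_eq h hua
  have hxa : x • a = a := h.le hx
  have hk := swap_mem_kk h (u := x⁻¹ * (t * s * t) * x) (by
      rw [show x⁻¹ * (t * s * t) * x * (x⁻¹ * (t * s * t) * x) =
        x⁻¹ * (t * s * t * (t * s * t)) * x by group, hu2]
      group)
    (by rw [mul_smul, mul_smul, hxa, ← hxe, inv_smul_smul])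
  refine ⟨x⁻¹, _, inv_mem hx, hk, ?_⟩
  simp [mul_assoc, htt]

theorem isPart_conj {s r k d : G} (hp : IsPart a t Q s r k) (hd : d ∈ DD) :
    IsPart a t Q (d⁻¹ * s * d) ((t * d * t)⁻¹ * r * (t * d * t)) ((t * d * t)⁻¹ * k * d) := by
  obtain ⟨hr, hk, he⟩ := hp
  have hd' := t_conj_mem h hd
  have htt : ∀ x : G, t * (t * x) = x := fun x => by rw [← mul_assoc, h.mul_self, one_mul]
  obtain ⟨hkD, hkt⟩ := (mem_kk h).1 hk
  refine ⟨conj_mem_inv h hd'.1 hr, (mem_kk h).2 ⟨mul_mem (mul_mem (inv_mem hd') hkD) hd, ?_⟩, ?_⟩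
  · calc t * ((t * d * t)⁻¹ * k * d) * t = d⁻¹ * (t * k * t) * (t * d * t) := by
          simp [mul_assoc, t_inv h, htt]
      _ = _ := by rw [hkt]; group
  · calc t * (d⁻¹ * s * d) * t = (t * d * t)⁻¹ * (t * s * t) * (t * d * t) := by
          simp [mul_assoc, t_inv h, htt]
      _ = (t * d * t)⁻¹ * (r⁻¹ * k * t * r) * (t * d * t) := by rw [he]
      _ = _ := by simp [mul_assoc, t_inv h, htt]

theorem conj_mem_ii_of_dd {s d : G} (hs : s ∈ II) (hd : d ∈ stabilizer G a) : d⁻¹ * s * d ∈ II := by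
  refine ⟨mul_mem (mul_mem (inv_mem hd) hs.1) hd, fun e => hs.2.1 ?_, ?_⟩
  · calc s = d * (d⁻¹ * s * d) * d⁻¹ := by group
      _ = 1 := by rw [e]; group
  · rw [show d⁻¹ * s * d * (d⁻¹ * s * d) = d⁻¹ * (s * s) * d by group, hs.2.2]; group

theorem part_bijective :
    (∀ k ∈ KK, ∃ s ∈ II, ∃ r, IsPart a t Q s r k) ∧
      ∀ s s' r r' k, s ∈ II → s' ∈ II → IsPart a t Q s r k → IsPart a t Q s' r' k → s = s' := by
  classical
  choose fr fk hf using fun s : II => exists_isPart h s.2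
  obtain ⟨s₁, hs₁⟩ := exists_ii h
  obtain ⟨r₁, k₁, h₁⟩ := exists_isPart h hs₁
  have hφ : ∀ d : KK, d.1 * k₁ * d.1 ∈ KK ∧ IsPart a t Q (d.1⁻¹ * s₁ * d.1)
      ((t * d.1 * t)⁻¹ * r₁ * (t * d.1 * t)) (d.1 * k₁ * d.1) := by
    intro d
    have hp := isPart_conj h h₁ d.2.1
    have e : (t * d.1 * t)⁻¹ * k₁ * d.1 = d.1 * k₁ * d.1 := by
      rw [((mem_kk h).1 d.2).2, inv_inv]
    rw [e] at hp
    exact ⟨hp.2.1, hp⟩
  let φ : KK → KK := fun d => ⟨d.1 * k₁ * d.1, (hφ d).1⟩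
  have hφs : Function.Surjective φ := Finite.injective_iff_surjective.1 fun d d' e =>
    Subtype.ext (twisted_inj h h₁.2.1 d.2 d'.2 (congrArg Subtype.val e))
  have hsurj : ∀ k ∈ KK, ∃ s ∈ II, ∃ r, IsPart a t Q s r k := by
    intro k hk
    obtain ⟨d, hd⟩ := hφs ⟨k, hk⟩
    have he : d.1 * k₁ * d.1 = k := congrArg Subtype.val hd
    exact ⟨_, conj_mem_ii_of_dd h hs₁ d.2.1.1, _, he ▸ (hφ d).2⟩
  refine ⟨hsurj, fun s s' r r' k hs hs' hp hp' => ?_⟩
  let f : II → KK := fun s => ⟨fk s, (hf s).2.1⟩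
  have hfs : Function.Surjective f := fun k => by
    obtain ⟨s, hs, r, hp⟩ := hsurj k.1 k.2
    exact ⟨⟨s, hs⟩, Subtype.ext (isPart_unique h (hf ⟨s, hs⟩) hp).2⟩
  have hfi : Function.Injective f :=
    ((Nat.bijective_iff_surjective_and_card f).2 ⟨hfs, (card_kk h).symm⟩).1
  have := @hfi ⟨s, hs⟩ ⟨s', hs'⟩ (Subtype.ext (((isPart_unique h (hf ⟨s, hs⟩) hp).2).trans
    ((isPart_unique h (hf ⟨s', hs'⟩) hp').2).symm))
  exact congrArg Subtype.val this

theorem one_mem_kk : (1 : G) ∈ KK := ⟨one_mem _, by group⟩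

theorem existsUnique_pair : ∃! p : G × G, p.1 ∈ II ∧ p.2 ∈ Q ∧ t * p.1 * t = p.2⁻¹ * t * p.2 := by
  obtain ⟨s, hs, r, hr, -, he⟩ := (part_bijective h).1 1 (one_mem_kk h)
  rw [mul_one] at he
  refine ⟨(s, r), ⟨hs, hr, he⟩, ?_⟩
  rintro ⟨s', r'⟩ ⟨hs', hr', he'⟩
  have hp : IsPart a t Q s r 1 := ⟨hr, one_mem_kk h, by rw [mul_one]; exact he⟩
  have hp' : IsPart a t Q s' r' 1 := ⟨hr', one_mem_kk h, by rw [mul_one]; exact he'⟩
  obtain rfl := (part_bijective h).2 s s' r r' 1 hs hs' hp hp'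
  exact Prod.ext rfl (isPart_unique h hp' hp).1

/-- If `t * s * t = r⁻¹ * t * r` then `C_D(s) = C_D(t)`. -/
theorem commute_iff {s r d : G} (hs : s ∈ II) (hr : r ∈ Q) (he : t * s * t = r⁻¹ * t * r)
    (hd : d ∈ DD) : t * d = d * t ↔ s * d = d * s := by
  have hp : IsPart a t Q s r 1 := ⟨hr, one_mem_kk h, by rw [mul_one]; exact he⟩
  have hp' := isPart_conj h hp hd
  have hiff : t * d = d * t ↔ t * d * t = d := by
    constructor
    · intro e; rw [e, mul_assoc, h.mul_self, mul_one]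
    · intro e
      conv_rhs => rw [← e, mul_assoc, h.mul_self, mul_one]
  rw [hiff]
  constructor
  · intro e
    rw [e, mul_one, inv_mul_cancel] at hp'
    have := (part_bijective h).2 _ _ _ _ _ (conj_mem_ii_of_dd h hs hd.1) hs hp' hp
    calc s * d = d * (d⁻¹ * s * d) := by group
      _ = d * s := by rw [this]
  · intro e
    have hfix : d⁻¹ * s * d = s := by rw [mul_assoc, e, inv_mul_cancel_left]
    rw [hfix, mul_one] at hp'
    exact (inv_mul_eq_one.1 (isPart_unique h hp' hp).2)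

/-- The `K`-conjugates of an involution of `G_a` are all of them. -/
theorem exists_conj_kk {s s' : G} (hs : s ∈ II) (hs' : s' ∈ II) : ∃ k ∈ KK, k⁻¹ * s * k = s' := by
  obtain ⟨r, k₀, hp⟩ := exists_isPart h hs
  let f : KK → II := fun k => ⟨k.1⁻¹ * s * k.1, conj_mem_ii_of_dd h hs k.2.1.1⟩
  have hf : Function.Injective f := by
    intro k₁ k₂ e
    have e' : k₁.1⁻¹ * s * k₁.1 = k₂.1⁻¹ * s * k₂.1 := congrArg Subtype.val e
    have p1 := isPart_conj h hp k₁.2.1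
    have p2 := isPart_conj h hp k₂.2.1
    rw [e'] at p1
    have := (isPart_unique h p1 p2).2
    rw [((mem_kk h).1 k₁.2).2, ((mem_kk h).1 k₂.2).2, inv_inv, inv_inv] at this
    exact Subtype.ext (twisted_inj h hp.2.1 k₁.2 k₂.2 this)
  obtain ⟨k, hk⟩ := ((Nat.bijective_iff_injective_and_card f).2 ⟨hf, card_kk h⟩).2 ⟨s', hs'⟩
  exact ⟨k.1, k.2, congrArg Subtype.val hk⟩

/-- An element of `Q` moving a fixed point of `X` to another one centralises `X`. -/
theorem mem_centralizer_of_smul {X : Set G} {x : G} (hx : x ∈ Q) {p q : Ω}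
    (hXa : ∀ c ∈ X, c • a = a) (hp : p ≠ a) (hXp : ∀ c ∈ X, c • p = p) (hXq : ∀ c ∈ X, c • q = q)
    (hxp : x • p = q) : x ∈ Subgroup.centralizer X := by
  rw [Subgroup.mem_centralizer_iff]
  intro c hc
  have hcx : c * x * c⁻¹ ∈ Q := h.conj_mem c (hXa c hc) x hx
  have hq : q ≠ a := hxp ▸ smul_ne_self h hx hp
  have e : (c * x * c⁻¹) • p = q := by
    rw [mul_smul, mul_smul, show c⁻¹ • p = p by rw [inv_smul_eq_iff, hXp c hc], hxp, hXq c hc]
  have := (regular h hp hq).unique (y₁ := ⟨_, hcx⟩) (y₂ := ⟨x, hx⟩) e hxp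
  exact mul_inv_eq_iff_eq_mul.1 (congrArg Subtype.val this)

section Fix

variable {X : Set G}

theorem exists_centralizer_fix {p q₁ q₂ : Ω} (hp : ∀ c ∈ X, c • p = p) (h₁ : ∀ c ∈ X, c • q₁ = q₁)
    (h₂ : ∀ c ∈ X, c • q₂ = q₂) (hn₁ : q₁ ≠ p) (hn₂ : q₂ ≠ p) :
    ∃ g ∈ Subgroup.centralizer X, g • p = p ∧ g • q₁ = q₂ := by
  obtain ⟨g, rfl⟩ := exists_smul_a h p
  have hne : ∀ {q}, q ≠ g • a → g⁻¹ • q ≠ a := fun hq e => hq (by rw [← e, smul_inv_smul])
  obtain ⟨⟨x, hx⟩, hxe, -⟩ := regular h (hne hn₁) (hne hn₂)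
  have hxc := mem_centralizer_of_smul h (X := (fun c => g⁻¹ * c * g) '' X) hx
    (p := g⁻¹ • q₁) (q := g⁻¹ • q₂)
    (by rintro _ ⟨c, hc, rfl⟩; rw [mul_smul, mul_smul, hp c hc, inv_smul_smul])
    (hne hn₁)
    (by rintro _ ⟨c, hc, rfl⟩; rw [mul_smul, mul_smul, smul_inv_smul, h₁ c hc])
    (by rintro _ ⟨c, hc, rfl⟩; rw [mul_smul, mul_smul, smul_inv_smul, h₂ c hc])
    hxe
  refine ⟨g * x * g⁻¹, ?_, ?_, ?_⟩
  · rw [Subgroup.mem_centralizer_iff] at hxc ⊢
    intro c hc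
    have e := hxc _ ⟨c, hc, rfl⟩
    calc c * (g * x * g⁻¹) = g * (g⁻¹ * c * g * x) * g⁻¹ := by group
      _ = g * (x * (g⁻¹ * c * g)) * g⁻¹ := by rw [e]
      _ = g * x * g⁻¹ * c := by group
  · rw [mul_smul, mul_smul, inv_smul_smul, show x • a = a from h.le hx]
  · have hxe' : x • (g⁻¹ • q₁) = g⁻¹ • q₂ := hxe
    rw [mul_smul, mul_smul, hxe', smul_inv_smul]

variable (h3 : ∃ b c d : Ω, b ≠ c ∧ b ≠ d ∧ c ≠ d ∧ ∀ x ∈ X, x • b = b ∧ x • c = c ∧ x • d = d)
include h3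

/-- `C(X)` is doubly transitive on the fixed points of `X`. -/
theorem centralizer_two_transitive {b₁ b₂ c₁ c₂ : Ω}
    (hfix : ∀ x ∈ X, x • b₁ = b₁ ∧ x • b₂ = b₂ ∧ x • c₁ = c₁ ∧ x • c₂ = c₂)
    (hb : b₁ ≠ b₂) (hc : c₁ ≠ c₂) : ∃ g ∈ Subgroup.centralizer X, g • b₁ = c₁ ∧ g • b₂ = c₂ := by
  obtain ⟨p₁, p₂, p₃, h12, h13, h23, hp⟩ := h3
  obtain ⟨r, hr, hr1, hr2⟩ : ∃ r, (∀ x ∈ X, x • r = r) ∧ b₁ ≠ r ∧ c₁ ≠ r := by
    by_cases e1 : b₁ ≠ p₁ ∧ c₁ ≠ p₁
    · exact ⟨p₁, fun x hx => (hp x hx).1, e1.1, e1.2⟩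
    by_cases e2 : b₁ ≠ p₂ ∧ c₁ ≠ p₂
    · exact ⟨p₂, fun x hx => (hp x hx).2.1, e2.1, e2.2⟩
    refine ⟨p₃, fun x hx => (hp x hx).2.2, ?_, ?_⟩ <;> intro e3 <;> rw [not_and_or] at e1 e2 <;>
      subst e3 <;> rcases e1 with e1 | e1 <;> rcases e2 with e2 | e2 <;>
      simp_all [not_not]
  obtain ⟨g₁, hg₁, -, hg₁b⟩ := exists_centralizer_fix h hr (fun x hx => (hfix x hx).1)
    (fun x hx => (hfix x hx).2.2.1) hr1 hr2
  have hgfix : ∀ x ∈ X, x • (g₁ • b₂) = g₁ • b₂ := fun x hx => by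
    rw [← mul_smul, Subgroup.mem_centralizer_iff.1 hg₁ x hx, mul_smul, (hfix x hx).2.1]
  obtain ⟨g₂, hg₂, hg₂c, hg₂b⟩ := exists_centralizer_fix h (fun x hx => (hfix x hx).2.2.1) hgfix
    (fun x hx => (hfix x hx).2.2.2) (fun e => hb (smul_left_cancel g₁ (hg₁b.trans e.symm)))
    hc.symm
  exact ⟨g₂ * g₁, mul_mem hg₂ hg₁, by rw [mul_smul, hg₁b, hg₂c], by rw [mul_smul, hg₂b]⟩

/-- An involution centralising `X ⊆ D` and swapping `a` and `t • a`. -/
theorem exists_swap (hX : X ⊆ (DD : Set G)) :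
    ∃ u ∈ Subgroup.centralizer X, u ≠ 1 ∧ u * u = 1 ∧ u • a = t • a := by
  obtain ⟨g, hg, hga, hgb⟩ := centralizer_two_transitive h h3
    (b₁ := a) (b₂ := t • a) (c₁ := t • a) (c₂ := a)
    (fun x hx => ⟨(mem_dd.1 (hX hx)).1, (mem_dd.1 (hX hx)).2, (mem_dd.1 (hX hx)).2,
      (mem_dd.1 (hX hx)).1⟩) (t_smul_ne h).symm (t_smul_ne h)
  have hg2 : g * g ∈ DD := mem_dd.2 ⟨by rw [mul_smul, hga, hgb], by rw [mul_smul, hgb, hga]⟩
  obtain ⟨m, hm⟩ := h.odd_card
  refine ⟨g ^ (2 * m + 1), pow_mem hg _, fun e => ?_, ?_, ?_⟩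
  all_goals
    have hgg : (g * g) ^ m ∈ DD := pow_mem hg2 m
    have hu : g ^ (2 * m + 1) • a = t • a := by
      rw [pow_succ', pow_mul, pow_two, mul_smul, (mem_dd.1 hgg).1, hga]
  · rw [e, one_smul] at hu
    exact t_smul_ne h hu.symm
  · rw [← pow_add, ← two_mul, pow_mul, pow_two, ← hm]
    exact orderOf_dvd_iff_pow_eq_one.1 (Subgroup.orderOf_dvd_natCard _ hg2)
  · exact hu

/-- `X` is conjugate in `D` into `C_D(t)`. -/
theorem exists_conj_commute (hX : X ⊆ (DD : Set G)) :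
    ∃ k ∈ DD, ∀ x ∈ X, (k * x * k⁻¹) * t = t * (k * x * k⁻¹) := by
  obtain ⟨u, hu, -, hu2, hua⟩ := exists_swap h h3 hX
  obtain ⟨g, hg, hgg⟩ := exists_sqrt h (swap_mem_kk h hu2 hua)
  have hut : u = g * t * g⁻¹ := by
    have e : g⁻¹ = t * g * t := by rw [((mem_kk h).1 hg).2]
    have e2 : t * (t * g * t) = g * t := by simp [← mul_assoc, h.mul_self]
    rw [e, mul_assoc g, e2, ← mul_assoc, hgg, mul_assoc, h.mul_self, mul_one]
  refine ⟨g⁻¹, inv_mem hg.1, fun x hx => ?_⟩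
  have hc := Subgroup.mem_centralizer_iff.1 hu x hx
  rw [hut] at hc
  calc g⁻¹ * x * g⁻¹⁻¹ * t = g⁻¹ * (x * (g * t * g⁻¹)) * g := by group
    _ = g⁻¹ * (g * t * g⁻¹ * x) * g := by rw [hc]
    _ = t * (g⁻¹ * x * g⁻¹⁻¹) := by group

theorem exists_ii_centralizer (hX : X ⊆ (DD : Set G)) : ∃ s ∈ II, s ∈ Subgroup.centralizer X := by
  obtain ⟨u, hu, hu1, hu2, hua⟩ := exists_swap h h3 hX
  obtain ⟨p, hp⟩ := exists_fixed h hu1 hu2
  have hXp : ∀ x ∈ X, x • p = p := fun x hx => fixed_unique h hu1 hu2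
    (by rw [← mul_smul, ← Subgroup.mem_centralizer_iff.1 hu x hx, mul_smul, hp]) hp
  have hpa : p ≠ a := fun e => t_smul_ne h (by rw [← hua, ← e, hp, e])
  obtain ⟨g, hg, hgp, -⟩ := centralizer_two_transitive h h3 (b₁ := p) (b₂ := a) (c₁ := a)
    (c₂ := t • a) (fun x hx => ⟨hXp x hx, (mem_dd.1 (hX hx)).1, (mem_dd.1 (hX hx)).1,
      (mem_dd.1 (hX hx)).2⟩) hpa (t_smul_ne h).symm
  exact ⟨_, conj_mem_ii h hu1 hu2 hp hgp, mul_mem (mul_mem hg hu) (inv_mem hg)⟩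

end Fix

/-- A non-identity element of `K` centralises no non-identity element of `Q`. -/
theorem kk_fpf {k : G} (hk : k ∈ KK) (hk1 : k ≠ 1) {y : G} (hy : y ∈ Q) (hc : k * y = y * k) :
    y = 1 := by
  by_contra hy1
  have hfix : k • (y • (t • a)) = y • (t • a) := by
    rw [← mul_smul, hc, mul_smul, (mem_dd.1 hk.1).2]
  obtain ⟨d, hd, hdk⟩ := exists_conj_commute h (X := {k})
    ⟨a, t • a, y • (t • a), (t_smul_ne h).symm, (smul_ne_self h hy (t_smul_ne h)).symm,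
      fun e => hy1 (eq_one_of_fix h hy (t_smul_ne h) e.symm), fun x hx => by
        obtain rfl : x = k := hx
        exact ⟨(mem_dd.1 hk.1).1, (mem_dd.1 hk.1).2, hfix⟩⟩
    (Set.singleton_subset_iff.2 hk.1)
  have hdk' := hdk k rfl
  have htt : ∀ x : G, t * (t * x) = x := fun x => by rw [← mul_assoc, h.mul_self, one_mul]
  have hd' := t_conj_mem h hd
  have e : (t * d * t) * k⁻¹ * (t * d * t)⁻¹ = d * k * d⁻¹ := by
    rw [← ((mem_kk h).1 hk).2]
    calc t * d * t * (t * k * t) * (t * d * t)⁻¹ = t * (d * k * d⁻¹) * t := by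
          simp [mul_assoc, t_inv h, htt]
      _ = d * k * d⁻¹ := by rw [← hdk', mul_assoc, h.mul_self, mul_one]
  have := not_real h (d := k) (e := (t * d * t)⁻¹ * d) (mul_mem (inv_mem hd') hd) hk.1 (by
    calc (t * d * t)⁻¹ * d * k * ((t * d * t)⁻¹ * d)⁻¹
        = (t * d * t)⁻¹ * (d * k * d⁻¹) * (t * d * t) := by group
      _ = k⁻¹ := by rw [← e]; group)
  exact hk1 this

end Odd

end Cfsg.Agent.RankOne.Setup
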