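import Cfsg.Agent.EqLemmas
/-!
The standing set-up `Cfsg.IsRankOneSetup`: regularity of `Q`, orders, canonical form.
-/

set_option autoImplicit false

namespace Cfsg.Agent.RankOne.Setup

open MulAction

variable {G Ω : Type*} [Group G] [MulAction G Ω] {a : Ω} {t : G} {Q : Subgroup G}

theorem t_inv (h : Cfsg.IsRankOneSetup G Ω a t Q) : t⁻¹ = t := inv_eq_of_mul_eq_one_right h.mul_self

theorem t_smul_ne (h : Cfsg.IsRankOneSetup G Ω a t Q) : t • a ≠ a := h.not_mem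

theorem t_conj_mem (h : Cfsg.IsRankOneSetup G Ω a t Q) {c : G}
    (hc : c ∈ stabilizer G a ⊓ stabilizer G (t • a)) : t * c * t ∈ stabilizer G a ⊓ stabilizer G (t • a) := by
  obtain ⟨h1, h2⟩ := Subgroup.mem_inf.1 hc
  rw [mem_stabilizer_iff] at h1 h2
  refine Subgroup.mem_inf.2 ⟨?_, ?_⟩ <;> simp only [mem_stabilizer_iff, mul_smul]
  · rw [h2, ← mul_smul, h.mul_self, one_smul]
  · rw [show t • t • a = a by rw [← mul_smul, h.mul_self, one_smul], h1]

theorem conj_mem_inv (h : Cfsg.IsRankOneSetup G Ω a t Q) {c x : G} (hc : c ∈ stabilizer G a) (hx : x ∈ Q) :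
    c⁻¹ * x * c ∈ Q := by
  simpa using h.conj_mem c⁻¹ (inv_mem hc) x hx

theorem exists_decomp (h : Cfsg.IsRankOneSetup G Ω a t Q) {g : G} (hg : g ∈ stabilizer G a) :
    ∃ x ∈ Q, ∃ d ∈ stabilizer G a ⊓ stabilizer G (t • a), x * d = g := by
  rw [← h.sup_eq, sup_comm] at hg
  have hle : stabilizer G a ⊓ stabilizer G (t • a) ≤ Subgroup.normalizer (Q : Set G) := by
    intro c hc
    rw [Subgroup.mem_normalizer_iff]
    exact fun x => ⟨h.conj_mem c hc.1 x, fun hx => by simpa [mul_assoc] using conj_mem_inv h hc.1 hx⟩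
  rw [← SetLike.mem_coe, Subgroup.coe_mul_of_left_le_normalizer_right _ _ hle] at hg
  obtain ⟨d, hd, x, hx, rfl⟩ := hg
  exact ⟨d * x * d⁻¹, h.conj_mem d hd.1 x hx, d, hd, by group⟩

theorem decomp_unique (h : Cfsg.IsRankOneSetup G Ω a t Q) {x x' d d' : G} (hx : x ∈ Q) (hx' : x' ∈ Q)
    (hd : d ∈ stabilizer G a ⊓ stabilizer G (t • a)) (hd' : d' ∈ stabilizer G a ⊓ stabilizer G (t • a))
    (he : x * d = x' * d') : x = x' ∧ d = d' := by
  have hmem : x'⁻¹ * x ∈ Q ⊓ stabilizer G (t • a) := Subgroup.mem_inf.2 ⟨Q.mul_mem (Q.inv_mem hx') hx, by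
    rw [show x'⁻¹ * x = d' * d⁻¹ by rw [eq_mul_inv_iff_mul_eq, mul_assoc, he, inv_mul_cancel_left]]
    exact mul_mem (Subgroup.mem_inf.1 hd').2 (inv_mem (Subgroup.mem_inf.1 hd).2)⟩
  rw [h.inf_eq_bot, Subgroup.mem_bot, inv_mul_eq_one] at hmem
  subst hmem
  exact ⟨rfl, mul_left_cancel he⟩

/-- `Q` is transitive on the points other than `a`. -/
theorem exists_smul_eq (h : Cfsg.IsRankOneSetup G Ω a t Q) {b : Ω} (hb : b ≠ a) :
    ∃ x ∈ Q, x • (t • a) = b := by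
  obtain ⟨g, hga, hgb⟩ := is_two_pretransitive_iff.1 h.two_transitive (t_smul_ne h).symm hb.symm
  obtain ⟨x, hx, d, hd, rfl⟩ := exists_decomp h hga
  exact ⟨x, hx, by rwa [mul_smul, show d • (t • a) = t • a from hd.2] at hgb⟩

theorem eq_one_of_fix (h : Cfsg.IsRankOneSetup G Ω a t Q) {x : G} (hx : x ∈ Q) {b : Ω} (hb : b ≠ a)
    (hxb : x • b = b) : x = 1 := by
  obtain ⟨y, hy, rfl⟩ := exists_smul_eq h hb
  have hmem : y⁻¹ * x * y ∈ Q ⊓ stabilizer G (t • a) :=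
    Subgroup.mem_inf.2 ⟨Q.mul_mem (Q.mul_mem (Q.inv_mem hy) hx) hy, by
      rw [mem_stabilizer_iff, mul_smul, mul_smul, hxb, inv_smul_smul]⟩
  rw [h.inf_eq_bot, Subgroup.mem_bot] at hmem
  have := congrArg (fun z => y * z * y⁻¹) hmem
  simpa [mul_assoc] using this

theorem smul_ne_self (h : Cfsg.IsRankOneSetup G Ω a t Q) {x : G} (hx : x ∈ Q) {b : Ω} (hb : b ≠ a) :
    x • b ≠ a := by
  intro e
  apply hb
  have h1 : x • a = a := h.le hx
  exact smul_left_cancel x (e.trans h1.symm)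

theorem regular (h : Cfsg.IsRankOneSetup G Ω a t Q) {b c : Ω} (hb : b ≠ a) (hc : c ≠ a) :
    ∃! x : Q, (x : G) • b = c := by
  obtain ⟨x, hx, rfl⟩ := exists_smul_eq h hb
  obtain ⟨y, hy, rfl⟩ := exists_smul_eq h hc
  refine ⟨⟨y * x⁻¹, Q.mul_mem hy (Q.inv_mem hx)⟩, by simp [mul_smul], fun z hz => Subtype.ext ?_⟩
  have := eq_one_of_fix h (Q.mul_mem (Q.mul_mem (Q.inv_mem hy) z.2) hx) (t_smul_ne h)
    (by rw [mul_smul, mul_smul, hz, inv_smul_smul])
  rw [mul_assoc, inv_mul_eq_one] at this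
  exact eq_mul_inv_of_mul_eq this.symm

theorem exists_ne_one [Finite G] (h : Cfsg.IsRankOneSetup G Ω a t Q) : ∃ x ∈ Q, x ≠ 1 := by
  by_contra hcon
  push Not at hcon
  have : Q = ⊥ := (Subgroup.eq_bot_iff_forall Q).2 hcon
  exact absurd (this ▸ h.even_card) (by rw [Subgroup.card_bot]; decide)

theorem card_omega (h : Cfsg.IsRankOneSetup G Ω a t Q) [Finite G] : Nat.card Ω = Nat.card Q + 1 := by
  classical
  let e : Q ≃ {b : Ω // b ≠ a} := Equiv.ofBijective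
    (fun x => ⟨(x : G) • (t • a), smul_ne_self h x.2 (t_smul_ne h)⟩)
    ⟨fun x y hxy => (regular h (t_smul_ne h) (smul_ne_self h x.2 (t_smul_ne h))).unique rfl
      (congrArg Subtype.val hxy).symm,
    fun b => by
      obtain ⟨x, hx, he⟩ := exists_smul_eq h b.2
      exact ⟨⟨x, hx⟩, Subtype.ext he⟩⟩
  have : Finite {b : Ω // b ≠ a} := Finite.of_equiv _ e
  rw [← Nat.card_congr (Equiv.optionSubtypeNe a), Finite.card_option, Nat.card_congr e]

theorem card_stabilizer (h : Cfsg.IsRankOneSetup G Ω a t Q) :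
    Nat.card (stabilizer G a) = Nat.card Q * Nat.card ↥(stabilizer G a ⊓ stabilizer G (t • a)) := by
  rw [← Nat.card_prod]
  refine (Nat.card_congr (Equiv.ofBijective
    (fun p : Q × ↥(stabilizer G a ⊓ stabilizer G (t • a)) =>
      (⟨(p.1 : G) * p.2, mul_mem (h.le p.1.2) p.2.2.1⟩ : stabilizer G a)) ⟨?_, ?_⟩)).symm
  · rintro ⟨x, d⟩ ⟨x', d'⟩ he
    obtain ⟨e1, e2⟩ := decomp_unique h x.2 x'.2 d.2 d'.2 (congrArg Subtype.val he)
    exact Prod.ext (Subtype.ext e1) (Subtype.ext e2)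
  · rintro ⟨g, hg⟩
    obtain ⟨x, hx, d, hd, rfl⟩ := exists_decomp h hg
    exact ⟨(⟨x, hx⟩, ⟨d, hd⟩), rfl⟩

theorem card_group (h : Cfsg.IsRankOneSetup G Ω a t Q) [Finite G] :
    Nat.card G = Nat.card Q * Nat.card ↥(stabilizer G a ⊓ stabilizer G (t • a)) * (Nat.card Q + 1) := by
  haveI := h.two_transitive
  haveI : IsPretransitive G Ω := isPretransitive_of_is_two_pretransitive
  rw [← card_stabilizer h, ← card_omega h, ← index_stabilizer_of_transitive G a, Subgroup.card_mul_index]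

/-- Canonical form. -/
theorem existsUnique_canonical (h : Cfsg.IsRankOneSetup G Ω a t Q) {g : G} (hg : g ∉ stabilizer G a) :
    ∃! p : G × G, p.1 ∈ stabilizer G a ∧ p.2 ∈ Q ∧ g = p.1 * t * p.2 := by
  have hb : g⁻¹ • a ≠ a := fun e => hg (by
    rw [mem_stabilizer_iff]
    exact (eq_inv_smul_iff.1 e.symm))
  obtain ⟨y, hy, hye⟩ := exists_smul_eq h hb
  refine ⟨(g * y * t, y⁻¹), ⟨?_, Q.inv_mem hy, ?_⟩, ?_⟩
  · rw [mem_stabilizer_iff, mul_smul, mul_smul, hye, smul_inv_smul]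
  · simp [mul_assoc, h.mul_self]
  · rintro ⟨x', y'⟩ ⟨hx', hy', rfl⟩
    have he : y'⁻¹ • (t • a) = y • (t • a) := by
      rw [hye, eq_inv_smul_iff, mul_smul, mul_smul, smul_inv_smul, ← mul_smul t, h.mul_self, one_smul]
      exact hx'
    have h1 := eq_one_of_fix h (Q.mul_mem (Q.inv_mem hy) (Q.inv_mem hy')) (t_smul_ne h)
      (by rw [mul_smul, he, inv_smul_smul])
    rw [inv_mul_eq_one] at h1
    subst h1
    simp [mul_assoc, h.mul_self]

theorem parts_unique (h : Cfsg.IsRankOneSetup G Ω a t Q) {g g' c c' f f' : G} (hg : g ∈ Q) (hg' : g' ∈ Q)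
    (hc : c ∈ stabilizer G a ⊓ stabilizer G (t • a)) (hc' : c' ∈ stabilizer G a ⊓ stabilizer G (t • a))
    (hf : f ∈ Q) (hf' : f' ∈ Q) (he : g * c * t * f = g' * c' * t * f') :
    g = g' ∧ c = c' ∧ f = f' := by
  have hx : g * c * t * f ∉ stabilizer G a := by
    intro hm
    apply t_smul_ne h
    have h1 : g * c ∈ stabilizer G a := mul_mem (h.le hg) hc.1
    have := mul_mem (mul_mem (inv_mem h1) hm) (inv_mem (h.le hf))
    rwa [show (g * c)⁻¹ * (g * c * t * f) * f⁻¹ = t by group] at this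
  have hp := (existsUnique_canonical h hx).unique (y₁ := (g * c, f)) (y₂ := (g' * c', f'))
    ⟨mul_mem (h.le hg) hc.1, hf, rfl⟩ ⟨mul_mem (h.le hg') hc'.1, hf', he⟩
  obtain ⟨e1, e2⟩ := Prod.ext_iff.1 hp
  obtain ⟨e3, e4⟩ := decomp_unique h hg hg' hc hc' e1
  exact ⟨e3, e4, e2⟩

/-- Some Sylow 2-subgroup of `G` lies in `Q`. -/
theorem exists_sylow_two_le [Finite G] (h : Cfsg.IsRankOneSetup G Ω a t Q) :
    ∃ P : Sylow 2 G, (P : Subgroup G) ≤ Q := by
  obtain ⟨P⟩ : Nonempty (Sylow 2 ↥Q) := inferInstance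
  have hodd : ¬ 2 ∣ Nat.card ↥(stabilizer G a ⊓ stabilizer G (t • a)) * (Nat.card Q + 1) := by
    intro hd
    rcases (Nat.Prime.dvd_mul Nat.prime_two).1 hd with h' | h'
    · exact absurd h.odd_card (Nat.not_odd_iff_even.2 (even_iff_two_dvd.2 h'))
    · exact absurd (h.even_card.add_one) (Nat.not_odd_iff_even.2 (even_iff_two_dvd.2 h'))
  refine ⟨Sylow.ofCard ((P : Subgroup ↥Q).map Q.subtype) ?_, Subgroup.map_subtype_le _⟩
  rw [Nat.card_congr ((P : Subgroup ↥Q).equivMapOfInjective _ Q.subtype_injective).toEquiv.symm,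
    Sylow.card_eq_multiplicity, card_group h, mul_assoc,
    Nat.factorization_mul Nat.card_pos.ne' (fun e => hodd (by rw [e]; exact dvd_zero 2)), Finsupp.add_apply,
    Nat.factorization_eq_zero_of_not_dvd hodd, add_zero]

end Cfsg.Agent.RankOne.Setup
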