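import Cfsg.Agent.Lib.RankOne.SL2
/-!
A criterion for homomorphisms out of `SL₂(k)`, `k` a field with cyclic unit group in which `1` is
a sum of two non-squares (whenever non-squares exist): two one-parameter families satisfying the
braid and Weyl relations define a homomorphism (`SL2Data.hom`).
-/

set_option autoImplicit false

namespace Cfsg.Agent.RankOne

open Cfsg
open scoped MatrixGroups

/-- Steinberg relations for rank one. -/
structure SL2Data (k : Type*) [Field k] (G : Type*) [Group G] where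
  xp : k → G
  xm : k → G
  xp_add : ∀ s t, xp (s + t) = xp s * xp t
  xm_add : ∀ s t, xm (s + t) = xm s * xm t
  braid : ∀ t, t ≠ 0 → xp t * xm t⁻¹ * xp t = xm t⁻¹ * xp t * xm t⁻¹
  conj_p : ∀ t, t ≠ 0 → ∀ u, (xp t * xm t⁻¹ * xp t) * xp u * (xp t * xm t⁻¹ * xp t)⁻¹ = xm (u / (t * t))
  conj_m : ∀ t, t ≠ 0 → ∀ u, (xp t * xm t⁻¹ * xp t) * xm u * (xp t * xm t⁻¹ * xp t)⁻¹ = xp (t * t * u)

namespace SL2Data

variable {k : Type*} [Field k] {G : Type*} [Group G] (D : SL2Data k G)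

theorem xp_zero : D.xp 0 = 1 := by simpa using D.xp_add 0 0

theorem xm_zero : D.xm 0 = 1 := by simpa using D.xm_add 0 0

theorem xp_neg (t : k) : D.xp (-t) = (D.xp t)⁻¹ :=
  eq_inv_of_mul_eq_one_left (by rw [← D.xp_add, neg_add_cancel, xp_zero])

theorem xm_neg (t : k) : D.xm (-t) = (D.xm t)⁻¹ :=
  eq_inv_of_mul_eq_one_left (by rw [← D.xm_add, neg_add_cancel, xm_zero])

/-- `n(t)`. -/
def n (t : k) : G := D.xp t * D.xm t⁻¹ * D.xp t

/-- `h(t) = n(t) n(-1)`. -/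
def h (t : k) : G := D.n t * D.n (-1)

theorem n_xp {t : k} (ht : t ≠ 0) (u : k) : D.n t * D.xp u * (D.n t)⁻¹ = D.xm (u / (t * t)) :=
  D.conj_p t ht u

theorem n_xm {t : k} (ht : t ≠ 0) (u : k) : D.n t * D.xm u * (D.n t)⁻¹ = D.xp (t * t * u) :=
  D.conj_m t ht u

theorem n_neg (t : k) : D.n (-t) = (D.n t)⁻¹ := by
  rw [n, n, inv_neg, xp_neg, xm_neg]; group

theorem n_one_inv : (D.n 1)⁻¹ = D.n (-1) := (D.n_neg 1).symm

theorem h_one : D.h 1 = 1 := by rw [h, n_neg, mul_inv_cancel]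

theorem n_eq_h_mul (t : k) : D.n t = D.h t * D.n 1 := by rw [h, n_neg, inv_mul_cancel_right]

theorem n_conj_n {s t : k} (hs : s ≠ 0) (ht : t ≠ 0) :
    D.n s * D.n t * (D.n s)⁻¹ = D.n (s * s / t) := by
  have e : D.n s * D.n t * (D.n s)⁻¹ = (D.n s * D.xp t * (D.n s)⁻¹) * (D.n s * D.xm t⁻¹ * (D.n s)⁻¹) *
      (D.n s * D.xp t * (D.n s)⁻¹) := by
    rw [show D.n t = D.xp t * D.xm t⁻¹ * D.xp t from rfl]; group
  rw [e, D.n_xp hs, D.n_xm hs,
    show D.n (s * s / t) = D.xp (s * s / t) * D.xm (s * s / t)⁻¹ * D.xp (s * s / t) from rfl]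
  have hne : s * s / t ≠ 0 := div_ne_zero (mul_ne_zero hs hs) ht
  rw [D.braid _ hne, inv_div, div_eq_mul_inv, div_eq_mul_inv]

theorem n_neg_one_xp (u : k) : D.n (-1) * D.xp u * (D.n (-1))⁻¹ = D.xm u := by
  rw [D.n_xp (neg_ne_zero.2 one_ne_zero)]; simp

theorem n_neg_one_xm (u : k) : D.n (-1) * D.xm u * (D.n (-1))⁻¹ = D.xp u := by
  rw [D.n_xm (neg_ne_zero.2 one_ne_zero)]; simp

theorem h_xp {s : k} (hs : s ≠ 0) (u : k) : D.h s * D.xp u * (D.h s)⁻¹ = D.xp (s * s * u) := by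
  rw [h, mul_inv_rev, ← D.n_xm hs, ← D.n_neg_one_xp]; group

theorem h_xm {s : k} (hs : s ≠ 0) (u : k) : D.h s * D.xm u * (D.h s)⁻¹ = D.xm (u / (s * s)) := by
  rw [h, mul_inv_rev, ← D.n_xp hs, ← D.n_neg_one_xm]; group

theorem h_conj_h {s t : k} (hs : s ≠ 0) (ht : t ≠ 0) :
    D.h s * D.h t * (D.h s)⁻¹ = D.h (s * s * t) * (D.h (s * s))⁻¹ := by
  have hn : ∀ r : k, r ≠ 0 → D.h s * D.n r * (D.h s)⁻¹ = D.n (s * s * r) := by
    intro r hr
    have e1 : D.n (-1) * D.n r * (D.n (-1))⁻¹ = D.n r⁻¹ := by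
      rw [D.n_conj_n (neg_ne_zero.2 one_ne_zero) hr]; simp
    have e2 : D.n s * D.n r⁻¹ * (D.n s)⁻¹ = D.n (s * s * r) := by
      rw [D.n_conj_n hs (inv_ne_zero hr), div_inv_eq_mul]
    rw [← e2, ← e1, h, mul_inv_rev]; group
  have e3 : D.h s * D.h t * (D.h s)⁻¹ =
      (D.h s * D.n t * (D.h s)⁻¹) * (D.h s * D.n (-1) * (D.h s)⁻¹) := by
    rw [show D.h t = D.n t * D.n (-1) from rfl]; group
  rw [e3, hn t ht, hn (-1) (neg_ne_zero.2 one_ne_zero), h, h, mul_neg_one, D.n_neg (s * s)]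
  group

/-- The key relation: multiplicativity at a pair with `t + u = 1`. -/
theorem h_mul_of_add_eq_one {t u : k} (ht : t ≠ 0) (hu : u ≠ 0) (htu : t + u = 1) :
    D.h (t * u) = D.h t * D.h u := by
  have hxm : ∀ r : k, r ≠ 0 → D.xm r⁻¹ = D.xp (-r) * D.n r * D.xp (-r) := by
    intro r _; rw [n, xp_neg]; group
  have hm : D.xp (-1) = D.xm 1 * D.n (-1) * D.xm 1 := by
    have hb := D.braid (-1) (neg_ne_zero.2 one_ne_zero)
    rw [n, hb, inv_neg, inv_one, xm_neg]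
    group
  have hsum : D.xm (t * u)⁻¹ = D.xm t⁻¹ * D.xm u⁻¹ := by
    rw [← D.xm_add]; congr 1
    rw [inv_eq_one_div, inv_eq_one_div, inv_eq_one_div, div_add_div _ _ ht hu, one_mul, mul_one,
      add_comm, htu]
  rw [hxm _ (mul_ne_zero ht hu), hxm _ ht, hxm _ hu] at hsum
  have e1 : D.xp (-t) * D.xp (-u) = D.xp (-1) := by rw [← D.xp_add, ← neg_add, htu]
  have e2 : D.n t * D.xm 1 = D.xp (t * t) * D.n t := by
    rw [← mul_inv_eq_iff_eq_mul, D.n_xm ht, mul_one]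
  have e3 : D.xm 1 * D.n u = D.n u * D.xp (u * u) := by
    have := D.n_xp hu (u * u)
    rw [div_self (mul_ne_zero hu hu)] at this
    rw [← this]; group
  have key : D.n (t * u) = D.n t * D.n (-1) * D.n u := by
    have : D.xp (-(t * u)) * D.n (t * u) * D.xp (-(t * u)) =
        D.xp (-t + t * t) * (D.n t * D.n (-1) * D.n u) * D.xp (u * u + -u) := by
      rw [hsum, D.xp_add, D.xp_add]
      calc _ = D.xp (-t) * D.n t * (D.xp (-t) * D.xp (-u)) * D.n u * D.xp (-u) := by group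
        _ = D.xp (-t) * (D.n t * D.xm 1) * D.n (-1) * (D.xm 1 * D.n u) * D.xp (-u) := by
            rw [e1, hm]; group
        _ = _ := by rw [e2, e3]; group
    have a1 : -t + t * t = -(t * u) := by linear_combination (t : k) * htu
    have a2 : u * u + -u = -(t * u) := by linear_combination (u : k) * htu
    rw [a1, a2] at this
    exact mul_left_cancel (mul_right_cancel this)
  rw [h, key, h, h]; group

/-- The subgroup of elements commuting with both root families. -/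
def rootCentralizer : Subgroup G :=
  Subgroup.centralizer (Set.range D.xp ∪ Set.range D.xm)

theorem commute_h {z : G} (hz : z ∈ D.rootCentralizer) (t : k) : Commute z (D.h t) := by
  have hp : ∀ r, Commute z (D.xp r) := fun r => (hz _ (Or.inl ⟨r, rfl⟩)).symm
  have hm : ∀ r, Commute z (D.xm r) := fun r => (hz _ (Or.inr ⟨r, rfl⟩)).symm
  have hn : ∀ r, Commute z (D.n r) := fun r => ((hp r).mul_right (hm r⁻¹)).mul_right (hp r)
  exact (hn t).mul_right (hn (-1))

theorem h_mul_mem_rootCentralizer {s t : k} (hs : s ≠ 0) (ht : t ≠ 0) :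
    (D.h (s * t))⁻¹ * (D.h s * D.h t) ∈ D.rootCentralizer := by
  have hst := mul_ne_zero hs ht
  rw [rootCentralizer, Subgroup.mem_centralizer_iff]
  have key : ∀ x : G, D.h (s * t) * x * (D.h (s * t))⁻¹ = D.h s * (D.h t * x * (D.h t)⁻¹) * (D.h s)⁻¹ →
      x * ((D.h (s * t))⁻¹ * (D.h s * D.h t)) = (D.h (s * t))⁻¹ * (D.h s * D.h t) * x := by
    intro x hx
    have := congrArg (fun z => (D.h (s * t))⁻¹ * z * (D.h s * D.h t)) hx
    simpa [mul_assoc] using this
  rintro x (⟨r, rfl⟩ | ⟨r, rfl⟩)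
  · apply key
    rw [D.h_xp hst, D.h_xp ht, D.h_xp hs]; congr 1; ring
  · apply key
    rw [D.h_xm hst, D.h_xm ht, D.h_xm hs]; congr 1; field_simp

variable [IsCyclic kˣ]

theorem h_comm {s t : k} (hs : s ≠ 0) (ht : t ≠ 0) : Commute (D.h s) (D.h t) := by
  obtain ⟨g, hg⟩ := IsCyclic.exists_generator (α := kˣ)
  let C : Subgroup G := Subgroup.zpowers (D.h (g : k)) ⊔ D.rootCentralizer
  have hclosed : ∀ x y : k, x ≠ 0 → y ≠ 0 → D.h x ∈ C → D.h y ∈ C → D.h (x * y) ∈ C := by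
    intro x y hx hy hxC hyC
    have := C.mul_mem (C.mul_mem hxC hyC)
      (C.inv_mem (Subgroup.mem_sup_right (D.h_mul_mem_rootCentralizer hx hy)))
    simpa [mul_assoc] using this
  let P : Subgroup kˣ :=
    { carrier := {u | D.h (u : k) ∈ C ∧ D.h ((u⁻¹ : kˣ) : k) ∈ C}
      one_mem' := by simp [h_one]
      mul_mem' := fun {x y} hx hy => ⟨by
        rw [Units.val_mul]; exact hclosed _ _ x.ne_zero y.ne_zero hx.1 hy.1, by
        rw [mul_inv, Units.val_mul]; exact hclosed _ _ (Units.ne_zero _) (Units.ne_zero _) hx.2 hy.2⟩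
      inv_mem' := fun {x} hx => by simpa [and_comm] using hx }
  have hgC : D.h (g : k) ∈ C := Subgroup.mem_sup_left (Subgroup.mem_zpowers _)
  have hgi : D.h ((g⁻¹ : kˣ) : k) ∈ C := by
    have h2 := D.h_mul_mem_rootCentralizer g.ne_zero (g⁻¹).ne_zero
    rw [Units.mul_inv, h_one, inv_one, one_mul] at h2
    exact (C.mul_mem_cancel_left hgC).1 (Subgroup.mem_sup_right h2)
  have hall : ∀ x : k, x ≠ 0 → D.h x ∈ C := by
    intro x hx
    obtain ⟨i, hi⟩ := hg (Units.mk0 x hx)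
    have : Units.mk0 x hx ∈ P := hi ▸ P.zpow_mem (show g ∈ P from ⟨hgC, hgi⟩) i
    exact this.1
  have h1 : ∀ x : k, x ≠ 0 → Commute (D.h x) (D.h (g : k)) := by
    intro x hx
    have hx' := hall x hx
    have hle : C ≤ Subgroup.centralizer {D.h (g : k)} :=
      sup_le (Subgroup.zpowers_le.2 fun y hy => by rw [Set.mem_singleton_iff] at hy; rw [hy])
        fun z hz y hy => by
          rw [Set.mem_singleton_iff] at hy; rw [hy]; exact (D.commute_h hz _).symm
    exact (hle hx' _ rfl).symm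
  have hle : C ≤ Subgroup.centralizer {D.h s} :=
    sup_le (Subgroup.zpowers_le.2 fun y hy => by
        rw [Set.mem_singleton_iff] at hy; rw [hy]; exact h1 s hs)
      fun z hz y hy => by rw [Set.mem_singleton_iff] at hy; rw [hy]; exact (D.commute_h hz _).symm
  exact hle (hall t ht) _ rfl

theorem h_sq_mul {s t : k} (hs : s ≠ 0) (ht : t ≠ 0) :
    D.h (s * s * t) = D.h (s * s) * D.h t := by
  have h1 := D.h_conj_h hs ht
  rw [(D.h_comm hs ht).eq, mul_inv_cancel_right, eq_mul_inv_iff_mul_eq] at h1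
  rw [← h1, (D.h_comm ht (mul_ne_zero hs hs)).eq]

/-- Hypothesis on the field: either all elements are squares, or `1` is a sum of two non-squares. -/
theorem h_mul (hsplit : ∀ q : k, ¬ IsSquare q → ∃ u : k, ¬ IsSquare u ∧ ¬ IsSquare (1 - u))
    {s t : k} (hs : s ≠ 0) (ht : t ≠ 0) : D.h (s * t) = D.h s * D.h t := by
  by_cases h1 : IsSquare s
  · obtain ⟨r, rfl⟩ := h1
    exact D.h_sq_mul (left_ne_zero_of_mul hs) ht
  by_cases h2 : IsSquare t
  · obtain ⟨r, rfl⟩ := h2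
    rw [mul_comm s, D.h_sq_mul (left_ne_zero_of_mul ht) hs, (D.h_comm ht hs).eq]
  obtain ⟨u, hu, hv⟩ := hsplit s h1
  have hu0 : u ≠ 0 := fun e => hu (e ▸ IsSquare.zero)
  have hv0 : 1 - u ≠ 0 := fun e => hv (e ▸ IsSquare.zero)
  have key : ∀ {x y : k}, x ≠ 0 → y ≠ 0 → ¬ IsSquare x → ¬ IsSquare y →
      ∃ r, r ≠ 0 ∧ x = r * r * y := by
    intro x y hx hy hnx hny
    obtain ⟨g, hg⟩ := IsCyclic.exists_generator (α := kˣ)
    obtain ⟨i, hi⟩ := hg (Units.mk0 x hx)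
    obtain ⟨j, hj⟩ := hg (Units.mk0 y hy)
    have hodd : ∀ {z : k} (hz : z ≠ 0) {m : ℤ}, g ^ m = Units.mk0 z hz → ¬ IsSquare z → Odd m := by
      intro z hz m hm hns
      rw [← Int.not_even_iff_odd]
      rintro ⟨l, rfl⟩
      exact hns ⟨((g ^ l : kˣ) : k), by rw [← Units.val_mul, ← zpow_add, hm]; rfl⟩
    obtain ⟨l, hl⟩ := (hodd hx hi hnx).sub_odd (hodd hy hj hny)
    refine ⟨((g ^ l : kˣ) : k), Units.ne_zero _, ?_⟩
    have e : Units.mk0 x hx = g ^ l * g ^ l * Units.mk0 y hy := by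
      rw [← hi, ← hj, ← zpow_add, ← zpow_add]; congr 1; omega
    simpa using congrArg (Units.val) e
  obtain ⟨r, hr, rfl⟩ := key hs hu0 h1 hu
  obtain ⟨q, hq, rfl⟩ := key ht hv0 h2 hv
  have hrq := mul_ne_zero hr hq
  rw [show r * r * u * (q * q * (1 - u)) = r * q * (r * q) * (u * (1 - u)) by ring,
    D.h_sq_mul hrq (mul_ne_zero hu0 hv0), D.h_mul_of_add_eq_one hu0 hv0 (add_sub_cancel _ _),
    show r * q * (r * q) = r * r * (q * q) by ring, D.h_sq_mul hr (mul_ne_zero hq hq),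
    D.h_sq_mul hr hu0, D.h_sq_mul hq hv0]
  simp only [mul_assoc]
  rw [← mul_assoc (D.h (q * q)) (D.h u), (D.h_comm (mul_ne_zero hq hq) hu0).eq, mul_assoc]

open Classical in
/-- The map `SL₂(k) → G` in Bruhat normal form. -/
noncomputable def fn (g : SL(2, k)) : G :=
  if g.1 1 0 = 0 then D.xp (g.1 0 1 * g.1 0 0 ) * D.h (g.1 0 0)
  else D.xp (g.1 0 0 / g.1 1 0) * D.h (-(g.1 1 0)⁻¹) * D.n 1 * D.xp (g.1 1 1 / g.1 1 0)

theorem fn_of_zero {g : SL(2, k)} (hc : g.1 1 0 = 0) :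
    D.fn g = D.xp (g.1 0 1 * g.1 0 0) * D.h (g.1 0 0) := if_pos hc

theorem fn_of_ne {g : SL(2, k)} (hc : g.1 1 0 ≠ 0) :
    D.fn g = D.xp (g.1 0 0 / g.1 1 0) * D.h (-(g.1 1 0)⁻¹) * D.n 1 * D.xp (g.1 1 1 / g.1 1 0) :=
  if_neg hc

theorem fn_one : D.fn 1 = 1 := by simp [fn, xp_zero, h_one]

variable (hsplit : ∀ q : k, ¬ IsSquare q → ∃ u : k, ¬ IsSquare u ∧ ¬ IsSquare (1 - u))
include hsplit

theorem fn_up_mul (x : k) (g : SL(2, k)) : D.fn (upSL x * g) = D.xp x * D.fn g := by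
  have hdet := g.2
  rw [Matrix.det_fin_two] at hdet
  have e00 : (upSL x * g).1 0 0 = g.1 0 0 + x * g.1 1 0 := by
    simp [coe_upSL, Matrix.mul_apply, Fin.sum_univ_two]
  have e01 : (upSL x * g).1 0 1 = g.1 0 1 + x * g.1 1 1 := by
    simp [coe_upSL, Matrix.mul_apply, Fin.sum_univ_two]
  have e10 : (upSL x * g).1 1 0 = g.1 1 0 := by
    simp [coe_upSL, Matrix.mul_apply, Fin.sum_univ_two]
  have e11 : (upSL x * g).1 1 1 = g.1 1 1 := by
    simp [coe_upSL, Matrix.mul_apply, Fin.sum_univ_two]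
  by_cases hc : g.1 1 0 = 0
  · rw [D.fn_of_zero (e10.trans hc), D.fn_of_zero hc, ← mul_assoc, ← D.xp_add, e01, e00, hc,
      mul_zero, add_zero]
    congr 2
    rw [hc, mul_zero, sub_zero] at hdet
    linear_combination (x : k) * hdet
  · rw [D.fn_of_ne (by rwa [e10]), D.fn_of_ne hc, e00, e10, e11,
      ← mul_assoc (D.xp x), ← mul_assoc (D.xp x), ← mul_assoc (D.xp x), ← D.xp_add]
    congr 4
    field_simp
    ring

/-- The Weyl element `(0 1; -1 0)`. -/
def wSL (k : Type*) [Field k] : SL(2, k) := ⟨!![0, 1; -1, 0], by simp [Matrix.det_fin_two]⟩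

omit hsplit [IsCyclic kˣ] in
theorem coe_wSL : ((wSL k : SL(2, k)) : Matrix (Fin 2) (Fin 2) k) = !![0, 1; -1, 0] := rfl

theorem fn_w_mul (g : SL(2, k)) : D.fn (wSL k * g) = D.n 1 * D.fn g := by
  have hdet := g.2
  rw [Matrix.det_fin_two] at hdet
  have hhn : ∀ a : k, a ≠ 0 → D.n 1 * D.h a = D.h a⁻¹ * D.n 1 := by
    intro a ha
    have e1 : D.n 1 * D.n a * (D.n 1)⁻¹ = D.n a⁻¹ := by rw [D.n_conj_n one_ne_zero ha]; simp
    rw [h, h, ← e1, D.n_neg]; group
  have hxh : ∀ a u : k, a ≠ 0 → D.xp (a * a * u) * D.h a = D.h a * D.xp u := by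
    intro a u ha; rw [← D.h_xp ha]; group
  have hnn : D.n 1 * D.n 1 = D.h (-1) := by
    have h4 : D.h (-1) * D.h (-1) = 1 := by
      rw [← D.h_mul hsplit (neg_ne_zero.2 one_ne_zero) (neg_ne_zero.2 one_ne_zero), neg_mul_neg,
        one_mul, h_one]
    rw [← inv_eq_of_mul_eq_one_right h4, h, D.n_neg]; simp [mul_inv_rev]
  generalize ha : g.1 0 0 = a at hdet
  generalize hb : g.1 0 1 = b at hdet
  generalize hc : g.1 1 0 = c at hdet
  generalize hd : g.1 1 1 = d at hdet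
  have w00 : (wSL k * g).1 0 0 = c := by simp [coe_wSL, Matrix.mul_apply, Fin.sum_univ_two, hc]
  have w01 : (wSL k * g).1 0 1 = d := by simp [coe_wSL, Matrix.mul_apply, Fin.sum_univ_two, hd]
  have w10 : (wSL k * g).1 1 0 = -a := by simp [coe_wSL, Matrix.mul_apply, Fin.sum_univ_two, ha]
  have w11 : (wSL k * g).1 1 1 = -b := by simp [coe_wSL, Matrix.mul_apply, Fin.sum_univ_two, hb]
  by_cases hc0 : c = 0
  · have ha0 : a ≠ 0 := by
      intro e; simp [e, hc0] at hdet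
    rw [D.fn_of_ne (by rw [w10]; simpa using ha0), D.fn_of_zero (hc.trans hc0), w00, w10, w11, ha, hb,
      hc0, zero_div, D.xp_zero, one_mul,
      inv_neg, neg_neg, neg_div_neg_eq, show b * a = a * a * (b / a) by field_simp, hxh _ _ ha0,
      ← mul_assoc (D.n 1), hhn a ha0]
  by_cases ha0 : a = 0
  · rw [D.fn_of_zero (by rw [w10, ha0, neg_zero]), D.fn_of_ne (by rwa [hc]), w00, w01, ha, hc, hd,
      ha0, zero_div, D.xp_zero, one_mul]
    have hc1 : -c⁻¹ ≠ 0 := neg_ne_zero.2 (inv_ne_zero hc0)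
    rw [← mul_assoc (D.n 1), ← mul_assoc (D.n 1), hhn _ hc1, mul_assoc _ (D.n 1) (D.n 1), hnn,
      ← D.h_mul hsplit (inv_ne_zero hc1) (neg_ne_zero.2 one_ne_zero), ← hxh _ _
        (mul_ne_zero (inv_ne_zero hc1) (neg_ne_zero.2 one_ne_zero)), inv_neg, inv_inv, neg_mul_neg,
      mul_one]
    congr 2
    field_simp
  · rw [D.fn_of_ne (by rw [w10]; simpa using ha0), D.fn_of_ne (by rwa [hc]), w00, w10, w11, ha, hc, hd]
    have hx : a / c ≠ 0 := div_ne_zero ha0 hc0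
    have hxm : D.xm (a / c) = D.xp (-(c / a)) * D.n (c / a) * D.xp (-(c / a)) := by
      rw [n, D.xp_neg, inv_div]; group
    have hc1 : -c⁻¹ ≠ 0 := neg_ne_zero.2 (inv_ne_zero hc0)
    have e1 : D.n 1 * D.xp (a / c) = D.xm (a / c) * D.n 1 := by
      rw [← mul_inv_eq_iff_eq_mul, D.n_xp one_ne_zero, one_mul, div_one]
    have e2 : D.n 1 * D.h (-c⁻¹) * D.n 1 = D.h c := by
      rw [hhn _ hc1, mul_assoc, hnn, ← D.h_mul hsplit (inv_ne_zero hc1) (neg_ne_zero.2 one_ne_zero)]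
      simp
    symm
    calc D.n 1 * (D.xp (a / c) * D.h (-c⁻¹) * D.n 1 * D.xp (d / c))
        = (D.n 1 * D.xp (a / c)) * D.h (-c⁻¹) * D.n 1 * D.xp (d / c) := by group
      _ = D.xm (a / c) * (D.n 1 * D.h (-c⁻¹) * D.n 1) * D.xp (d / c) := by rw [e1]; group
      _ = D.xp (-(c / a)) * D.n (c / a) * (D.xp (-(c / a)) * D.h c) * D.xp (d / c) := by
          rw [e2, hxm]; group
      _ = D.xp (-(c / a)) * D.n (c / a) * (D.h c * D.xp (-(c / a) / (c * c))) * D.xp (d / c) := by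
          rw [← hxh c _ hc0]; congr 4; field_simp
      _ = D.xp (-(c / a)) * D.h (c / a) * (D.n 1 * D.h c) *
            (D.xp (-(c / a) / (c * c)) * D.xp (d / c)) := by
          rw [D.n_eq_h_mul (c / a)]; group
      _ = D.xp (c / -a) * D.h (-(-a)⁻¹) * D.n 1 * D.xp (-b / -a) := by
          rw [hhn c hc0, ← mul_assoc _ (D.h c⁻¹), mul_assoc (D.xp _) (D.h (c / a)) (D.h c⁻¹),
            ← D.h_mul hsplit (div_ne_zero hc0 ha0) (inv_ne_zero hc0), ← D.xp_add]
          congr 1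
          · congr 3
            · rw [div_neg]
            · field_simp
          · congr 1
            field_simp
            linear_combination hdet

/-- The homomorphism `SL₂(k) → G`. -/
noncomputable def hom : SL(2, k) →* G :=
  MonoidHom.mk' D.fn fun x y => by
    let S : Subgroup SL(2, k) :=
      { carrier := {x | ∀ y, D.fn (x * y) = D.fn x * D.fn y}
        one_mem' := fun y => by rw [one_mul, fn_one, one_mul]
        mul_mem' := fun {x x'} hx hx' y => by rw [mul_assoc, hx, hx', hx x', mul_assoc]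
        inv_mem' := fun {x} hx y => by
          have h1 := hx (x⁻¹ * y)
          have h2 := hx x⁻¹
          rw [mul_inv_cancel_left] at h1
          rw [mul_inv_cancel, fn_one] at h2
          rw [h1, ← mul_assoc, mul_eq_one_comm.1 h2.symm, one_mul] }
    have hup : ∀ t, upSL t ∈ S := fun t y => by
      have h1 := D.fn_up_mul hsplit t 1
      rw [mul_one, fn_one, mul_one] at h1
      rw [D.fn_up_mul hsplit, h1]
    have hw : wSL k ∈ S := fun y => by
      have h1 := D.fn_w_mul hsplit 1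
      rw [mul_one, fn_one, mul_one] at h1
      rw [D.fn_w_mul hsplit, h1]
    have hS : S = ⊤ := by
      rw [eq_top_iff, ← lower_sup_upper]
      refine sup_le (fun z hz => ?_) (fun z hz => ?_)
      · obtain ⟨t, rfl⟩ := mem_lowerUnipotentSL2.1 hz
        have e : loSL t = wSL k * upSL (-t) * (wSL k)⁻¹ := by
          rw [eq_mul_inv_iff_mul_eq]
          apply Subtype.ext
          simp [coe_wSL, coe_loSL, coe_upSL]
        rw [e]
        exact S.mul_mem (S.mul_mem hw (hup _)) (S.inv_mem hw)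
      · obtain ⟨t, rfl⟩ := mem_upperUnipotentSL2.1 hz
        exact hup t
    exact (show x ∈ S from hS ▸ Subgroup.mem_top x) y

theorem hom_upSL (t : k) : D.hom hsplit (upSL t) = D.xp t := by
  have := D.fn_up_mul hsplit t 1
  rwa [mul_one, fn_one, mul_one] at this

theorem hom_loSL (t : k) : D.hom hsplit (loSL t) = D.xm (-t) := by
  rcases eq_or_ne t 0 with rfl | ht
  · rw [loSL_zero, map_one, neg_zero, xm_zero]
  change D.fn (loSL t) = _
  have e00 : (loSL t).1 0 0 = 1 := rfl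
  have e10 : (loSL t).1 1 0 = t := rfl
  have e11 : (loSL t).1 1 1 = 1 := rfl
  rw [D.fn_of_ne (by rwa [e10]), e00, e10, e11, mul_assoc (D.xp _), ← D.n_eq_h_mul, n, one_div, inv_neg, inv_inv, D.xp_neg]
  group

end SL2Data

/-- `1` is a sum of two non-squares in `ZMod p` if there are non-squares. -/
theorem zmod_split {p : ℕ} [Fact p.Prime] (q : ZMod p) (hq : ¬ IsSquare q) :
    ∃ u : ZMod p, ¬ IsSquare u ∧ ¬ IsSquare (1 - u) := by
  have hq0 : q ≠ 0 := fun e => hq (e ▸ IsSquare.zero)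
  obtain ⟨a, b, hab⟩ := ZMod.sq_add_sq p q⁻¹
  have ha : a ≠ 0 := by
    rintro rfl
    exact hq ⟨b⁻¹, by rw [← mul_inv, ← sq, ← inv_inv q, ← hab]; simp⟩
  have hb : b ≠ 0 := by
    rintro rfl
    exact hq ⟨a⁻¹, by rw [← mul_inv, ← sq, ← inv_inv q, ← hab]; simp⟩
  have key : ∀ x : ZMod p, x ≠ 0 → ¬ IsSquare (q * x ^ 2) := by
    rintro x hx ⟨r, hr⟩
    exact hq ⟨r / x, by rw [div_mul_div_comm, ← hr]; field_simp⟩
  refine ⟨q * a ^ 2, key a ha, ?_⟩
  have : 1 - q * a ^ 2 = q * b ^ 2 := by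
    have h1 := mul_inv_cancel₀ hq0
    rw [← hab] at h1
    linear_combination -h1
  rw [this]
  exact key b hb

end Cfsg.Agent.RankOne
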