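import Cfsg.Agent.Lib.RankOne.Basic
/-!
`SL₂(k)` with its two unitriangular subgroups as a special rank one group:
`upSL`, `loSL`, membership in `upperUnipotentSL2` / `lowerUnipotentSL2`, generation,
`isSpecialRankOnePair_SL2`.
-/

set_option autoImplicit false

namespace Cfsg.Agent.RankOne

open Cfsg
open scoped MatrixGroups

variable {k : Type*} [Field k]

/-- The upper unitriangular matrix with entry `t`. -/
def upSL (t : k) : SL(2, k) := ⟨!![1, t; 0, 1], by simp [Matrix.det_fin_two]⟩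

/-- The lower unitriangular matrix with entry `t`. -/
def loSL (t : k) : SL(2, k) := ⟨!![1, 0; t, 1], by simp [Matrix.det_fin_two]⟩

theorem coe_upSL (t : k) : ((upSL t : SL(2, k)) : Matrix (Fin 2) (Fin 2) k) = !![1, t; 0, 1] := rfl

theorem coe_loSL (t : k) : ((loSL t : SL(2, k)) : Matrix (Fin 2) (Fin 2) k) = !![1, 0; t, 1] := rfl

theorem upSL_mul (s t : k) : upSL s * upSL t = upSL (s + t) := by
  apply Subtype.ext
  simp [coe_upSL, add_comm]

theorem loSL_mul (s t : k) : loSL s * loSL t = loSL (s + t) := by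
  apply Subtype.ext
  simp [coe_loSL]

theorem upSL_zero : upSL (0 : k) = 1 := by
  apply Subtype.ext
  simp [coe_upSL, Matrix.one_fin_two]

theorem loSL_zero : loSL (0 : k) = 1 := by
  apply Subtype.ext
  simp [coe_loSL, Matrix.one_fin_two]

theorem upSL_inv (t : k) : (upSL t)⁻¹ = upSL (-t) :=
  inv_eq_of_mul_eq_one_right (by rw [upSL_mul, add_neg_cancel, upSL_zero])

theorem loSL_inv (t : k) : (loSL t)⁻¹ = loSL (-t) :=
  inv_eq_of_mul_eq_one_right (by rw [loSL_mul, add_neg_cancel, loSL_zero])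

theorem upSL_eq_one_iff {t : k} : upSL t = 1 ↔ t = 0 := by
  refine ⟨fun h => ?_, fun h => h ▸ upSL_zero⟩
  simpa [coe_upSL] using congrArg (fun g : SL(2, k) => (g : Matrix (Fin 2) (Fin 2) k) 0 1) h

theorem loSL_eq_one_iff {t : k} : loSL t = 1 ↔ t = 0 := by
  refine ⟨fun h => ?_, fun h => h ▸ loSL_zero⟩
  simpa [coe_loSL] using congrArg (fun g : SL(2, k) => (g : Matrix (Fin 2) (Fin 2) k) 1 0) h

theorem upSL_ne_loSL {s : k} (t : k) (hs : s ≠ 0) : upSL s ≠ loSL t := fun h => hs (by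
  simpa [coe_upSL, coe_loSL] using congrArg (fun g : SL(2, k) => (g : Matrix (Fin 2) (Fin 2) k) 0 1) h)

/-- `t ↦ upSL t` as a homomorphism. -/
def upHom (k : Type*) [Field k] : Multiplicative k →* SL(2, k) :=
  MonoidHom.mk' (fun t => upSL t.toAdd) fun _ _ => (upSL_mul _ _).symm

/-- `t ↦ loSL t` as a homomorphism. -/
def loHom (k : Type*) [Field k] : Multiplicative k →* SL(2, k) :=
  MonoidHom.mk' (fun t => loSL t.toAdd) fun _ _ => (loSL_mul _ _).symm

theorem mem_upperUnipotentSL2 {g : SL(2, k)} : g ∈ upperUnipotentSL2 k ↔ ∃ t, g = upSL t := by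
  have : {g : SL(2, k) | (g : Matrix (Fin 2) (Fin 2) k) 1 0 = 0 ∧ (g : Matrix (Fin 2) (Fin 2) k) 0 0 = 1 ∧
      (g : Matrix (Fin 2) (Fin 2) k) 1 1 = 1} = ((upHom k).range : Set SL(2, k)) := by
    ext g
    constructor
    · rintro ⟨h1, h2, h3⟩
      refine ⟨Multiplicative.ofAdd ((g : Matrix (Fin 2) (Fin 2) k) 0 1), Subtype.ext ?_⟩
      ext i j
      fin_cases i <;> fin_cases j <;> simp [upHom, coe_upSL, h1, h2, h3]
    · rintro ⟨t, rfl⟩
      simp [upHom, coe_upSL]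
  rw [upperUnipotentSL2, this, Subgroup.closure_eq]
  exact ⟨fun ⟨t, ht⟩ => ⟨t.toAdd, ht.symm⟩, fun ⟨t, ht⟩ => ⟨Multiplicative.ofAdd t, ht.symm⟩⟩

theorem mem_lowerUnipotentSL2 {g : SL(2, k)} : g ∈ lowerUnipotentSL2 k ↔ ∃ t, g = loSL t := by
  have : {g : SL(2, k) | (g : Matrix (Fin 2) (Fin 2) k) 0 1 = 0 ∧ (g : Matrix (Fin 2) (Fin 2) k) 0 0 = 1 ∧
      (g : Matrix (Fin 2) (Fin 2) k) 1 1 = 1} = ((loHom k).range : Set SL(2, k)) := by
    ext g
    constructor
    · rintro ⟨h1, h2, h3⟩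
      refine ⟨Multiplicative.ofAdd ((g : Matrix (Fin 2) (Fin 2) k) 1 0), Subtype.ext ?_⟩
      ext i j
      fin_cases i <;> fin_cases j <;> simp [loHom, coe_loSL, h1, h2, h3]
    · rintro ⟨t, rfl⟩
      simp [loHom, coe_loSL]
  rw [lowerUnipotentSL2, this, Subgroup.closure_eq]
  exact ⟨fun ⟨t, ht⟩ => ⟨t.toAdd, ht.symm⟩, fun ⟨t, ht⟩ => ⟨Multiplicative.ofAdd t, ht.symm⟩⟩

theorem upSL_mem (t : k) : upSL t ∈ upperUnipotentSL2 k := mem_upperUnipotentSL2.2 ⟨t, rfl⟩

theorem loSL_mem (t : k) : loSL t ∈ lowerUnipotentSL2 k := mem_lowerUnipotentSL2.2 ⟨t, rfl⟩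

theorem eq_upSL_loSL_upSL (g : SL(2, k)) (hc : (g : Matrix (Fin 2) (Fin 2) k) 1 0 ≠ 0) :
    g = upSL (((g : Matrix (Fin 2) (Fin 2) k) 0 0 - 1) / (g : Matrix (Fin 2) (Fin 2) k) 1 0) *
      loSL ((g : Matrix (Fin 2) (Fin 2) k) 1 0) *
      upSL (((g : Matrix (Fin 2) (Fin 2) k) 1 1 - 1) / (g : Matrix (Fin 2) (Fin 2) k) 1 0) := by
  have hdet := g.2
  rw [Matrix.det_fin_two] at hdet
  apply Subtype.ext
  ext i j
  fin_cases i <;> fin_cases j <;> simp [coe_upSL, coe_loSL] <;> field_simp <;>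
    first | ring1 | linear_combination -hdet | linear_combination hdet

theorem lower_sup_upper : lowerUnipotentSL2 k ⊔ upperUnipotentSL2 k = ⊤ := by
  rw [eq_top_iff]
  have key : ∀ g : SL(2, k), (g : Matrix (Fin 2) (Fin 2) k) 1 0 ≠ 0 →
      g ∈ lowerUnipotentSL2 k ⊔ upperUnipotentSL2 k := by
    intro g hc
    rw [eq_upSL_loSL_upSL g hc]
    exact Subgroup.mul_mem _ (Subgroup.mul_mem _ (Subgroup.mem_sup_right (upSL_mem _))
      (Subgroup.mem_sup_left (loSL_mem _))) (Subgroup.mem_sup_right (upSL_mem _))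
  intro g _
  by_cases hc : (g : Matrix (Fin 2) (Fin 2) k) 1 0 = 0
  · have hdet := g.2
    rw [Matrix.det_fin_two, hc, mul_zero, sub_zero] at hdet
    have h' := key (loSL 1 * g) (by
      simpa [coe_loSL, Matrix.mul_apply, Fin.sum_univ_two, hc] using left_ne_zero_of_mul_eq_one hdet)
    exact (Subgroup.mul_mem_cancel_left _ (Subgroup.mem_sup_left (loSL_mem 1))).1 h'
  · exact key g hc

theorem conj_identity {s t : k} (hst : s * t = 1) (u : k) :
    upSL (-s) * loSL u * upSL s = loSL (-t) * upSL (-(s * s * u)) * loSL t := by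
  apply Subtype.ext
  ext i j
  fin_cases i <;> fin_cases j <;> simp [coe_upSL, coe_loSL] <;>
    first
      | ring1
      | linear_combination (u * s) * hst
      | linear_combination -(u * s) * hst
      | linear_combination (-(u * (s * t) + u)) * hst
      | linear_combination ((u * (s * t) + u)) * hst

theorem conjBy_lower_eq {s t : k} (hst : s * t = 1) :
    conjBy (lowerUnipotentSL2 k) (upSL s)⁻¹ = conjBy (upperUnipotentSL2 k) (loSL t)⁻¹ := by
  ext z
  rw [mem_conjBy, mem_conjBy, inv_inv, inv_inv, mem_lowerUnipotentSL2, mem_upperUnipotentSL2]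
  constructor
  · rintro ⟨u, hu⟩
    refine ⟨-(s * s * u), ?_⟩
    have hz : z = upSL (-s) * loSL u * upSL s := by
      rw [← hu, ← upSL_inv]; group
    rw [hz, conj_identity hst, ← loSL_inv]; group
  · rintro ⟨w, hw⟩
    refine ⟨-(t * t * w), ?_⟩
    have hz : z = upSL (-s) * loSL (-(t * t * w)) * upSL s := by
      have e : -(s * s * -(t * t * w)) = w := by linear_combination ((s * t + 1) * w) * hst
      rw [conj_identity hst, e, ← hw, ← loSL_inv]; group
    rw [hz, ← upSL_inv]; group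

theorem isMulCommutative_upper : IsMulCommutative (upperUnipotentSL2 k) :=
  ⟨⟨fun ⟨x, hx⟩ ⟨y, hy⟩ => by
    obtain ⟨a, rfl⟩ := mem_upperUnipotentSL2.1 hx
    obtain ⟨b, rfl⟩ := mem_upperUnipotentSL2.1 hy
    exact Subtype.ext (by simp [upSL_mul, add_comm])⟩⟩

theorem isMulCommutative_lower : IsMulCommutative (lowerUnipotentSL2 k) :=
  ⟨⟨fun ⟨x, hx⟩ ⟨y, hy⟩ => by
    obtain ⟨a, rfl⟩ := mem_lowerUnipotentSL2.1 hx
    obtain ⟨b, rfl⟩ := mem_lowerUnipotentSL2.1 hy
    exact Subtype.ext (by simp [loSL_mul, add_comm])⟩⟩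

open scoped IsMulCommutative in
theorem isNilpotent_of_isMulCommutative {G : Type*} [Group G] (A : Subgroup G)
    [IsMulCommutative A] : Group.IsNilpotent A :=
  inferInstance

theorem isRankOnePair_SL2 : IsRankOnePair (lowerUnipotentSL2 k) (upperUnipotentSL2 k) where
  ne h := by
    obtain ⟨t, ht⟩ := mem_lowerUnipotentSL2.1 (h ▸ upSL_mem (1 : k))
    exact upSL_ne_loSL t one_ne_zero ht
  nilpotent_left := by
    have := isMulCommutative_lower (k := k)
    exact isNilpotent_of_isMulCommutative _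
  nilpotent_right := by
    have := isMulCommutative_upper (k := k)
    exact isNilpotent_of_isMulCommutative _
  cond_left a ha ha1 := by
    obtain ⟨t, rfl⟩ := mem_lowerUnipotentSL2.1 ha
    rw [ne_eq, loSL_eq_one_iff] at ha1
    exact ⟨upSL t⁻¹, upSL_mem _, by rwa [ne_eq, upSL_eq_one_iff, inv_eq_zero],
      conjBy_lower_eq (inv_mul_cancel₀ ha1)⟩
  cond_right b hb hb1 := by
    obtain ⟨s, rfl⟩ := mem_upperUnipotentSL2.1 hb
    rw [ne_eq, upSL_eq_one_iff] at hb1
    exact ⟨loSL s⁻¹, loSL_mem _, by rwa [ne_eq, loSL_eq_one_iff, inv_eq_zero],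
      (conjBy_lower_eq (mul_inv_cancel₀ hb1)).symm⟩

theorem isSpecialRankOnePair_SL2 :
    IsSpecialRankOnePair (lowerUnipotentSL2 k) (upperUnipotentSL2 k) := by
  refine ⟨isRankOnePair_SL2, fun a ha ha1 b hb hb1 he => ?_⟩
  obtain ⟨t, rfl⟩ := mem_lowerUnipotentSL2.1 ha
  rw [ne_eq, loSL_eq_one_iff] at ha1
  have : b = upSL t⁻¹ := partner_unique_right isRankOnePair_SL2 hb (upSL_mem _) he
    (conjBy_lower_eq (inv_mul_cancel₀ ha1))
  subst this
  rw [upSL_inv, loSL_inv, conj_identity (inv_mul_cancel₀ ha1)]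
  congr 2
  field_simp

end Cfsg.Agent.RankOne
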