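import Cfsg.Agent.Lib.RankOne.SL2
import Cfsg.Agent.Lib.PSL2.SubfieldConj

/-!
`genPair k α` : the subgroup of `SL₂(L)` generated by `upSL (k)` and `loSL (k α)`.
`genPair_eq_top_of_finite` : it is everything for finite `k`, `|k|` odd and not `3`, `L = k(α)`.
-/

set_option autoImplicit false

namespace Cfsg.Agent.RankOne

open Matrix
open scoped MatrixGroups

/-- The subgroup generated by `upSL c` and `loSL (c α)`, `c ∈ k`. -/
def genPair (k : Type*) {L : Type*} [Field k] [Field L] [Algebra k L] (α : L) : Subgroup SL(2, L) :=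
  Subgroup.closure (Set.range (fun c : k => upSL (algebraMap k L c)) ∪
    Set.range (fun c : k => loSL (algebraMap k L c * α)))

theorem upSL_mem_genPair {k L : Type*} [Field k] [Field L] [Algebra k L] (α : L) (c : k) :
    upSL (algebraMap k L c) ∈ genPair k α := Subgroup.subset_closure (Or.inl ⟨c, rfl⟩)

theorem loSL_mem_genPair {k L : Type*} [Field k] [Field L] [Algebra k L] (α : L) (c : k) :
    loSL (algebraMap k L c * α) ∈ genPair k α := Subgroup.subset_closure (Or.inr ⟨c, rfl⟩)

theorem upSL_pow {L : Type*} [Field L] (t : L) (n : ℕ) : upSL t ^ n = upSL ((n : L) * t) := by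
  induction n with
  | zero => simp [upSL_zero]
  | succ n ih => rw [pow_succ, ih, upSL_mul]; congr 1; push_cast; ring

open PSL2 in
/-- `genPair k α` is everything also for `|k| = 3`, as long as its image in `PSL₂(L)` is not `A₅`. -/
theorem genPair_eq_top_of_finite_sixty {k L : Type*} [Field k] [Field L] [Algebra k L] [Finite k] [Finite L]
    (hk2 : ringChar k ≠ 2) {α : L} (hk3 : Nat.card k = 3 →
      IsEmpty (↥((genPair k α).map (QuotientGroup.mk' (Subgroup.center SL(2, L)))) ≃* alternatingGroup (Fin 5)))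
    (hα0 : α ≠ 0)
    (hgen : ∀ R : Subfield L, α ∈ R → (∀ c, algebraMap k L c ∈ R) → R = ⊤) :
    genPair k α = ⊤ := by
  set p := ringChar k with hpdef
  haveI : Fact p.Prime := ⟨CharP.char_is_prime k p⟩
  haveI : CharP L p := charP_of_injective_ringHom (algebraMap k L).injective p
  have h2k : (2 : k) ≠ 0 := Ring.two_ne_zero hk2
  have h2 : (2 : L) ≠ 0 := fun e => h2k ((algebraMap k L).injective (by rw [map_ofNat, map_zero, e]))
  have := Fintype.ofFinite k
  obtain ⟨e, he, hcard⟩ := FiniteField.card k p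
  set H := genPair k α with hH
  set π : SL(2, L) →* PSL2 L := QuotientGroup.mk' (Subgroup.center _) with hπ
  set Hb := H.map π with hHb
  let ψ : k → Hb := fun c => ⟨π (upSL (algebraMap k L c)), Subgroup.mem_map_of_mem _ (upSL_mem_genPair α c)⟩
  have hψ : Function.Injective ψ := fun c d e => by
    have e' : (QuotientGroup.mk (upSL (algebraMap k L c)) : PSL2 L) =
        QuotientGroup.mk (upSL (algebraMap k L d)) := congrArg Subtype.val e
    rw [QuotientGroup.eq, upSL_inv, upSL_mul, mem_center_iff'] at e'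
    rcases e' with e' | e'
    · rw [upSL_eq_one_iff, neg_add_eq_sub, sub_eq_zero] at e'
      exact ((algebraMap k L).injective e').symm
    · have := congrArg (fun g : SL(2, L) => (g : Matrix (Fin 2) (Fin 2) L) 0 0) e'
      simp [coe_upSL] at this
      exact absurd (by linear_combination this) h2
  have hdiv : Nat.card k ∣ Nat.card Hb := by
    let f : Multiplicative k →* Hb :=
      MonoidHom.mk' (fun c => ψ c.toAdd) fun c d => Subtype.ext (by
        show π (upSL _) = π (upSL _) * π (upSL _)
        rw [← map_mul, upSL_mul, toAdd_mul, map_add])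
    have hf : Function.Injective f := fun c d e => hψ e
    have := Subgroup.card_dvd_of_injective f hf
    rwa [Nat.card_congr Multiplicative.toAdd] at this
  have hp : p ∣ Nat.card k := by
    rw [Nat.card_eq_fintype_card, hcard]; exact dvd_pow_self _ e.pos.ne'
  have htoPGL : ∀ (a b c d : L) (s : SL(2, L)) (h : a * d - b * c ≠ 0), s.1 = !![a, b; c, d] →
      ProjectiveSpecialLinearGroup.toPGL (π s) = mob a b c d h := by
    intro a b c d s h hs
    rw [hπ, QuotientGroup.mk'_apply, ProjectiveSpecialLinearGroup.toPGL_mk, mob]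
    exact congrArg _ (Units.ext hs)
  rcases psl_dickson_std p Hb with ⟨-, S, hS⟩ | ⟨h, -⟩ | ⟨n, -, hn, -, hc, -⟩ | ⟨h, -⟩ | ⟨hp3, h60, ⟨hiso⟩⟩ |
    ⟨R, m, u, hm, hR, hcase⟩
  · obtain ⟨P, hP⟩ := normalizer_sylow_le p S
    have h1 : π (upSL 1) ∈ Hb := Subgroup.mem_map_of_mem _ (by simpa using upSL_mem_genPair α (1 : k))
    have h2' : π (loSL α) ∈ Hb := Subgroup.mem_map_of_mem _ (by simpa using loSL_mem_genPair α (1 : k))
    have e1 := hP (hS h1)
    have e2 := hP (hS h2')
    rw [MulAction.mem_stabilizer_iff, ← toPGL_smul] at e1 e2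
    rw [htoPGL 1 1 0 1 (upSL 1) (by simp) (coe_upSL 1)] at e1
    rw [htoPGL 1 0 α 1 (loSL α) (by simp) (coe_loSL α)] at e2
    rcases pt_cases P with rfl | ⟨x, rfl⟩
    · exact absurd (mob_smul_pinf_eq_pinf.1 e2) hα0
    · have := mob_smul_pt_eq_pt.1 e1
      simp at this
  · exact absurd (hp.trans hdiv) h
  · have hp2 : p ≠ 2 := hk2
    have := hp.trans hdiv
    rw [hc] at this
    rcases (Fact.out : p.Prime).dvd_mul.1 this with h' | h'
    · exact absurd ((Nat.prime_dvd_prime_iff_eq Fact.out Nat.prime_two).1 h') hp2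
    · exact absurd h' hn
  · exact absurd (hp.trans hdiv) h
  · rw [h60, Nat.card_eq_fintype_card, hcard, hp3] at hdiv
    have he2 : 2 ≤ (e : ℕ) := by
      by_contra h'
      have : (e : ℕ) = 1 := by have := e.pos; omega
      exact (hk3 (by rw [Nat.card_eq_fintype_card, hcard, hp3, this, pow_one])).false hiso
    have := (pow_dvd_pow 3 he2).trans hdiv
    norm_num at this
  have hle : Hb.map (outConj u).toMonoidHom ≤ stdPGL R.subtype := by
    rcases hcase with h | ⟨-, -, h⟩
    · exact h.le.trans (stdPSL_le_stdPGL _)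
    · exact h.le
  have htr : ∀ s ∈ H, tr s ^ 2 ∈ R := by
    intro s hs
    obtain ⟨y, hy⟩ := hle (Subgroup.mem_map_of_mem _ (Subgroup.mem_map_of_mem π hs))
    induction y using Matrix.ProjGenLinGroup.induction_on with | mk M => ?_
    rw [MulEquiv.coe_toMonoidHom, toPGL_outConj, hπ, QuotientGroup.mk'_apply,
      ProjectiveSpecialLinearGroup.toPGL_mk, ← map_inv, ← map_mul, ← map_mul, ProjGenLinGroup.map_mk,
      ProjGenLinGroup.mk_eq_mk_iff] at hy
    obtain ⟨c, hc⟩ := hy
    set uS := (u : Matrix (Fin 2) (Fin 2) L) * s.1 * (u⁻¹ : GL (Fin 2) L).1 with huS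
    set M' := (M.1).map (R.subtype : R →+* L) with hM'
    have hval : uS = M' * Matrix.scalar (Fin 2) (c : L) := by
      have := congrArg Units.val hc
      exact this.symm
    have ht : tr s = M'.trace * c := by
      have e1 : uS.trace = tr s := by
        rw [huS, Matrix.trace_mul_cycle, ← Units.val_mul, inv_mul_cancel, Units.val_one, one_mul,
          tr_eq_trace]
      rw [← e1, hval, Matrix.scalar_apply, Matrix.trace_fin_two, Matrix.trace_fin_two]
      simp [Matrix.mul_apply, Fin.sum_univ_two]; ring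
    have hd : M'.det * (c : L) ^ 2 = 1 := by
      have e1 : uS.det = 1 := by
        rw [huS, Matrix.det_mul, Matrix.det_mul, s.2, mul_one, ← Matrix.det_mul, ← Units.val_mul,
          mul_inv_cancel, Units.val_one, Matrix.det_one]
      rw [← e1, hval, Matrix.det_mul, Matrix.scalar_apply, Matrix.det_diagonal]
      simp [sq]
    have htR : M'.trace ∈ R := by
      rw [hM', Matrix.trace_fin_two]; exact add_mem (Subtype.coe_prop _) (Subtype.coe_prop _)
    have hdR : M'.det ∈ R := by
      rw [hM', Matrix.det_fin_two]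
      exact sub_mem (mul_mem (Subtype.coe_prop _) (Subtype.coe_prop _))
        (mul_mem (Subtype.coe_prop _) (Subtype.coe_prop _))
    have hd0 : M'.det ≠ 0 := fun e => by rw [e, zero_mul] at hd; exact zero_ne_one hd
    rw [show tr s ^ 2 = M'.trace ^ 2 / M'.det by
      rw [ht, eq_div_iff hd0]; linear_combination M'.trace ^ 2 * hd]
    exact div_mem (pow_mem htR 2) hdR
  have hmul : ∀ c : k, algebraMap k L c * α ∈ R := by
    intro c
    have hs : ∀ d : k, (2 + algebraMap k L d * α) ^ 2 ∈ R := fun d => by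
      have h := htr _ (mul_mem (upSL_mem_genPair α (1 : k)) (loSL_mem_genPair α d))
      rw [show (2 : L) + algebraMap k L d * α = 1 + (1 + algebraMap k L d * α) by ring]
      simpa [tr, coe_upSL, coe_loSL, Matrix.mul_apply, Fin.sum_univ_two, add_comm, add_left_comm] using h
    have := div_mem (sub_mem (hs c) (hs (-c))) (show ((8 : L)) ∈ R from natCast_mem R 8)
    convert this using 1
    have h8 : (8 : L) ≠ 0 := by
      rw [show (8 : L) = 2 * 2 * 2 by norm_num]; exact mul_ne_zero (mul_ne_zero h2 h2) h2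
    rw [eq_div_iff h8, map_neg]; ring
  have hα : α ∈ R := by simpa using hmul 1
  have hRtop : R = ⊤ := hgen R hα fun c => by
    have := div_mem (hmul c) hα
    rwa [mul_div_assoc, div_self hα0, mul_one] at this
  subst hRtop
  have hm1 : m = 1 := by
    rw [Nat.card_congr (Subfield.topEquiv (K := L)).toEquiv] at hR
    exact Nat.pow_right_injective Finite.one_lt_card (hR.trans (pow_one _).symm)
  subst hm1
  have htop : Hb = ⊤ := by
    rcases hcase with h | ⟨-, h, -⟩
    · refine Subgroup.map_injective (f := (outConj u).toMonoidHom) (outConj u).injective ?_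
      refine h.trans ((eq_top_iff.2 fun x _ => ?_).trans
        (Subgroup.map_top_of_surjective _ (outConj u).surjective).symm)
      obtain ⟨s, rfl⟩ := QuotientGroup.mk_surjective x
      let s' : SL(2, (⊤ : Subfield L)) :=
        Matrix.SpecialLinearGroup.map (Subfield.topEquiv (K := L)).symm.toRingHom s
      refine ⟨QuotientGroup.mk s', ?_⟩
      rw [toK_apply, ProjectiveSpecialLinearGroup.toPGL_mk, ProjectiveSpecialLinearGroup.toPGL_mk,
        ProjGenLinGroup.map_mk]
      congr 1
      ext i j; rfl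
    · exact absurd h (by decide)
  have hpm : ∀ s : SL(2, L), s ^ p = 1 → s ∈ H := by
    intro s hs
    obtain ⟨s', hs', e⟩ := htop.ge (Subgroup.mem_top (π s))
    rw [hπ, QuotientGroup.mk'_apply, QuotientGroup.mk'_apply, QuotientGroup.eq, mem_center_iff'] at e
    rcases e with e | e
    · rwa [inv_mul_eq_one.1 e] at hs'
    · have e' : s = -s' := by rw [← mul_neg_one s', ← e, mul_inv_cancel_left]
      have hodd : Odd p := (Fact.out : p.Prime).odd_of_ne_two hk2
      have hs'' : s' ^ p = -1 := by
        rw [e', Odd.neg_pow hodd] at hs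
        exact neg_eq_iff_eq_neg.1 hs
      rw [e', ← mul_neg_one]
      exact mul_mem hs' (hs'' ▸ pow_mem hs' p)
  rw [eq_top_iff, ← lower_sup_upper, sup_le_iff]
  refine ⟨fun y hy => ?_, fun y hy => ?_⟩
  · obtain ⟨t, rfl⟩ := mem_lowerUnipotentSL2.1 hy
    refine hpm _ ?_
    have : ∀ n : ℕ, loSL t ^ n = loSL ((n : L) * t) := fun n => by
      induction n with
      | zero => simp [loSL_zero]
      | succ n ih => rw [pow_succ, ih, loSL_mul]; congr 1; push_cast; ring
    rw [this, CharP.cast_eq_zero, zero_mul, loSL_zero]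
  · obtain ⟨t, rfl⟩ := mem_upperUnipotentSL2.1 hy
    exact hpm _ (by rw [upSL_pow, CharP.cast_eq_zero, zero_mul, upSL_zero])

/-- `genPair k α` is everything also for `|k| = 3`, as long as `SL₂(L)` has no element of order `5`. -/
theorem genPair_eq_top_of_finite' {k L : Type*} [Field k] [Field L] [Algebra k L] [Finite k] [Finite L]
    (hk2 : ringChar k ≠ 2) (hk3 : Nat.card k = 3 → ¬ 5 ∣ Nat.card SL(2, L)) {α : L} (hα0 : α ≠ 0)
    (hgen : ∀ R : Subfield L, α ∈ R → (∀ c, algebraMap k L c ∈ R) → R = ⊤) :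
    genPair k α = ⊤ :=
  genPair_eq_top_of_finite_sixty hk2 (fun h => ⟨fun e => hk3 h
    (((by rw [Nat.card_congr e.toEquiv, nat_card_alternatingGroup, Nat.card_fin]; decide : 5 ∣ Nat.card ↥((genPair k α).map (QuotientGroup.mk' (Subgroup.center SL(2, L))))).trans
      (Subgroup.card_subgroup_dvd_card _)).trans (Subgroup.card_quotient_dvd_card _))⟩) hα0 hgen

theorem genPair_eq_top_of_finite {k L : Type*} [Field k] [Field L] [Algebra k L] [Finite k] [Finite L]
    (hk2 : ringChar k ≠ 2) (hk3 : Nat.card k ≠ 3) {α : L} (hα0 : α ≠ 0)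
    (hgen : ∀ R : Subfield L, α ∈ R → (∀ c, algebraMap k L c ∈ R) → R = ⊤) :
    genPair k α = ⊤ :=
  genPair_eq_top_of_finite' hk2 (fun h => absurd h hk3) hα0 hgen

end Cfsg.Agent.RankOne
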