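import Cfsg.Agent.Lib.RankOne.SetupInvolutions
import Cfsg.Agent.Lib.FPFLie.Thompson

/-!
The standing set-up `Cfsg.IsRankOneSetup` in 2-rank at least 2: `Q` is nilpotent, the involutions of
`G_a` are central in `Q`, fusion in `C_D(t)`, real elements.
-/

set_option autoImplicit false
set_option linter.unusedSectionVars false

open scoped commutatorElement

namespace Cfsg.Agent.RankOne.Setup

open MulAction

/-- A non-trivial normal subgroup of a nilpotent group meets the centre. -/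
theorem inf_center_ne_bot_of_nilpotent {X : Type*} [Group X] [hX : Group.IsNilpotent X]
    {N : Subgroup X} [N.Normal] (hN : N ≠ ⊥) : N ⊓ Subgroup.center X ≠ ⊥ := by
  intro hbot
  obtain ⟨n, hn⟩ := hX.nilpotent'
  have key : ∀ i, N ⊓ Subgroup.upperCentralSeries X i = ⊥ := by
    intro i
    induction i with
    | zero => simp
    | succ i ih =>
      rw [Subgroup.eq_bot_iff_forall]
      rintro x ⟨hx, hxi⟩
      have hc : x ∈ N ⊓ Subgroup.center X := by
        refine ⟨hx, Subgroup.mem_center_iff.2 fun y => ?_⟩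
        have h1 : ⁅x, y⁆ ∈ N ⊓ Subgroup.upperCentralSeries X i := by
          refine ⟨?_, Subgroup.mem_upperCentralSeries_succ_iff.1 hxi y⟩
          rw [commutatorElement_def, show x * y * x⁻¹ * y⁻¹ = x * (y * x⁻¹ * y⁻¹) by group]
          exact mul_mem hx (Subgroup.Normal.conj_mem inferInstance _ (inv_mem hx) y)
        rw [ih, Subgroup.mem_bot] at h1
        exact (commutatorElement_eq_one_iff_mul_comm.1 h1).symm
      rwa [hbot, Subgroup.mem_bot] at hc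
  exact hN (by simpa [hn] using key n)

variable {G Ω : Type*} [Group G] [Finite G] [MulAction G Ω] {a : Ω} {t : G} {Q : Subgroup G}

local notation "DD" => (stabilizer G a ⊓ stabilizer G (t • a) : Subgroup G)
local notation "II" => Cfsg.involutionsIn (stabilizer G a : Set G)
local notation "KK" => Cfsg.invertedBy (stabilizer G a ⊓ stabilizer G (t • a)) t

variable (h : Cfsg.IsRankOneSetup G Ω a t Q)
include h

/-- Subsets of `C_D(t)` fix three points. -/
theorem three_points_of_commute {X : Set G} (hX : ∀ x ∈ X, x ∈ DD ∧ t * x = x * t) :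
    ∃ b c d : Ω, b ≠ c ∧ b ≠ d ∧ c ≠ d ∧ ∀ x ∈ X, x • b = b ∧ x • c = c ∧ x • d = d := by
  obtain ⟨⟨s, r⟩, ⟨hs, hr, he⟩, -⟩ := existsUnique_pair h
  have hsQ := mem_Q_of_ii h hs
  refine ⟨a, t • a, s • (t • a), (t_smul_ne h).symm, (smul_ne_self h hsQ (t_smul_ne h)).symm,
    fun e => hs.2.1 (eq_one_of_fix h hsQ (t_smul_ne h) e.symm), fun x hx => ?_⟩
  obtain ⟨hxD, hxt⟩ := hX x hx
  refine ⟨(mem_dd.1 hxD).1, (mem_dd.1 hxD).2, ?_⟩
  rw [← mul_smul, ← (commute_iff h hs hr he hxD).1 hxt, mul_smul, (mem_dd.1 hxD).2]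

theorem exists_fusion {X : Set G} (hX : ∀ x ∈ X, x ∈ DD ∧ t * x = x * t) {g : G}
    (hY : ∀ x ∈ X, g * x * g⁻¹ ∈ DD ∧ t * (g * x * g⁻¹) = g * x * g⁻¹ * t) :
    ∃ v, v ∈ DD ∧ t * v = v * t ∧ ∀ x ∈ X, v * x * v⁻¹ = g * x * g⁻¹ := by
  have hfix : ∀ x ∈ X, ∀ c : Ω, (g * x * g⁻¹) • c = c → x • g⁻¹ • c = g⁻¹ • c := fun x _ c hc => by
    rw [eq_inv_smul_iff, ← mul_smul, ← mul_smul]; exact hc
  obtain ⟨c, hc, hca, hcb⟩ := centralizer_two_transitive h (three_points_of_commute h hX)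
    (b₁ := a) (b₂ := t • a) (c₁ := g⁻¹ • a) (c₂ := g⁻¹ • (t • a))
    (fun x hx => ⟨(mem_dd.1 (hX x hx).1).1, (mem_dd.1 (hX x hx).1).2,
      hfix x hx _ (mem_dd.1 (hY x hx).1).1, hfix x hx _ (mem_dd.1 (hY x hx).1).2⟩)
    (t_smul_ne h).symm (fun e => t_smul_ne h (smul_left_cancel g⁻¹ e).symm)
  set d := g * c with hd
  have hdD : d ∈ DD := mem_dd.2 ⟨by rw [mul_smul, hca, smul_inv_smul],
    by rw [mul_smul, hcb, smul_inv_smul]⟩
  have himg : ∀ x ∈ X, d * x * d⁻¹ = g * x * g⁻¹ := fun x hx => by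
    calc d * x * d⁻¹ = g * (c * x) * c⁻¹ * g⁻¹ := by rw [hd]; group
      _ = g * x * g⁻¹ := by rw [← Subgroup.mem_centralizer_iff.1 hc x hx]; group
  have hd' := t_conj_mem h hdD
  have htt : ∀ x : G, t * (t * x) = x := fun x => by rw [← mul_assoc, h.mul_self, one_mul]
  -- `e = d⁻¹ (t d t)` centralises `X` and is inverted by `t`
  set e := d⁻¹ * (t * d * t) with he
  have heK : e ∈ KK := by
    refine (mem_kk h).2 ⟨mul_mem (inv_mem hdD) hd', ?_⟩
    rw [he]; simp [mul_assoc, t_inv h, htt, h.mul_self]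
  have hecomm : ∀ x ∈ X, Commute e x := fun x hx => by
    have h1 : t * d * t * x * (t * d * t)⁻¹ = d * x * d⁻¹ := by
      calc t * d * t * x * (t * d * t)⁻¹ = t * d * (t * x * t) * (d⁻¹ * t) := by
            simp [mul_assoc, t_inv h, htt]
        _ = t * (d * x * d⁻¹) * t := by rw [(hX x hx).2, mul_assoc x t t, h.mul_self]; group
        _ = d * x * d⁻¹ := by
            rw [himg x hx, (hY x hx).2, mul_assoc, h.mul_self, mul_one]
    show e * x = x * e
    calc e * x = d⁻¹ * (t * d * t * x * (t * d * t)⁻¹) * (t * d * t) := by rw [he]; group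
      _ = x * e := by rw [h1, he]; group
  obtain ⟨k, hk, hkk⟩ := exists_sqrt h heK
  have hkc : ∀ x ∈ X, Commute k x := fun x hx => commute_of_sq h hk.1 (by rw [hkk]; exact hecomm x hx)
  refine ⟨d * k, mul_mem hdD hk.1, ?_, fun x hx => ?_⟩
  · have h1 : t * (d * k) * t = d * k := by
      calc t * (d * k) * t = (t * d * t) * (t * k * t) := by simp [mul_assoc, htt]
        _ = d * e * k⁻¹ := by rw [((mem_kk h).1 hk).2, he]; group
        _ = d * k := by rw [← hkk]; group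
    conv_rhs => rw [← h1, mul_assoc, h.mul_self, mul_one]
  · rw [← himg x hx]
    calc d * k * x * (d * k)⁻¹ = d * (k * x) * k⁻¹ * d⁻¹ := by group
      _ = d * x * d⁻¹ := by rw [(hkc x hx).eq]; group

variable (h2 : ∃ x y : G, x ≠ 1 ∧ y ≠ 1 ∧ x ≠ y ∧ x * x = 1 ∧ y * y = 1 ∧ x * y = y * x)
include h2

theorem exists_two_ii : ∃ s s', s ∈ II ∧ s' ∈ II ∧ s ≠ s' := by
  obtain ⟨x, y, hx1, hy1, hxy, hxx, hyy, hc⟩ := h2
  obtain ⟨p, hp⟩ := exists_fixed h hx1 hxx
  have hyp : y • p = p := fixed_unique h hx1 hxx (by rw [← mul_smul, hc, mul_smul, hp]) hp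
  obtain ⟨g, hg⟩ := exists_smul_a h p
  exact ⟨_, _, conj_mem_ii h hx1 hxx hp (g := g⁻¹) (by rw [← hg, inv_smul_smul]),
    conj_mem_ii h hy1 hyy hyp (g := g⁻¹) (by rw [← hg, inv_smul_smul]),
    fun e => hxy (mul_left_cancel (mul_right_cancel e))⟩

theorem exists_kk_prime : ∃ (p : ℕ), p.Prime ∧ ∃ k ∈ KK, orderOf k = p := by
  obtain ⟨s, s', hs, hs', hne⟩ := exists_two_ii h h2
  obtain ⟨k, hk, hks⟩ := exists_conj_kk h hs hs'
  have hk1 : k ≠ 1 := fun e => hne (by rw [← hks, e]; group)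
  obtain ⟨p, hp, hd⟩ := Nat.exists_prime_and_dvd (mt orderOf_eq_one_iff.1 hk1)
  exact ⟨p, hp, _, kk_pow h hk (orderOf k / p), orderOf_pow_orderOf_div (orderOf_pos k).ne' hd⟩

theorem mem_normalizer_Q {g : G} (hg : g ∈ stabilizer G a) :
    g ∈ Subgroup.normalizer (Q : Set G) := by
  rw [Subgroup.mem_normalizer_iff]
  exact fun x => ⟨h.conj_mem g hg x, fun hx => by simpa [mul_assoc] using conj_mem_inv h hg hx⟩

theorem isNilpotent : Group.IsNilpotent Q := by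
  obtain ⟨p, hp, k, hk, hko⟩ := exists_kk_prime h h2
  haveI := Fact.mk hp
  have hk1 : k ≠ 1 := fun e => hp.ne_one (by rw [← hko, e, orderOf_one])
  let g : Subgroup.normalizer (Q : Set G) := ⟨k, mem_normalizer_Q h h2 hk.1.1⟩
  have hfix : ∀ y : Q, Q.normalizerMonoidHom g y = y → y = 1 := fun y hy => by
    have e : k * (y : G) * k⁻¹ = y := congrArg Subtype.val hy
    exact Subtype.ext (kk_fpf h hk hk1 y.2 (mul_inv_eq_iff_eq_mul.1 e))
  refine FPF.isNilpotent_of_fpf_mulAut (p := p) (Q.normalizerMonoidHom g) ?_ hfix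
  refine orderOf_eq_prime ?_ ?_
  · rw [← map_pow, show g ^ p = 1 from Subtype.ext (by
      rw [SubmonoidClass.coe_pow]; exact hko ▸ pow_orderOf_eq_one k), map_one]
  · intro e
    obtain ⟨s, hs⟩ := exists_ii h
    have := hfix ⟨s, mem_Q_of_ii h hs⟩ (by rw [e]; rfl)
    exact hs.2.1 (congrArg Subtype.val this)

theorem commute_ii {s : G} (hs : s ∈ II) {x : G} (hx : x ∈ Q) : s * x = x * s := by
  haveI := isNilpotent h h2
  haveI := Fact.mk Nat.prime_two
  obtain ⟨P⟩ : Nonempty (Sylow 2 Q) := inferInstance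
  haveI : (P : Subgroup Q).Normal :=
    Sylow.normal_of_normalizerCondition Group.normalizerCondition_of_isNilpotent P
  have hP : (P : Subgroup Q) ≠ ⊥ := P.ne_bot_of_dvd_card (even_iff_two_dvd.1 h.even_card)
  obtain ⟨⟨z, hz⟩, hz1⟩ := Subgroup.ne_bot_iff_exists_ne_one.1 (inf_center_ne_bot_of_nilpotent hP)
  -- an involution in the centre
  obtain ⟨k, hk⟩ := P.isPGroup' ⟨z, hz.1⟩
  have hk' : orderOf z ∣ 2 ^ k := orderOf_dvd_of_pow_eq_one (by simpa using congrArg Subtype.val hk)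
  have hz1' : z ≠ 1 := fun e => hz1 (Subtype.ext e)
  have h2z : 2 ∣ orderOf z := by
    obtain ⟨i, -, hi⟩ := (Nat.dvd_prime_pow Nat.prime_two).1 hk'
    rw [hi]
    refine dvd_pow_self 2 ?_
    rintro rfl
    exact hz1' (orderOf_eq_one_iff.1 (by rw [hi, pow_zero]))
  set w := z ^ (orderOf z / 2) with hw
  have hwo : orderOf w = 2 := orderOf_pow_orderOf_div (orderOf_pos z).ne' h2z
  have hwc : w ∈ Subgroup.center Q := pow_mem hz.2 _
  have hwI : (w : G) ∈ II := by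
    have h1 : orderOf (w : G) = 2 := by rw [Subgroup.orderOf_coe, hwo]
    exact ⟨h.le w.2, Involution.ne_one h1, Involution.mul_self h1⟩
  obtain ⟨c, hc, hcs⟩ := exists_conj_kk h hwI hs
  have hx' : c * x * c⁻¹ ∈ Q := h.conj_mem c hc.1.1 x hx
  have e : c * x * c⁻¹ * (w : G) = w * (c * x * c⁻¹) :=
    congrArg Subtype.val (Subgroup.mem_center_iff.1 hwc ⟨_, hx'⟩)
  rw [← hcs]
  calc c⁻¹ * w * c * x = c⁻¹ * (w * (c * x * c⁻¹)) * c := by group
    _ = c⁻¹ * (c * x * c⁻¹ * w) * c := by rw [e]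
    _ = x * (c⁻¹ * w * c) := by group

/-- Involutions with a common fixed point commute. -/
theorem mul_comm_of_fixed {u v : G} (hu1 : u ≠ 1) (hu2 : u * u = 1) (hv1 : v ≠ 1) (hv2 : v * v = 1)
    {p : Ω} (hu : u • p = p) (hv : v • p = p) : u * v = v * u := by
  obtain ⟨g, hg⟩ := exists_smul_a h p
  have hg' : g⁻¹ • p = a := by rw [← hg, inv_smul_smul]
  have e := commute_ii h h2 (conj_mem_ii h hu1 hu2 hu hg')
    (mem_Q_of_ii h (conj_mem_ii h hv1 hv2 hv hg'))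
  calc u * v = g * (g⁻¹ * u * g⁻¹⁻¹ * (g⁻¹ * v * g⁻¹⁻¹)) * g⁻¹ := by group
    _ = g * (g⁻¹ * v * g⁻¹⁻¹ * (g⁻¹ * u * g⁻¹⁻¹)) * g⁻¹ := by rw [e]
    _ = v * u := by group

/-- `K # 1` elements are centralised by no involution. -/
theorem kk_no_involution {k : G} (hk : k ∈ KK) (hk1 : k ≠ 1) {w : G} (hw1 : w ≠ 1) (hw2 : w * w = 1)
    (hc : k * w = w * k) : False := by
  obtain ⟨hka, hkb⟩ := mem_dd.1 hk.1
  have only : ∀ c : Ω, k • c = c → c = a ∨ c = t • a := by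
    intro c hkc
    by_contra hne
    rw [not_or] at hne
    obtain ⟨y, hy, hyc⟩ := exists_smul_eq h hne.1
    have hym := Subgroup.mem_centralizer_iff.1 (mem_centralizer_of_smul h (X := {k}) hy
      (fun x hx => by obtain rfl : x = k := hx; exact hka) (t_smul_ne h)
      (fun x hx => by obtain rfl : x = k := hx; exact hkb)
      (fun x hx => by obtain rfl : x = k := hx; exact hkc) hyc) k rfl
    have := kk_fpf h hk hk1 hy hym
    rw [this, one_smul] at hyc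
    exact hne.2 hyc.symm
  have hwa := only (w • a) (by rw [← mul_smul, hc, mul_smul, hka])
  have hwb := only (w • (t • a)) (by rw [← mul_smul, hc, mul_smul, hkb])
  rcases hwa with e | e
  · refine hw1 (dd_eq_one h (mem_dd.2 ⟨e, hwb.resolve_left fun e' => t_smul_ne h ?_⟩) hw2)
    exact smul_left_cancel w (e'.trans e.symm)
  · have hk' := swap_mem_kk h hw2 e
    refine hk1 (not_real h hk'.1 hk.1 ?_)
    have hkt := ((mem_kk h).1 hk).2
    calc w * t * k * (w * t)⁻¹ = w * (t * k * t) * w := by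
          rw [mul_inv_rev, t_inv h, inv_eq_of_mul_eq_one_right hw2]; group
      _ = w * (k⁻¹ * w) := by rw [hkt]; group
      _ = k⁻¹ := by
          have : k⁻¹ * w = w * k⁻¹ := (Commute.inv_left hc).eq
          rw [this, ← mul_assoc, hw2, one_mul]

theorem real_conj {u v : G} (hu1 : u ≠ 1) (hu2 : u * u = 1) (hv1 : v ≠ 1) (hv2 : v * v = 1)
    (hx : (u * v) * (u * v) ≠ 1) :
    ∃ g : G, ∃ u' ∈ II, g * (u * v) * g⁻¹ = u' * t := by
  obtain ⟨g₁, hg₁⟩ := (S1121.result h).2 v t hv1 hv2 h.ne_one h.mul_self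
  obtain ⟨p, hp⟩ := exists_fixed h hu1 hu2
  obtain ⟨q, hq⟩ := exists_fixed h hv1 hv2
  have hpq : p ≠ q := fun e => hx (by
    have hc := mul_comm_of_fixed h h2 hu1 hu2 hv1 hv2 hp (e ▸ hq)
    calc u * v * (u * v) = u * v * (v * u) := by rw [← hc]
      _ = 1 := by rw [mul_assoc, ← mul_assoc v v, hv2, one_mul, hu2])
  set c := g₁ • q with hcdef
  have htc : t • c = c := by rw [← hg₁, hcdef, mul_smul, mul_smul, inv_smul_smul, hq]
  obtain ⟨γ, hγ⟩ := exists_smul_a h c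
  have hca : c ≠ a := fun e => t_smul_ne h (by rw [← e]; exact htc)
  have hne : ∀ {z}, z ≠ c → γ⁻¹ • z ≠ a := fun hz e => hz (by rw [← hγ, ← e, smul_inv_smul])
  obtain ⟨⟨x, hxQ⟩, hxe, -⟩ := regular h (hne (z := g₁ • p) (fun e => hpq (smul_left_cancel g₁ e)))
    (hne (z := a) hca.symm)
  have ht' : γ⁻¹ * t * γ⁻¹⁻¹ ∈ II := conj_mem_ii h h.ne_one h.mul_self htc (by rw [← hγ, inv_smul_smul])
  set g₂ := γ * x * γ⁻¹ with hg₂def
  have hg₂ : g₂ * t = t * g₂ := by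
    have e := commute_ii h h2 ht' hxQ
    calc g₂ * t = γ * (x * (γ⁻¹ * t * γ⁻¹⁻¹)) * γ⁻¹ := by rw [hg₂def]; group
      _ = γ * (γ⁻¹ * t * γ⁻¹⁻¹ * x) * γ⁻¹ := by rw [e]
      _ = t * g₂ := by rw [hg₂def]; group
  refine ⟨g₂ * g₁, _, conj_mem_ii h hu1 hu2 hp (g := g₂ * g₁) ?_, ?_⟩
  · rw [mul_smul, hg₂def, mul_smul, mul_smul,
      show x • γ⁻¹ • g₁ • p = γ⁻¹ • a from hxe, smul_inv_smul]
  · calc g₂ * g₁ * (u * v) * (g₂ * g₁)⁻¹ =
          (g₂ * g₁ * u * (g₂ * g₁)⁻¹) * (g₂ * (g₁ * v * g₁⁻¹) * g₂⁻¹) := by group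
      _ = g₂ * g₁ * u * (g₂ * g₁)⁻¹ * t := by rw [hg₁, hg₂, mul_inv_cancel_right]

theorem real_odd {u v : G} (hu1 : u ≠ 1) (hu2 : u * u = 1) (hv1 : v ≠ 1) (hv2 : v * v = 1)
    (hx : (u * v) * (u * v) ≠ 1) : Odd (Nat.card ↥(Subgroup.centralizer {u * v})) := by
  rw [Involution.odd_iff_no_involution]
  intro w hw hwo
  have hw1 := Involution.ne_one hwo
  have hw2 := Involution.mul_self hwo
  have hcw : u * v * w = w * (u * v) := Subgroup.mem_centralizer_iff.1 hw _ rfl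
  have hui : u⁻¹ = u := inv_eq_of_mul_eq_one_right hu2
  have hux : u * (u * v) * u⁻¹ = (u * v)⁻¹ := by
    rw [← mul_assoc, hu2, one_mul, mul_inv_rev, inv_eq_of_mul_eq_one_right hv2]
  obtain ⟨p, hp⟩ := exists_fixed h hw1 hw2
  have hxp : (u * v) • p = p := fixed_unique h hw1 hw2 (by rw [← mul_smul, ← hcw, mul_smul, hp]) hp
  have hup : u • p ≠ p := fun e => hx (by
    have hvp : v • p = p := by
      conv_rhs => rw [← e, ← hxp, ← mul_smul, ← mul_assoc, hu2, one_mul]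
    have hc := mul_comm_of_fixed h h2 hu1 hu2 hv1 hv2 e hvp
    calc u * v * (u * v) = u * v * (v * u) := by rw [← hc]
      _ = 1 := by rw [mul_assoc, ← mul_assoc v v, hv2, one_mul, hu2])
  obtain ⟨g, hga, hgb⟩ := is_two_pretransitive_iff.1 h.two_transitive hup.symm (t_smul_ne h).symm
  have hxup : (u * v) • u • p = u • p := by
    have e : u * v * u = u * (u * v)⁻¹ := by
      rw [mul_inv_rev, inv_eq_of_mul_eq_one_right hv2, hui, mul_assoc]
    rw [← mul_smul, e, mul_smul, inv_smul_eq_iff.2 hxp.symm]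
  have hgp : g⁻¹ • a = p := by rw [← hga, inv_smul_smul]
  have hgup : g⁻¹ • (t • a) = u • p := by rw [← hgb, inv_smul_smul]
  have hxD : g * (u * v) * g⁻¹ ∈ DD := mem_dd.2
    ⟨by rw [mul_smul, mul_smul, hgp, hxp, hga], by rw [mul_smul, mul_smul, hgup, hxup, hgb]⟩
  have hu₁ : (g * u * g⁻¹) * (g * u * g⁻¹) = 1 := by
    rw [show g * u * g⁻¹ * (g * u * g⁻¹) = g * (u * u) * g⁻¹ by group, hu2]; group
  obtain ⟨g₃, hg₃, hgg⟩ := exists_sqrt h (swap_mem_kk h hu₁
    (by rw [mul_smul, mul_smul, hgp, hgb]))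
  have hg₃' : g₃⁻¹ = t * g₃ * t := (((mem_kk h).1 hg₃).2).symm
  have hut : g * u * g⁻¹ = g₃ * t * g₃⁻¹ := by
    have e2 : t * (t * g₃ * t) = g₃ * t := by simp [← mul_assoc, h.mul_self]
    rw [hg₃', mul_assoc g₃, e2, ← mul_assoc, hgg]
    simp [mul_assoc, h.mul_self]
  set g' := g₃⁻¹ * g with hg'
  have ht' : t = g' * u * g'⁻¹ := by
    calc t = g₃⁻¹ * (g₃ * t * g₃⁻¹) * g₃ := by group
      _ = g₃⁻¹ * (g * u * g⁻¹) * g₃ := by rw [hut]
      _ = g' * u * g'⁻¹ := by rw [hg']; group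
  set x := g' * (u * v) * g'⁻¹ with hxdef
  have hxD' : x ∈ DD := by
    have : x = g₃⁻¹ * (g * (u * v) * g⁻¹) * g₃ := by rw [hxdef, hg']; group
    rw [this]
    exact mul_mem (mul_mem (inv_mem hg₃.1) hxD) hg₃.1
  have hxK : x ∈ KK := by
    refine ⟨hxD', ?_⟩
    calc t * x * t⁻¹ = g' * (u * (u * v) * u⁻¹) * g'⁻¹ := by rw [ht', hxdef]; group
      _ = x⁻¹ := by rw [hux, hxdef]; group
  refine kk_no_involution h h2 hxK (fun e => hx ?_) (w := g' * w * g'⁻¹)
    (fun e => hw1 (conj_eq_one_iff.1 e))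
    (by rw [show g' * w * g'⁻¹ * (g' * w * g'⁻¹) = g' * (w * w) * g'⁻¹ by group, hw2]; group) ?_
  · rw [conj_eq_one_iff.1 e, one_mul]
  · calc x * (g' * w * g'⁻¹) = g' * (u * v * w) * g'⁻¹ := by rw [hxdef]; group
      _ = g' * (w * (u * v)) * g'⁻¹ := by rw [hcw]
      _ = g' * w * g'⁻¹ * x := by rw [hxdef]; group

end Cfsg.Agent.RankOne.Setup
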