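import Cfsg.Agent.Lib.Involution.Basic

/-!
Sets of root involutions: the two basic lemmas on lines and partners, and their consequences.

* `not_mem_of_central`, `push`, `translate`, `odd_or_odd` : lines `{a, b, a b}` against odd partners
* `reach_of_line`, `reach_conj` : components of the graph of odd products
* `exists_root` : on a line `{a, b}` with `b` not centralised, `b = (w a) ^ 2` for some member `w`
* `no_flip` : the commutator computation
* `card_oddPartners_eq`, `oddPartners_eq_of_subset`
-/

set_option autoImplicit false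

namespace Cfsg.Agent.RootInv

open Cfsg

variable {G : Type*} [Group G] {D : Set G}

/-- Distinct elements with product of odd order. -/
def OddP (a b : G) : Prop := a ≠ b ∧ Odd (orderOf (a * b))

/-- Elements with product of order four. -/
def FourP (a b : G) : Prop := orderOf (a * b) = 4

theorem oddPartners_eq (a : G) : oddPartners D a = {e | e ∈ D ∧ OddP a e} := by
  ext e
  simp [oddPartners, OddP, ne_comm]

/-- The computation with `[[w, e], g]`: a member cannot be flipped. -/
theorem no_flip {e g w f : G} (hw : w * w = 1) (he : e * e = 1) (hg : g * g = 1) (hge : g * e = e * g)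
    (hf : f = w * g * (w * g)) (hf1 : f * f = 1) (hk : w * e * (w * e) * (w * e * (w * e)) = 1)
    (hflip : e * f * e = f * g) : g = 1 := by
  have hwi : w⁻¹ = w := inv_eq_of_mul_eq_one_right hw
  have hei : e⁻¹ = e := inv_eq_of_mul_eq_one_right he
  have hgi : g⁻¹ = g := inv_eq_of_mul_eq_one_right hg
  set k := w * e * (w * e) with hk_def
  have hki : k⁻¹ = k := inv_eq_of_mul_eq_one_right hk
  have hki' : k⁻¹ = e * w * (e * w) := by
    rw [hk_def, mul_inv_rev, mul_inv_rev, hwi, hei]
  have hke : Commute k e := by
    show k * e = e * k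
    calc k * e = k⁻¹ * e := by rw [hki]
      _ = e * w * e * (w * e) := by rw [hki']; group
      _ = e * k := by rw [hk_def]; group
  have hge' : Commute g e := hge
  have h1 : e * w * e = w * k := by
    rw [hk_def, show w * (w * e * (w * e)) = w * w * (e * w * e) by group, hw, one_mul]
  have h2 : e * w * e = k * w := by
    calc e * w * e = k⁻¹ * w := by
          rw [hki', show e * w * (e * w) * w = e * w * e * (w * w) by group, hw, mul_one]
      _ = k * w := by rw [hki]
  -- `e f e = w k g k w g`, while `f g = w g w`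
  have h3 : w * (k * g * k) * w * g = w * g * w := by
    calc w * (k * g * k) * w * g = (w * k) * g * (k * w) * g := by group
      _ = (e * w * e) * g * (e * w * e) * g := by rw [← h1, ← h2]
      _ = e * f * e := by
          rw [hf]
          calc e * w * e * g * (e * w * e) * g = e * w * (e * (g * e)) * w * (e * g) := by group
            _ = e * w * ((e * e) * g) * w * (g * e) := by rw [hge, ← hge, mul_assoc e e g, hge, hge'.symm.eq]
            _ = e * (w * g * (w * g)) * e := by rw [he, one_mul]; group
      _ = f * g := hflip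
      _ = w * g * w := by rw [hf, show w * g * (w * g) * g = w * g * w * (g * g) by group, hg, mul_one]
  have h4 : k * g * k = f := by
    have hfi : f⁻¹ = f := inv_eq_of_mul_eq_one_right hf1
    calc k * g * k = w⁻¹ * (w * (k * g * k) * w * g) * g⁻¹ * w⁻¹ := by group
      _ = w⁻¹ * (w * g * w) * g⁻¹ * w⁻¹ := by rw [h3]
      _ = (w * g * (w * g))⁻¹ := by rw [mul_inv_rev, mul_inv_rev, hwi, hgi]; rw [show w * (w * g * w) = w * w * g * w by group, hw, one_mul]; group
      _ = f := by rw [← hf, hfi]
  have h5 : e * f * e = f := by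
    have : Commute (k * g * k) e := (hke.mul_left hge').mul_left hke
    rw [← h4, ← this.eq, mul_assoc _ e e, he, mul_one]
  rw [h5] at hflip
  exact left_eq_mul.1 hflip

section set

variable (hD : IsRootInvolutionSet D)
include hD

theorem mul_self {a : G} (ha : a ∈ D) : a * a = 1 := Involution.mul_self (hD.orderOf_eq a ha)

theorem inv_eq {a : G} (ha : a ∈ D) : a⁻¹ = a := Involution.inv_eq (hD.orderOf_eq a ha)

theorem ne_one {a : G} (ha : a ∈ D) : a ≠ 1 := Involution.ne_one (hD.orderOf_eq a ha)

theorem conj_mem' {a g : G} (ha : a ∈ D) (hg : g ∈ D) : g * a * g ∈ D := by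
  simpa [inv_eq hD hg] using hD.conj_mem a ha g

theorem orderOf_comm {a b : G} (ha : a ∈ D) (hb : b ∈ D) : orderOf (b * a) = orderOf (a * b) := by
  rw [← Involution.inv_mul_eq (hD.orderOf_eq a ha) (hD.orderOf_eq b hb), orderOf_inv]

theorem oddP_symm {a b : G} (ha : a ∈ D) (hb : b ∈ D) (h : OddP a b) : OddP b a :=
  ⟨h.1.symm, orderOf_comm hD ha hb ▸ h.2⟩

theorem fourP_symm {a b : G} (ha : a ∈ D) (hb : b ∈ D) (h : FourP a b) : FourP b a :=
  (orderOf_comm hD ha hb).trans h

theorem sq_eq_one_of_commute {a b : G} (ha : a ∈ D) (hb : b ∈ D) (h : a * b = b * a) :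
    (a * b) * (a * b) = 1 := by
  nth_rewrite 2 [h]
  rw [mul_assoc a b, ← mul_assoc b b a, mul_self hD hb, one_mul, mul_self hD ha]

theorem eq_one_of_odd_of_sq {z : G} (hodd : Odd (orderOf z)) (h : z * z = 1) : z = 1 := by
  rcases (Nat.dvd_prime Nat.prime_two).1 (orderOf_dvd_of_pow_eq_one ((sq z).trans h)) with h1 | h1
  · exact orderOf_eq_one_iff.1 h1
  · rw [h1] at hodd
    exact absurd hodd (by decide)

theorem not_commute_of_odd {a b : G} (ha : a ∈ D) (hb : b ∈ D) (h : OddP a b) : a * b ≠ b * a := by
  intro hc
  apply h.1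
  have h1 := eq_one_of_odd_of_sq hD h.2 (sq_eq_one_of_commute hD ha hb hc)
  rw [mul_eq_one_iff_eq_inv, inv_eq hD hb] at h1
  exact h1

theorem not_commute_of_four {a b : G} (ha : a ∈ D) (hb : b ∈ D) (h : FourP a b) : a * b ≠ b * a := by
  intro hc
  have h1 := orderOf_dvd_of_pow_eq_one (n := 2) ((sq (a * b)).trans (sq_eq_one_of_commute hD ha hb hc))
  rw [show orderOf (a * b) = 4 from h] at h1
  exact absurd h1 (by decide)

theorem not_odd_of_four {a b : G} (h : FourP a b) : ¬ OddP a b := fun ho => by
  have := ho.2
  rw [show orderOf (a * b) = 4 from h] at this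
  exact absurd this (by decide)

theorem cases' {a b : G} (ha : a ∈ D) (hb : b ∈ D) :
    a * b = b * a ∨ OddP a b ∨ FourP a b := by
  rcases hD.pair a ha b hb with h | h | h
  · exact Or.inl h
  · rcases eq_or_ne a b with rfl | hne
    · exact Or.inl rfl
    · exact Or.inr (Or.inl ⟨hne, h⟩)
  · exact Or.inr (Or.inr h.1)

theorem four_mem {a b : G} (ha : a ∈ D) (hb : b ∈ D) (h : FourP a b) : a * b * (a * b) ∈ D := by
  rcases hD.pair a ha b hb with h' | h' | h'
  · exact absurd h' (not_commute_of_four hD ha hb h)
  · rw [show orderOf (a * b) = 4 from h] at h'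
    exact absurd h' (by decide)
  · rw [← sq]; exact h'.2

theorem four_pow {a b : G} (h : FourP a b) : a * b * (a * b) * (a * b * (a * b)) = 1 := by
  have h4 := pow_orderOf_eq_one (a * b)
  rw [show orderOf (a * b) = 4 from h] at h4
  rw [← h4, pow_succ, pow_succ, pow_two]
  group

theorem four_commute_left {a b : G} (ha : a ∈ D) (hb : b ∈ D) (h : FourP a b) :
    Commute (a * b * (a * b)) a := by
  have hinv := inv_eq_of_mul_eq_one_right (four_pow hD h)
  show a * b * (a * b) * a = a * (a * b * (a * b))
  nth_rewrite 1 [← hinv]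
  rw [mul_inv_rev, mul_inv_rev, inv_eq hD ha, inv_eq hD hb,
    show b * a * (b * a) * a = b * a * b * (a * a) by group, mul_self hD ha, mul_one,
    show a * (a * b * (a * b)) = a * a * (b * a * b) by group, mul_self hD ha, one_mul]

theorem four_commute_right {a b : G} (ha : a ∈ D) (hb : b ∈ D) (h : FourP a b) :
    Commute (a * b * (a * b)) b := by
  have hinv := inv_eq_of_mul_eq_one_right (four_pow hD h)
  show a * b * (a * b) * b = b * (a * b * (a * b))
  rw [show a * b * (a * b) * b = a * b * a * (b * b) by group, mul_self hD hb, mul_one]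
  nth_rewrite 1 [← hinv]
  rw [mul_inv_rev, mul_inv_rev, inv_eq hD ha, inv_eq hD hb,
    show b * (b * a * (b * a)) = b * b * (a * b * a) by group, mul_self hD hb, one_mul]

/-- A member cannot be moved by an involution centralising an odd pair. -/
theorem not_mem_of_central {a b z : G} (ha : a ∈ D) (hb : b ∈ D) (h : OddP a b) (hz : z * z = 1)
    (hz1 : z ≠ 1) (hza : z * a = a * z) (hzb : z * b = b * z) : z * a ∉ D := by
  intro hm
  have hc : Commute z (a * b) := (show Commute z a from hza).mul_right hzb
  have h2 : orderOf z = 2 := Involution.orderOf_of_sq hz hz1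
  have hne : orderOf (a * b) ≠ 1 := fun e => h.1 (by
    have := orderOf_eq_one_iff.1 e
    rwa [mul_eq_one_iff_eq_inv, inv_eq hD hb] at this)
  have ho : orderOf (z * a * b) = 2 * orderOf (a * b) := by
    rw [mul_assoc, hc.orderOf_mul_eq_mul_orderOf_of_coprime (by rw [h2]; exact Nat.coprime_two_left.2 h.2), h2]
  rcases cases' hD hm hb with h' | h' | h'
  · have h1 := sq_eq_one_of_commute hD hm hb h'
    have := orderOf_dvd_of_pow_eq_one (n := 2) ((sq (z * a * b)).trans h1)
    rw [ho] at this
    exact hne (Nat.dvd_one.1 (Nat.dvd_of_mul_dvd_mul_left two_pos (by simpa using this)))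
  · have := h'.2
    rw [ho] at this
    exact absurd this (Nat.not_odd_iff_even.2 (even_two_mul _))
  · have h4 : 2 * orderOf (a * b) = 4 := ho ▸ h'
    have := h.2
    rw [show orderOf (a * b) = 2 by omega] at this
    exact absurd this (by decide)

/-- `push`: the square of `z d` moves `a`. -/
theorem push {a d z : G} (ha : a ∈ D) (hd : d ∈ D) (hz : z ∈ D) (h : OddP a d) (hza : z * a = a * z)
    (hzd : FourP z d) : FourP (z * d * (z * d)) a := by
  set e := z * d * (z * d) with he_def
  have he : e ∈ D := four_mem hD hz hd hzd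
  have hdzd : d * z * d = z * e := by
    rw [he_def, show z * (z * d * (z * d)) = z * z * (d * z * d) by group, mul_self hD hz, one_mul]
  rcases cases' hD he ha with h' | h' | h'
  · exfalso
    apply not_commute_of_four hD hz hd hzd
    have h1 : Commute a (d * z * d) := by
      rw [hdzd]
      exact (show Commute a z from hza.symm).mul_right (show Commute a e from h'.symm)
    have h2 : Commute z (d * a * d) := by
      show z * (d * a * d) = d * a * d * z
      have h1' : d * (a * (d * z * d)) * d = d * (d * z * d * a) * d := by rw [h1.eq]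
      calc z * (d * a * d) = (d * d) * z * (d * a * d) := by rw [mul_self hD hd, one_mul]
        _ = d * (d * z * d * a) * d := by group
        _ = d * (a * (d * z * d)) * d := h1'.symm
        _ = d * a * d * z * (d * d) := by group
        _ = d * a * d * z := by rw [mul_self hD hd, mul_one]
    have hca : Commute z a := hza
    have h3 : Commute z ((a * d) ^ 2) := by
      rw [sq, show a * d * (a * d) = a * (d * a * d) by group]
      exact hca.mul_right h2
    obtain ⟨m, hm⟩ := h.2
    have h4 : (a * d) = ((a * d) ^ 2) ^ (m + 1) := by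
      rw [← pow_mul, show 2 * (m + 1) = orderOf (a * d) + 1 by omega, pow_succ, pow_orderOf_eq_one, one_mul]
    have h5 : Commute z (a * d) := h4 ▸ h3.pow_right _
    have h6 := hca.mul_right h5
    rwa [Involution.left_mul_mul_left (hD.orderOf_eq a ha) (hD.orderOf_eq d hd)] at h6
  · exfalso
    exact not_mem_of_central hD he ha h' (mul_self hD hz) (ne_one hD hz)
      (four_commute_left hD hz hd hzd).eq.symm hza (hdzd ▸ conj_mem' hD hz hd)
  · exact h'

/-- `translate`: the third member of a line is again an odd partner. -/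
theorem translate {a d z : G} (ha : a ∈ D) (hd : d ∈ D) (hz : z ∈ D) (h : OddP a d) (hza : z * a = a * z)
    (haz : a * z ∈ D) (hzd : FourP z d) : OddP (a * z) d := by
  set e := z * d * (z * d) with he_def
  have he : e ∈ D := four_mem hD hz hd hzd
  have hpush : FourP e a := push hD ha hd hz h hza hzd
  have hed : Commute e d := four_commute_right hD hz hd hzd
  have hez : Commute e z := four_commute_left hD hz hd hzd
  have hzdz : z * d * z = e * d := by
    rw [he_def, show z * d * (z * d) * d = z * d * z * (d * d) by group, mul_self hD hd, mul_one]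
  have hdzd : d * z * d = e * z := by
    rw [hez.eq, he_def, show z * (z * d * (z * d)) = z * z * (d * z * d) by group, mul_self hD hz, one_mul]
  rcases cases' hD haz hd with h' | h' | h'
  · exfalso
    apply not_commute_of_four hD he ha hpush
    have h1 : d * a * d * e = a := by
      apply mul_right_cancel (b := z)
      calc d * a * d * e * z = d * a * d * (e * z) := by group
        _ = d * a * (d * d) * z * d := by rw [← hdzd]; group
        _ = d * (a * z * d) := by rw [mul_self hD hd, mul_one]; group
        _ = (d * d) * (a * z) := by rw [h']; group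
        _ = a * z := by rw [mul_self hD hd, one_mul]
    have h2 : a * e ∈ D := by
      rw [show a * e = d * a * d * (e * e) by rw [← mul_assoc (d * a * d) e e, h1], mul_self hD he, mul_one]
      exact conj_mem' hD ha hd
    have h3 := inv_eq hD h2
    rw [mul_inv_rev, inv_eq hD he, inv_eq hD ha] at h3
    exact h3
  · exact h'
  · exfalso
    set g1 := e * a * (e * a) with hg1_def
    have hg1 : g1 ∈ D := four_mem hD he ha hpush
    have hfour : FourP g1 d := push hD hd ha he (oddP_symm hD ha hd h) hed.eq hpush
    have haea : a * e * a = g1 * e := by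
      rw [← (four_commute_left hD he ha hpush).symm.eq,
        show e * (e * a * (e * a)) = e * e * (a * e * a) by group, mul_self hD he, one_mul]
    set g := a * z * d * (a * z * d) with hg_def
    have hgd : Commute g d := four_commute_right hD haz hd h'
    set r := a * d * (a * d) with hr
    have hg : g = g1 * e * r := by
      rw [hg_def, ← haea, hr]
      calc a * z * d * (a * z * d) = a * z * d * (z * a * d) := by rw [hza]
        _ = a * (z * d * z) * a * d := by group
        _ = a * (e * d) * a * d := by rw [hzdz]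
        _ = a * e * 1 * (d * a * d) := by group
        _ = a * e * (a * a) * (d * a * d) := by rw [mul_self hD ha]
        _ = _ := by group
    have hk : r * d * r⁻¹ = g1 * d * g1 := by
      have h1 : g * d = d * g := hgd
      rw [hg] at h1
      have h2 : r * d * r⁻¹ = (g1 * e)⁻¹ * d * (g1 * e) := by
        calc r * d * r⁻¹ = (g1 * e)⁻¹ * (g1 * e * r * d) * r⁻¹ := by group
          _ = _ := by rw [h1]; group
      rw [h2, mul_inv_rev, inv_eq hD hg1, inv_eq hD he]
      have hg1e : Commute g1 e := four_commute_left hD he ha hpush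
      calc e * g1 * d * (g1 * e) = (e * g1) * d * (g1 * e) := rfl
        _ = (g1 * e) * d * (e * g1) := by rw [hg1e.eq]
        _ = g1 * (e * d) * e * g1 := by group
        _ = g1 * d * (e * e) * g1 := by rw [hed.eq]; group
        _ = _ := by rw [mul_self hD he, mul_one]
    have hc : Commute (r * d * r⁻¹) d := by
      rw [hk]
      show g1 * d * g1 * d = d * (g1 * d * g1)
      have hh := four_pow hD hfour
      have := inv_eq_of_mul_eq_one_right hh
      rw [mul_inv_rev, mul_inv_rev, inv_eq hD hg1, inv_eq hD hd] at this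
      calc g1 * d * g1 * d = g1 * d * (g1 * d) := by group
        _ = d * g1 * (d * g1) := this.symm
        _ = _ := by group
    -- `r d r⁻¹ = (a d)⁴ d`
    have hrd : r * d * r⁻¹ = (a * d) ^ 4 * d := by
      rw [hr, mul_inv_rev, mul_inv_rev, inv_eq hD ha, inv_eq hD hd]
      simp only [pow_succ, pow_zero, one_mul]
      calc a * d * (a * d) * d * (d * a * (d * a)) = a * d * a * (d * d) * d * a * d * a := by group
        _ = a * d * a * d * a * d * a * 1 := by rw [mul_self hD hd]; group
        _ = a * d * a * d * a * d * a * (d * d) := by rw [mul_self hD hd]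
        _ = _ := by group
    rw [hrd] at hc
    have h8 : ((a * d) ^ 4) * ((a * d) ^ 4) = 1 := by
      have hconj : d * (a * d) ^ 4 * d⁻¹ = ((a * d) ^ 4)⁻¹ :=
        Involution.inverts_pow (Involution.inverts_mul_right (hD.orderOf_eq a ha) (hD.orderOf_eq d hd)) 4
      have h1 : d * (a * d) ^ 4 = (a * d) ^ 4 * d := by
        have := hc.eq
        rw [← mul_assoc] at this
        exact (mul_right_cancel this).symm
      rw [h1, mul_inv_cancel_right] at hconj
      nth_rewrite 1 [hconj]
      exact inv_mul_cancel _
    have h8' : orderOf (a * d) ∣ 2 ^ 3 := orderOf_dvd_of_pow_eq_one (by rw [← h8, ← pow_add]; norm_num)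
    have h1 := (Nat.Coprime.pow_right 3 (Nat.coprime_two_right.2 h.2)).eq_one_of_dvd h8'
    exact h.1 (by
      have := orderOf_eq_one_iff.1 h1
      rwa [mul_eq_one_iff_eq_inv, inv_eq hD hd] at this)

/-- On a line `{a, b, a b}` an odd partner of `a` is one of `b` or of `a b`. -/
theorem odd_or_odd {a b u : G} (ha : a ∈ D) (hb : b ∈ D) (hu : u ∈ D) (hab : b * a = a * b)
    (habD : a * b ∈ D) (h : OddP a u) : OddP b u ∨ OddP (a * b) u := by
  rcases cases' hD hb hu with h' | h' | h'
  · exact absurd (hab ▸ habD) (not_mem_of_central hD ha hu h (mul_self hD hb) (ne_one hD hb) hab h')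
  · exact Or.inl h'
  · exact Or.inr (translate hD ha hu hb h hab habD h')

theorem not_commute_line {a b u : G} (ha : a ∈ D) (hb : b ∈ D) (hu : u ∈ D) (hab : b * a = a * b)
    (habD : a * b ∈ D) (h : OddP a u) : b * u ≠ u * b := fun hc =>
  not_mem_of_central hD ha hu h (mul_self hD hb) (ne_one hD hb) hab hc (hab ▸ habD)

theorem conj_oddP {a b g : G} (h : OddP a b) : OddP (g * a * g⁻¹) (g * b * g⁻¹) := by
  refine ⟨fun e => h.1 (mul_left_cancel (mul_right_cancel e)), ?_⟩
  rw [show g * a * g⁻¹ * (g * b * g⁻¹) = g * (a * b) * g⁻¹ by group, Involution.orderOf_conj]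
  exact h.2

theorem conj_self {a g : G} (ha : a ∈ D) (hg : g ∈ D) : g * (g * a * g) * g = a := by
  rw [show g * (g * a * g) * g = g * g * a * (g * g) by group, mul_self hD hg, one_mul, mul_one]

/-! ### Components -/

theorem oddAdj_symm {a b : G} (h : OddAdj D a b) : OddAdj D b a :=
  ⟨h.2.1, h.1, h.2.2.1.symm, (oddP_symm hD h.1 h.2.1 h.2.2).2⟩

theorem reach_symm {a b : G} (h : Relation.ReflTransGen (OddAdj D) a b) :
    Relation.ReflTransGen (OddAdj D) b a := by
  induction h with
  | refl => exact .refl
  | tail _ e ih => exact (Relation.ReflTransGen.single (oddAdj_symm hD e)).trans ih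

theorem reach_single {a b : G} (ha : a ∈ D) (hb : b ∈ D) (h : OddP a b) :
    Relation.ReflTransGen (OddAdj D) a b := .single ⟨ha, hb, h⟩

theorem reach_conj {a b : G} (g : G) (h : Relation.ReflTransGen (OddAdj D) a b) :
    Relation.ReflTransGen (OddAdj D) (g * a * g⁻¹) (g * b * g⁻¹) := by
  induction h with
  | refl => exact .refl
  | tail _ e ih =>
    exact ih.tail ⟨hD.conj_mem _ e.1 g, hD.conj_mem _ e.2.1 g, conj_oddP hD e.2.2⟩

/-- Members of a line with odd partners lie in one component. -/
theorem reach_of_line {a b a' b' : G} (ha : a ∈ D) (hb : b ∈ D) (hab : b * a = a * b)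
    (habD : a * b ∈ D) (ha' : a' ∈ D) (haa' : OddP a a') (hb' : b' ∈ D) (hbb' : OddP b b') :
    Relation.ReflTransGen (OddAdj D) a b := by
  rcases odd_or_odd hD ha hb ha' hab habD haa' with h1 | h1
  · exact (reach_single hD ha ha' haa').trans (reach_symm hD (reach_single hD hb ha' h1))
  rcases odd_or_odd hD hb ha hb' hab.symm (by rwa [hab]) hbb' with h2 | h2
  · exact (reach_single hD ha hb' h2).trans (reach_symm hD (reach_single hD hb hb' hbb'))
  rw [hab] at h2
  exact ((reach_single hD ha ha' haa').trans (reach_symm hD (reach_single hD habD ha' h1))).trans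
    ((reach_single hD habD hb' h2).trans (reach_symm hD (reach_single hD hb hb' hbb')))

/-! ### Roots of members on a line -/

/-- The members completing `p` to a line and not centralised by `q`. -/
def lineSet (D : Set G) (p q : G) : Set G := {u | u ∈ D ∧ u * p = p * u ∧ p * u ∈ D ∧ FourP u q}

theorem mapsTo_lineSet {p q u : G} (hp : p ∈ D) (hq : q ∈ D) (h : OddP p q) (hu : u ∈ lineSet D p q) :
    u * q * (u * q) ∈ lineSet D q p := by
  obtain ⟨huD, hup, -, huq⟩ := hu
  have hc := four_commute_right hD huD hq huq
  refine ⟨four_mem hD huD hq huq, hc.eq, ?_, push hD hp hq huD h hup huq⟩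
  rw [← hc.eq, show u * q * (u * q) * q = u * q * u * (q * q) by group, mul_self hD hq, mul_one]
  exact conj_mem' hD hq huD

theorem injOn_lineSet {p q : G} (hp : p ∈ D) (hq : q ∈ D) (h : OddP p q) :
    Set.InjOn (fun u => u * q * (u * q)) (lineSet D p q) := by
  rintro u ⟨hu, hup, hpu, huq⟩ v ⟨hv, hvp, hpv, -⟩ he
  have he' : u * q * u = v * q * v := by
    have := congrArg (· * q) he
    simpa [mul_assoc, mul_self hD hq] using this
  set z := u * v
  have hzq : z * q = q * z := by
    calc z * q = u * (v * q * v) * v := by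
          rw [show u * (v * q * v) * v = u * v * q * (v * v) by group, mul_self hD hv, mul_one]
      _ = u * (u * q * u) * v := by rw [he']
      _ = q * z := by rw [show u * (u * q * u) * v = u * u * q * (u * v) by group, mul_self hD hu, one_mul]
  have hzp : Commute z p := (show Commute u p from hup).mul_left hvp
  have hr : OddP (p * u) q := translate hD hp hq hu h hup hpu huq
  set r := p * u * q with hr_def
  have hrz : r * z * r⁻¹ = z⁻¹ := by
    rw [hr_def, show p * u * q * z * (p * u * q)⁻¹ = p * (u * (q * z * q⁻¹) * u⁻¹) * p⁻¹ by group,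
      ← hzq, mul_inv_cancel_right, inv_eq hD hu]
    have e : u * z * u = z⁻¹ := by
      rw [show z⁻¹ = v⁻¹ * u⁻¹ from mul_inv_rev u v, inv_eq hD hu, inv_eq hD hv,
        show u * (u * v) * u = u * u * (v * u) by group, mul_self hD hu, one_mul]
    rw [e, ← hzp.inv_left.eq, mul_inv_cancel_right]
  -- a power of `r` centralising `z` generates `⟨r⟩`
  have hr2 : Commute (r ^ 2) z := by
    have h1 : r * (r * z * r⁻¹) * r⁻¹ = z := by
      rw [hrz, show r * z⁻¹ * r⁻¹ = (r * z * r⁻¹)⁻¹ by group, hrz, inv_inv]
    show r ^ 2 * z = z * r ^ 2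
    calc r ^ 2 * z = r * (r * z * r⁻¹) * r⁻¹ * r ^ 2 := by rw [sq]; group
      _ = z * r ^ 2 := by rw [h1]
  obtain ⟨m, hm⟩ := hr.2
  have hr1 : Commute r z := by
    have : r = (r ^ 2) ^ (m + 1) := by
      rw [← pow_mul, show 2 * (m + 1) = orderOf (p * u * q) + 1 by omega, ← hr_def, pow_succ,
        pow_orderOf_eq_one, one_mul]
    rw [this]
    exact hr2.pow_left _
  have hz2 : z * z = 1 := by
    rw [hr1.eq, mul_inv_cancel_right] at hrz
    nth_rewrite 1 [hrz]
    exact inv_mul_cancel _
  by_contra hne
  have hz1 : z ≠ 1 := fun e => hne ((eq_inv_of_mul_eq_one_left e).trans (inv_eq hD hv))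
  have hzu : z * u = u * z := by
    have h1 : z⁻¹ = z := inv_eq_of_mul_eq_one_right hz2
    have h2 : z⁻¹ = v * u := by rw [mul_inv_rev, inv_eq hD hu, inv_eq hD hv]
    calc z * u = z⁻¹ * u := by rw [h1]
      _ = v := by rw [h2, mul_assoc, mul_self hD hu, mul_one]
      _ = u * z := by rw [← mul_assoc, mul_self hD hu, one_mul]
  refine not_mem_of_central hD hpu hq hr hz2 hz1 (hzp.mul_right hzu).eq hzq ?_
  rw [← mul_assoc, hzp.eq, mul_assoc, hzu, ← mul_assoc u u v, mul_self hD hu, one_mul]
  exact hpv

/-- On a line `{a, b}` with `b` moved by a partner of `a`, `b` is the square of some `w a`. -/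
theorem exists_root [Finite G] {a b x : G} (ha : a ∈ D) (hb : b ∈ D) (hx : x ∈ D) (hab : b * a = a * b)
    (habD : a * b ∈ D) (h : OddP a x) (hbx : FourP b x) :
    ∃ w ∈ D, FourP w a ∧ w * a * (w * a) = b := by
  have h' := oddP_symm hD ha hx h
  let φ : lineSet D a x → lineSet D a x := fun u =>
    ⟨_, mapsTo_lineSet hD hx ha h' (mapsTo_lineSet hD ha hx h u.2)⟩
  have hinj : Function.Injective φ := fun u v e => Subtype.ext
    (injOn_lineSet hD ha hx h u.2 v.2
      (injOn_lineSet hD hx ha h' (mapsTo_lineSet hD ha hx h u.2) (mapsTo_lineSet hD ha hx h v.2)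
        (congrArg Subtype.val e)))
  obtain ⟨y, hy⟩ := Finite.surjective_of_injective hinj ⟨b, hb, hab, habD, hbx⟩
  have hw := mapsTo_lineSet hD ha hx h y.2
  exact ⟨_, hw.1, hw.2.2.2, congrArg Subtype.val hy⟩

/-! ### The number of odd partners -/

theorem oddPartners_conj (a g : G) :
    oddPartners D (g * a * g⁻¹) = (fun e => g * e * g⁻¹) '' oddPartners D a := by
  rw [oddPartners_eq, oddPartners_eq]
  ext e
  constructor
  · rintro ⟨he, hodd⟩
    refine ⟨g⁻¹ * e * g, ⟨by simpa using hD.conj_mem e he g⁻¹, ?_⟩, by group⟩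
    have := conj_oddP hD (g := g⁻¹) hodd
    simpa [mul_assoc] using this
  · rintro ⟨f, ⟨hf, hodd⟩, rfl⟩
    exact ⟨hD.conj_mem f hf g, conj_oddP hD hodd⟩

theorem card_oddPartners_eq (hc : IsConnectedSet (OddAdj D) D) {a b : G} (ha : a ∈ D) (hb : b ∈ D) :
    (oddPartners D a).ncard = (oddPartners D b).ncard := by
  have h := hc a ha b hb
  clear hb
  induction h with
  | refl => rfl
  | tail _ e ih =>
    obtain ⟨g, -, rfl⟩ := Involution.exists_conj_of_odd (hD.orderOf_eq _ e.1) (hD.orderOf_eq _ e.2.1) e.2.2.2
    rw [ih, oddPartners_conj hD, Set.ncard_image_of_injective _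
      (fun x y e => mul_left_cancel (mul_right_cancel e))]

theorem oddPartners_eq_of_subset [Finite G] (hc : IsConnectedSet (OddAdj D) D) {a b : G} (ha : a ∈ D)
    (hb : b ∈ D) (h : oddPartners D a ⊆ oddPartners D b) : oddPartners D a = oddPartners D b :=
  Set.eq_of_subset_of_ncard_le h (card_oddPartners_eq hD hc hb ha).le (Set.toFinite _)

end set

end Cfsg.Agent.RootInv
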