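import Cfsg.Agent.Lib.RankOne.RootInv
import Cfsg.Agent.Lib.Involution.BaerSuzuki
import Cfsg.Agent.Lib.Cores.Basic

/-!
Members of a set of root involutions with the same odd partners (connected graph of odd products).

* `commute_of_same` : they commute
* `commute_transfer` : they have the same commuting members
* `same_of_commutingMembers` : the converse
* `exists_order_three` : a pair with product of order three beside a line
-/

set_option autoImplicit false

namespace Cfsg.Agent.RootInv

open Cfsg

variable {G : Type*} [Group G] {D : Set G}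

theorem mem_oddPartners {a e : G} : e ∈ oddPartners D a ↔ e ∈ D ∧ OddP a e := by
  rw [oddPartners_eq]; rfl

section set

variable (hD : IsRootInvolutionSet D)
include hD

theorem exists_oddP (hc : IsConnectedSet (OddAdj D) D) {a b : G} (ha : a ∈ D) (hb : b ∈ D) (hne : a ≠ b) :
    ∃ x ∈ D, OddP a x := by
  rcases (hc a ha b hb).cases_head with h | ⟨x, hx, -⟩
  · exact absurd h hne
  · exact ⟨x, hx.2.1, hx.2.2⟩

theorem same_conj {a b : G} (hb : b ∈ D) (h : oddPartners D a = oddPartners D b) :
    oddPartners D (b * a * b⁻¹) = oddPartners D b := by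
  rw [oddPartners_conj hD, h, ← oddPartners_conj hD, mul_inv_cancel_right]

/-- The third member of a line inside a pair with the same odd partners has these partners too. -/
theorem same_four [Finite G] (hc : IsConnectedSet (OddAdj D) D) {e f : G} (he : e ∈ D) (hf : f ∈ D)
    (hef : FourP e f) (hsame : oddPartners D (f * e * f⁻¹) = oddPartners D e) :
    oddPartners D (e * f * (e * f)) = oddPartners D e := by
  have hg : e * f * (e * f) ∈ D := four_mem hD he hf hef
  refine oddPartners_eq_of_subset hD hc hg he fun y hy => ?_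
  rw [mem_oddPartners] at hy
  have hge := four_commute_left hD he hf hef
  have heq : e * f * (e * f) * e = f * e * f⁻¹ := by
    rw [hge.eq, inv_eq hD hf, show e * (e * f * (e * f)) = e * e * (f * e * f) by group, mul_self hD he, one_mul]
  rcases odd_or_odd hD hg he hy.1 hge.eq.symm (heq ▸ hD.conj_mem e he f) hy.2 with h | h
  · exact mem_oddPartners.2 ⟨hy.1, h⟩
  · rw [heq] at h
    rw [← hsame]
    exact mem_oddPartners.2 ⟨hy.1, h⟩

/-- Members with the same odd partners commute. -/
theorem commute_of_same [Finite G] (hc : IsConnectedSet (OddAdj D) D) {a b : G} (ha : a ∈ D) (hb : b ∈ D)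
    (h : oddPartners D b = oddPartners D a) : a * b = b * a := by
  classical
  rcases eq_or_ne a b with rfl | hne
  · rfl
  obtain ⟨x, hxD, hx⟩ := exists_oddP hD hc ha hb hne
  set K : Set G := {e | e ∈ D ∧ oddPartners D e = oddPartners D a} with hK
  have haK : a ∈ K := ⟨ha, rfl⟩
  have hbK : b ∈ K := ⟨hb, h⟩
  have hsq : ∀ e ∈ K, ∀ f ∈ K, e * f = f * e ∨ FourP e f := by
    intro e he f hf
    rcases cases' hD he.1 hf.1 with h' | h' | h'
    · exact Or.inl h'
    · exfalso
      have h1 : f ∈ oddPartners D e := mem_oddPartners.2 ⟨hf.1, h'⟩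
      rw [he.2, ← hf.2, mem_oddPartners] at h1
      exact h1.2.1 rfl
    · exact Or.inr h'
  have hKconj : ∀ e ∈ K, ∀ f ∈ K, f * e * f⁻¹ ∈ K := fun e he f hf =>
    ⟨hD.conj_mem e he.1 f, by rw [same_conj hD hf.1 (he.2.trans hf.2.symm), hf.2]⟩
  have hKsq : ∀ e ∈ K, ∀ f ∈ K, FourP e f → e * f * (e * f) ∈ K := fun e he f hf h' =>
    ⟨four_mem hD he.1 hf.1 h', by
      rw [same_four hD hc he.1 hf.1 h' ((hKconj e he f hf).2.trans he.2.symm), he.2]⟩
  -- the subgroup generated by `K` is a 2-group
  set V := Subgroup.closure K with hV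
  have hKV : ∀ e ∈ K, e ∈ V := fun e he => Subgroup.subset_closure he
  have hconjV : ∀ v ∈ V, ∀ e ∈ K, v * e * v⁻¹ ∈ K := by
    intro v hv
    induction hv using Subgroup.closure_induction'' with
    | one => intro e he; simpa using he
    | mem f hf => exact fun e he => hKconj e he f hf
    | inv_mem f hf =>
      intro e he
      rw [inv_eq hD hf.1]
      exact hKconj e he f hf
    | mul p q _ _ hp hq =>
      intro e he
      rw [show p * q * e * (p * q)⁻¹ = p * (q * e * q⁻¹) * p⁻¹ by group]
      exact hp _ (hq e he)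
  haveI : Fact (Nat.Prime 2) := ⟨Nat.prime_two⟩
  have hV2 : IsPGroup 2 V := by
    refine (Agent.Cores.pCore_eq_top_iff).1 (eq_top_iff.2 ?_)
    rintro ⟨v, hv⟩ -
    induction hv using Subgroup.closure_induction with
    | one => exact one_mem (Cfsg.pCore 2 V)
    | mul p q _ _ hp hq => exact mul_mem hp hq
    | inv p _ hp => exact inv_mem hp
    | mem e he =>
      refine Agent.Cores.le_pCore (N := Subgroup.normalClosure ({⟨e, hKV e he⟩} : Set V))
        Subgroup.normalClosure_normal ?_ (Subgroup.subset_normalClosure rfl)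
      refine Involution.baer_suzuki_element (⟨e, hKV e he⟩ : V) fun v => ?_
      have he' := hconjV v v.2 e he
      rcases eq_or_ne (⟨e, hKV e he⟩ : V) (v * ⟨e, hKV e he⟩ * v⁻¹) with heq | hne'
      · rw [← heq, Set.pair_eq_singleton, ← Subgroup.zpowers_eq_closure]
        exact IsPGroup.of_card (n := 1) (by
          rw [Nat.card_zpowers, ← Subgroup.orderOf_coe]; exact hD.orderOf_eq e he.1)
      refine Involution.isPGroup_closure_pair ?_ ?_ hne' (a := 2) ?_
      · rw [← Subgroup.orderOf_coe]; exact hD.orderOf_eq e he.1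
      · rw [← Subgroup.orderOf_coe]; exact hD.orderOf_eq _ he'.1
      · refine Subtype.ext ?_
        show (e * ((v : G) * e * (v : G)⁻¹)) ^ 4 = 1
        rcases hsq e he _ he' with h' | h'
        · rw [show 4 = 2 * 2 from rfl, pow_mul, sq (e * _), sq_eq_one_of_commute hD he.1 he'.1 h', one_pow]
        · rw [← h']; exact pow_orderOf_eq_one _
  -- a central member
  have hnil : Group.IsNilpotent V := hV2.isNilpotent
  obtain ⟨n, hn⟩ := hnil.nilpotent'
  have hcentral : ∀ m : ℕ, ∀ e : V, e ∈ Subgroup.upperCentralSeries V m → (e : G) ∈ K →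
      ∃ z ∈ K, ∀ f ∈ K, z * f = f * z := by
    intro m
    induction m with
    | zero =>
      intro e he heK
      rw [Subgroup.upperCentralSeries_zero, Subgroup.mem_bot] at he
      subst he
      exact absurd rfl (ne_one hD heK.1)
    | succ m ih =>
      intro e he heK
      by_cases hall : ∀ f ∈ K, (e : G) * f = f * e
      · exact ⟨e, heK, hall⟩
      push Not at hall
      obtain ⟨f, hf, hef⟩ := hall
      have h4 := (hsq e heK f hf).resolve_left hef
      have hg := hKsq e heK f hf h4
      refine ih ⟨(e : G) * f * ((e : G) * f), hKV _ hg⟩ ?_ hg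
      have h5 := Subgroup.mem_upperCentralSeries_succ_iff.1 he (⟨f, hKV f hf⟩ : V)
      have h6 : (⟨(e : G) * f * ((e : G) * f), hKV _ hg⟩ : V) = e * ⟨f, hKV f hf⟩ * e⁻¹ * ⟨f, hKV f hf⟩⁻¹ := by
        refine Subtype.ext ?_
        show (e : G) * f * ((e : G) * f) = (e : G) * f * (e : G)⁻¹ * f⁻¹
        rw [inv_eq hD heK.1, inv_eq hD hf.1]; group
      rw [h6]; exact h5
  obtain ⟨z, hz, hzc⟩ := hcentral n ⟨a, hKV a haK⟩ (by rw [hn]; exact Subgroup.mem_top _) haK
  -- transport
  have hxz : OddP z x := (mem_oddPartners.1 (hz.2.symm ▸ mem_oddPartners.2 ⟨hxD, hx⟩)).2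
  obtain ⟨s, -, hs⟩ := Involution.exists_conj_of_odd (hD.orderOf_eq z hz.1) (hD.orderOf_eq x hxD) hxz.2
  obtain ⟨t, -, ht⟩ := Involution.exists_conj_of_odd (hD.orderOf_eq x hxD) (hD.orderOf_eq a ha)
    (oddP_symm hD ha hxD hx).2
  have hu : (t * s) * z * (t * s)⁻¹ = a := by
    rw [← ht, ← hs]; group
  set u := t * s
  have hb' : u⁻¹ * b * u ∈ K := by
    refine ⟨by simpa using hD.conj_mem b hb u⁻¹, ?_⟩
    have e1 : u⁻¹ * b * u = u⁻¹ * b * u⁻¹⁻¹ := by group
    calc oddPartners D (u⁻¹ * b * u) = oddPartners D (u⁻¹ * a * u⁻¹⁻¹) := by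
          rw [e1, oddPartners_conj hD, h, ← oddPartners_conj hD]
      _ = oddPartners D z := by
          rw [show u⁻¹ * a * u⁻¹⁻¹ = z by rw [← hu]; group]
      _ = oddPartners D a := hz.2
  have := congrArg (fun w => u * w * u⁻¹) (hzc _ hb')
  calc a * b = (u * z * u⁻¹) * b := by rw [hu]
    _ = u * (z * (u⁻¹ * b * u)) * u⁻¹ := by group
    _ = u * (u⁻¹ * b * u * z) * u⁻¹ := this
    _ = b * (u * z * u⁻¹) := by group
    _ = b * a := by rw [hu]

/-- Members with the same odd partners commute with the same members. -/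
theorem commute_transfer [Finite G] (hc : IsConnectedSet (OddAdj D) D) {d e f : G} (hd : d ∈ D) (he : e ∈ D)
    (hf : f ∈ D) (h : oddPartners D e = oddPartners D d) (hfd : f * d = d * f) : f * e = e * f := by
  rcases cases' hD hf he with h' | h' | h'
  · exact h'
  · exfalso
    have : f ∈ oddPartners D e := mem_oddPartners.2 ⟨hf, oddP_symm hD hf he h'⟩
    rw [h] at this
    exact not_commute_of_odd hD hd hf (mem_oddPartners.1 this).2 hfd.symm
  exfalso
  have h4 := fourP_symm hD hf he h'
  set g := e * f * (e * f) with hg_def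
  have hg : g ∈ D := four_mem hD he hf h4
  have he' : oddPartners D (f * e * f⁻¹) = oddPartners D e := by
    rw [oddPartners_conj hD, h, ← oddPartners_conj hD]
    congr 1
    rw [hfd, mul_inv_cancel_right]
  have hgA : oddPartners D g = oddPartners D e := same_four hD hc he hf h4 he'
  have hge : g * e = e * g := four_commute_left hD he hf h4
  have hgf : g * f = f * g := four_commute_right hD he hf h4
  have hflip : e * f * e = f * g := by
    rw [← hgf, hg_def, show e * f * (e * f) * f = e * f * e * (f * f) by group, mul_self hD hf, mul_one]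
  have hfgD : g * f ∈ D := by
    rw [hgf, ← hflip]; exact conj_mem' hD hf he
  -- some common odd partner is moved by `f`
  obtain ⟨x, hx, hfx⟩ : ∃ x ∈ oddPartners D g, ¬ OddP f x := by
    by_contra hall
    push Not at hall
    have hsub : oddPartners D g ⊆ oddPartners D f := fun y hy =>
      mem_oddPartners.2 ⟨(mem_oddPartners.1 hy).1, hall y hy⟩
    have := oddPartners_eq_of_subset hD hc hg hf hsub
    exact not_commute_of_four hD hf he h' (commute_of_same hD hc hf he (hgA ▸ this))
  obtain ⟨hxD, hxg⟩ := mem_oddPartners.1 hx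
  have h4x : FourP f x := by
    rcases cases' hD hf hxD with h1 | h1 | h1
    · exact absurd h1 (not_commute_line hD hg hf hxD hgf.symm hfgD hxg)
    · exact absurd h1 hfx
    · exact h1
  obtain ⟨w, hw, hwg, hwf⟩ := exists_root hD hg hf hxD hgf.symm hfgD hxg h4x
  have hwe : w * e * (w * e) * (w * e * (w * e)) = 1 := by
    rcases cases' hD hw he with h1 | h1 | h1
    · rw [sq_eq_one_of_commute hD hw he h1, one_mul]
    · exfalso
      have h2 : w ∈ oddPartners D e := mem_oddPartners.2 ⟨hw, oddP_symm hD hw he h1⟩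
      rw [← hgA] at h2
      exact not_odd_of_four hD (fourP_symm hD hw hg hwg) (mem_oddPartners.1 h2).2
    · exact four_pow hD h1
  exact ne_one hD hg (no_flip (mul_self hD hw) (mul_self hD he) (mul_self hD hg) hge hwf.symm
    (mul_self hD hf) hwe hflip)

/-- Members commuting with the same members have the same odd partners. -/
theorem same_of_commutingMembers {d e : G} (hd : d ∈ D) (he : e ∈ D)
    (h : commutingMembers D d = commutingMembers D e) : oddPartners D d = oddPartners D e := by
  have key : ∀ {p q : G}, p ∈ D → q ∈ D → commutingMembers D p = commutingMembers D q →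
      oddPartners D p ⊆ oddPartners D q := by
    intro p q hp hq hpq y hy
    obtain ⟨hyD, hy⟩ := mem_oddPartners.1 hy
    have hqp : q * p = p * q := by
      have : q ∈ commutingMembers D p := hpq.symm ▸ ⟨hq, rfl⟩
      exact this.2
    refine mem_oddPartners.2 ⟨hyD, ?_⟩
    rcases cases' hD hq hyD with h' | h' | h'
    · exfalso
      have : y ∈ commutingMembers D p := hpq.symm ▸ ⟨hyD, h'.symm⟩
      exact not_commute_of_odd hD hp hyD hy this.2.symm
    · exact h'
    · exfalso
      have hg : q * y * (q * y) ∈ commutingMembers D q :=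
        ⟨four_mem hD hq hyD h', (four_commute_left hD hq hyD h').eq⟩
      rw [← hpq] at hg
      exact not_commute_of_four hD (four_mem hD hq hyD h') hp (push hD hp hyD hq hy hqp h') hg.2
  exact Set.Subset.antisymm (key hd he h) (key he hd h.symm)

theorem commutingMembers_eq_iff [Finite G] (hc : IsConnectedSet (OddAdj D) D) {d e : G} (hd : d ∈ D)
    (he : e ∈ D) : commutingMembers D d = commutingMembers D e ↔ oddPartners D d = oddPartners D e := by
  refine ⟨same_of_commutingMembers hD hd he, fun h => ?_⟩
  ext f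
  exact ⟨fun hf => ⟨hf.1, commute_transfer hD hc hd he hf.1 h.symm hf.2⟩,
    fun hf => ⟨hf.1, commute_transfer hD hc he hd hf.1 h hf.2⟩⟩

theorem mem_oddPartners_iff_not {d f : G} (hd : d ∈ D) :
    f ∈ oddPartners D d ↔ f ∈ D ∧ f ∉ commutingMembers D d ∪ fourPartners D d := by
  rw [mem_oddPartners]
  constructor
  · rintro ⟨hf, h⟩
    refine ⟨hf, ?_⟩
    rintro (h' | h')
    · exact not_commute_of_odd hD hd hf h h'.2.symm
    · exact not_odd_of_four hD h'.2 h
  · rintro ⟨hf, h⟩
    rcases cases' hD hd hf with h' | h' | h'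
    · exact absurd (Or.inl ⟨hf, h'.symm⟩) h
    · exact ⟨hf, h'⟩
    · exact absurd (Or.inr ⟨hf, h'⟩) h

theorem union_eq_iff {d e : G} (hd : d ∈ D) (he : e ∈ D) :
    commutingMembers D d ∪ fourPartners D d = commutingMembers D e ∪ fourPartners D e ↔
      oddPartners D d = oddPartners D e := by
  have hsub : ∀ p : G, commutingMembers D p ∪ fourPartners D p ⊆ D := fun p x hx => by
    rcases hx with hx | hx <;> exact hx.1
  constructor
  · intro h; ext f
    rw [mem_oddPartners_iff_not hD hd, mem_oddPartners_iff_not hD he, h]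
  · intro h; ext f
    have := Set.ext_iff.1 h f
    rw [mem_oddPartners_iff_not hD hd, mem_oddPartners_iff_not hD he] at this
    constructor <;> intro hf <;> by_contra hcon
    · exact (this.2 ⟨hsub _ hf, hcon⟩).2 hf
    · exact (this.1 ⟨hsub _ hf, hcon⟩).2 hf

/-- Beside a line which is not inside one class there is a pair with product of order three. -/
theorem exists_order_three [Finite G] (hc : IsConnectedSet (OddAdj D) D) {a b : G} (ha : a ∈ D) (hb : b ∈ D)
    (hab : b * a = a * b) (habD : a * b ∈ D) (hne : oddPartners D a ≠ oddPartners D b) :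
    ∃ x ∈ D, FourP b x ∧ orderOf (a * x) = 3 := by
  obtain ⟨y, hy, hby⟩ : ∃ y ∈ oddPartners D a, ¬ OddP b y := by
    by_contra hall
    push Not at hall
    exact hne (oddPartners_eq_of_subset hD hc ha hb fun y hy =>
      mem_oddPartners.2 ⟨(mem_oddPartners.1 hy).1, hall y hy⟩)
  obtain ⟨hyD, hay⟩ := mem_oddPartners.1 hy
  have h4 : FourP b y := by
    rcases cases' hD hb hyD with h | h | h
    · exact absurd h (not_commute_line hD ha hb hyD hab habD hay)
    · exact absurd h hby
    · exact h
  obtain ⟨w, hw, hwa, hwb⟩ := exists_root hD ha hb hyD hab habD hay h4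
  have hwb' : Commute b w := hwb ▸ four_commute_left hD hw ha hwa
  have hwbD : b * w ∈ D := by
    rw [hwb'.eq, ← hwb, show w * (w * a * (w * a)) = w * w * (a * w * a) by group, mul_self hD hw, one_mul]
    exact conj_mem' hD hw ha
  have hawa : a * w * a = w * b := by
    rw [← hwb, show w * (w * a * (w * a)) = w * w * (a * w * a) by group, mul_self hD hw, one_mul]
  -- a member `u` with `(u b) ^ 2 = w`
  obtain ⟨y', hy', hwy'⟩ : ∃ y' ∈ oddPartners D b, ¬ OddP w y' := by
    by_contra hall
    push Not at hall
    have := oddPartners_eq_of_subset hD hc hb hw fun y' hy' =>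
      mem_oddPartners.2 ⟨(mem_oddPartners.1 hy').1, hall y' hy'⟩
    exact not_commute_of_four hD hw ha hwa (commute_transfer hD hc hb hw ha this.symm hab.symm).symm
  obtain ⟨hy'D, hby'⟩ := mem_oddPartners.1 hy'
  have h4' : FourP w y' := by
    rcases cases' hD hw hy'D with h | h | h
    · exact absurd h (not_commute_line hD hb hw hy'D hwb'.symm.eq hwbD hby')
    · exact absurd h hwy'
    · exact h
  obtain ⟨u, hu, hub, huw⟩ := exists_root hD hb hw hy'D hwb'.symm.eq hwbD hby' h4'
  have hodd : OddP a u := by
    rcases cases' hD hu ha with h | h | h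
    · exfalso
      refine not_commute_of_four hD hw ha hwa ?_
      have hca : Commute a (u * b) := (show Commute a u from h.symm).mul_right hab.symm
      exact huw ▸ (hca.mul_right hca).symm.eq
    · exact oddP_symm hD hu ha h
    · exfalso
      exact ne_one hD hb (no_flip (mul_self hD hu) (mul_self hD ha) (mul_self hD hb) hab huw.symm
        (mul_self hD hw) (four_pow hD h) hawa)
  refine ⟨u, hu, fourP_symm hD hu hb hub, ?_⟩
  have hwu : Commute w u := huw ▸ four_commute_left hD hu hb hub
  have hubu : u * b * u = b * w := by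
    rw [hwb'.eq, ← huw, show u * b * (u * b) * b = u * b * u * (b * b) by group, mul_self hD hb, mul_one]
  set r := a * u with hr_def
  have hrb : r * b * r⁻¹ = w := by
    rw [hr_def, mul_inv_rev, inv_eq hD hu, inv_eq hD ha, show a * u * b * (u * a) = a * (u * b * u) * a by group,
      hubu, show a * (b * w) * a = a * b * w * a by group, ← hab,
      show b * a * w * a = b * (a * w * a) by group, hawa, hwb'.symm.eq, ← mul_assoc, mul_self hD hb, one_mul]
  have hrw : r * w * r⁻¹ = w * b := by
    rw [hr_def, mul_inv_rev, inv_eq hD hu, inv_eq hD ha, show a * u * w * (u * a) = a * (u * w) * u * a by group,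
      ← hwu.eq, show a * (w * u) * u * a = a * w * (u * u) * a by group, mul_self hD hu, mul_one, hawa]
  have hr3b : Commute (r ^ 3) b := by
    show r ^ 3 * b = b * r ^ 3
    calc r ^ 3 * b = r * (r * (r * b * r⁻¹) * r⁻¹) * r⁻¹ * r ^ 3 := by
          simp only [pow_succ, pow_zero, one_mul]; group
      _ = r * (w * b) * r⁻¹ * r ^ 3 := by rw [hrb, hrw]
      _ = (r * w * r⁻¹) * (r * b * r⁻¹) * r ^ 3 := by group
      _ = b * r ^ 3 := by
          rw [hrw, hrb, show w * b * w = (w * b) * w from rfl, hwb'.symm.eq, mul_assoc b w w,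
            mul_self hD hw, mul_one]
  have hr3 : r ^ 3 = 1 := by
    by_contra hne3
    have hinv : a * r ^ 3 * a⁻¹ = (r ^ 3)⁻¹ :=
      Involution.inverts_pow (Involution.inverts_mul_left (hD.orderOf_eq a ha) (hD.orderOf_eq u hu)) 3
    obtain ⟨m, hm⟩ := hodd.2
    -- `a r ^ 3` is a conjugate of `a`
    have hconjD : a * r ^ 3 ∈ D := by
      obtain ⟨c, -, hc'⟩ := (Involution.exists_conj_eq_mul_zpow_iff (hD.orderOf_eq a ha) (hD.orderOf_eq u hu) 3).2
        ⟨3 * ((m : ℤ) + 1), 3, by rw [hm]; push_cast; ring⟩
      have h' := hD.conj_mem a ha c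
      rw [hc'] at h'
      exact_mod_cast h'
    have ho : OddP a (a * r ^ 3) := by
      refine ⟨fun e => hne3 (left_eq_mul.1 e), ?_⟩
      rw [← mul_assoc, mul_self hD ha, one_mul]
      exact Odd.of_dvd_nat hodd.2 (orderOf_pow_dvd 3)
    exact not_commute_line hD ha hb hconjD hab habD ho
      ((show Commute b a from hab).mul_right hr3b.symm).eq
  rcases (Nat.dvd_prime Nat.prime_three).1 (orderOf_dvd_of_pow_eq_one hr3) with h | h
  · exact absurd (by
      have := orderOf_eq_one_iff.1 h
      rwa [hr_def, mul_eq_one_iff_eq_inv, inv_eq hD hu] at this) hodd.1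
  · exact h

end set

end Cfsg.Agent.RootInv
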