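import Cfsg.Agent.Lib.RankOne.Conj
/-!
Basic theory of rank one groups (`Cfsg.IsRankOnePair`): nontriviality, uniqueness of partners,
the set of unipotent subgroups, double transitivity and regularity, trivial intersections,
and the dichotomy for normalised subgroups.
-/

set_option autoImplicit false

namespace Cfsg.Agent.RankOne

open Cfsg

variable {G : Type*} [Group G] {A B : Subgroup G}

theorem left_ne_bot (h : IsRankOnePair A B) : A ≠ ⊥ := by
  intro hA
  apply h.ne
  rw [hA, eq_comm, Subgroup.eq_bot_iff_forall]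
  intro b hb
  by_contra hb1
  obtain ⟨a, ha, ha1, -⟩ := h.cond_right b hb hb1
  exact ha1 (by simpa [hA] using ha)

theorem right_ne_bot (h : IsRankOnePair A B) : B ≠ ⊥ := left_ne_bot (RankOnePair_symm h)

theorem inf_normalizer_eq_bot (h : IsRankOnePair A B) :
    A ⊓ Subgroup.normalizer (B : Set G) = ⊥ := by
  rw [Subgroup.eq_bot_iff_forall]
  rintro a ⟨ha, hn⟩
  by_contra ha1
  obtain ⟨b, hb, -, hab⟩ := h.cond_left a ha ha1
  rw [conjBy_of_mem_normalizer ((Subgroup.normalizer (B : Set G)).inv_mem hn)] at hab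
  apply h.ne
  rw [conjBy_eq_iff, inv_inv] at hab
  rw [hab, conjBy_of_mem hb]

theorem eq_one_of_mem_of_conjBy_eq (h : IsRankOnePair A B) {a : G} (ha : a ∈ A)
    (hn : conjBy B a = B) : a = 1 := by
  have : a ∈ A ⊓ Subgroup.normalizer (B : Set G) := ⟨ha, conjBy_eq_self_iff.1 hn⟩
  rwa [inf_normalizer_eq_bot h, Subgroup.mem_bot] at this

theorem eq_of_conjBy_eq (h : IsRankOnePair A B) {a a' : G} (ha : a ∈ A) (ha' : a' ∈ A)
    (he : conjBy B a = conjBy B a') : a = a' := by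
  rw [conjBy_eq_conjBy_iff] at he
  have := eq_one_of_mem_of_conjBy_eq h (A.mul_mem (A.inv_mem ha') ha) he
  exact (inv_mul_eq_one.1 this).symm

theorem inf_eq_bot (h : IsRankOnePair A B) : A ⊓ B = ⊥ := by
  rw [eq_bot_iff, ← inf_normalizer_eq_bot h]
  exact inf_le_inf_left A Subgroup.le_normalizer

theorem conjBy_right_ne_left (h : IsRankOnePair A B) {a : G} (ha : a ∈ A) :
    conjBy B a ≠ A := by
  intro he
  rw [conjBy_eq_iff, conjBy_of_mem (A.inv_mem ha)] at he
  exact h.ne he.symm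

theorem partner_unique_right (h : IsRankOnePair A B) {a b b' : G} (hb : b ∈ B) (hb' : b' ∈ B)
    (he : conjBy A b⁻¹ = conjBy B a⁻¹) (he' : conjBy A b'⁻¹ = conjBy B a⁻¹) : b = b' :=
  inv_inj.1 (eq_of_conjBy_eq (RankOnePair_symm h) (B.inv_mem hb) (B.inv_mem hb') (he.trans he'.symm))

theorem partner_unique_left (h : IsRankOnePair A B) {a a' b : G} (ha : a ∈ A) (ha' : a' ∈ A)
    (he : conjBy A b⁻¹ = conjBy B a⁻¹) (he' : conjBy A b⁻¹ = conjBy B a'⁻¹) : a = a' :=
  inv_inj.1 (eq_of_conjBy_eq h (A.inv_mem ha) (A.inv_mem ha') (he.symm.trans he'))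

theorem exists_conjBy_eq (h : IsRankOnePair A B) {b : G} (hb : b ∈ B) (hb1 : b ≠ 1) :
    ∃ a ∈ A, a ≠ 1 ∧ conjBy A b = conjBy B a := by
  obtain ⟨a, ha, ha1, he⟩ := h.cond_right b⁻¹ (B.inv_mem hb) (inv_ne_one.2 hb1)
  exact ⟨a⁻¹, A.inv_mem ha, inv_ne_one.2 ha1, by rw [inv_inv] at he; exact he.symm⟩

theorem left_mem_unipotents (A B : Subgroup G) : A ∈ unipotentSubgroups A B :=
  ⟨1, Subgroup.one_mem _, (conjBy_one A).symm⟩

theorem conjBy_mem_unipotents {C : Subgroup G} (hC : C ∈ unipotentSubgroups A B) {x : G}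
    (hx : x ∈ A ⊔ B) : conjBy C x ∈ unipotentSubgroups A B := by
  obtain ⟨y, hy, rfl⟩ := hC
  exact ⟨x * y, Subgroup.mul_mem _ hx hy, conjBy_conjBy A y x⟩

theorem exists_ne_one (h : IsRankOnePair A B) : ∃ a ∈ A, a ≠ 1 := by
  obtain ⟨⟨a, ha⟩, ha1⟩ := Subgroup.ne_bot_iff_exists_ne_one.1 (left_ne_bot h)
  exact ⟨a, ha, fun e => ha1 (Subtype.ext e)⟩

theorem exists_conjBy_swap (h : IsRankOnePair A B) :
    ∃ x ∈ A ⊔ B, conjBy A x = B := by
  obtain ⟨a, ha, ha1⟩ := exists_ne_one h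
  obtain ⟨b, hb, -, he⟩ := h.cond_left a ha ha1
  refine ⟨a * b⁻¹, Subgroup.mul_mem _ (Subgroup.mem_sup_left ha)
    (Subgroup.mem_sup_right (B.inv_mem hb)), ?_⟩
  rw [← conjBy_conjBy, he, conjBy_conjBy_inv]

theorem right_mem_unipotents (h : IsRankOnePair A B) : B ∈ unipotentSubgroups A B := by
  obtain ⟨x, hx, he⟩ := exists_conjBy_swap h
  exact ⟨x, hx, he.symm⟩

theorem unipotents_symm (h : IsRankOnePair A B) :
    unipotentSubgroups A B = unipotentSubgroups B A := by
  have key : ∀ {A B : Subgroup G}, IsRankOnePair A B →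
      unipotentSubgroups A B ⊆ unipotentSubgroups B A := by
    intro A B h C hC
    obtain ⟨x, hx, rfl⟩ := hC
    exact conjBy_mem_unipotents (right_mem_unipotents (RankOnePair_symm h)) (sup_comm A B ▸ hx)
  exact Set.Subset.antisymm (key h) (key (RankOnePair_symm h))

/-- `Ω = {A} ∪ {a B a⁻¹ | a ∈ A}`. -/
theorem mem_unipotents_iff (h : IsRankOnePair A B) {C : Subgroup G} :
    C ∈ unipotentSubgroups A B ↔ C = A ∨ ∃ a ∈ A, C = conjBy B a := by
  let T : Set (Subgroup G) := {C | C = A ∨ ∃ a ∈ A, C = conjBy B a}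
  have hA : ∀ a ∈ A, ∀ C ∈ T, conjBy C a ∈ T := by
    rintro a ha C (rfl | ⟨a', ha', rfl⟩)
    · exact Or.inl (conjBy_of_mem ha)
    · exact Or.inr ⟨a * a', A.mul_mem ha ha', conjBy_conjBy B a' a⟩
  have hB : ∀ b ∈ B, conjBy A b ∈ T := by
    intro b hb
    rcases eq_or_ne b 1 with rfl | hb1
    · exact Or.inl (conjBy_one A)
    · obtain ⟨a, ha, -, he⟩ := exists_conjBy_eq h hb hb1
      exact Or.inr ⟨a, ha, he⟩
  have hB' : ∀ b ∈ B, ∀ C ∈ T, conjBy C b ∈ T := by
    rintro b hb C (rfl | ⟨a, ha, rfl⟩)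
    · exact hB b hb
    · rcases eq_or_ne a 1 with rfl | ha1
      · exact Or.inr ⟨1, A.one_mem, by rw [conjBy_one, conjBy_of_mem hb]⟩
      · obtain ⟨b', hb', -, he⟩ := h.cond_left a⁻¹ (A.inv_mem ha) (inv_ne_one.2 ha1)
        rw [inv_inv] at he
        rw [← he, conjBy_conjBy]
        exact hB _ (B.mul_mem hb (B.inv_mem hb'))
  have hall : ∀ x ∈ A ⊔ B, ∀ C ∈ T, conjBy C x ∈ T := by
    intro x hx
    rw [Subgroup.sup_eq_closure] at hx
    induction hx using Subgroup.closure_induction_left with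
    | one => intro C hC; rwa [conjBy_one]
    | mul_left y hy z _ ih =>
      intro C hC
      rw [← conjBy_conjBy]
      rcases hy with hy | hy
      · exact hA y hy _ (ih C hC)
      · exact hB' y hy _ (ih C hC)
    | inv_mul_cancel y hy z _ ih =>
      intro C hC
      rw [← conjBy_conjBy]
      rcases hy with hy | hy
      · exact hA _ (A.inv_mem hy) _ (ih C hC)
      · exact hB' _ (B.inv_mem hy) _ (ih C hC)
  constructor
  · rintro ⟨x, hx, rfl⟩
    exact hall x hx A (Or.inl rfl)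
  · rintro (rfl | ⟨a, ha, rfl⟩)
    · exact left_mem_unipotents _ B
    · exact conjBy_mem_unipotents (right_mem_unipotents h) (Subgroup.mem_sup_left ha)

theorem exists_eq_conjBy_right (h : IsRankOnePair A B) {C : Subgroup G}
    (hC : C ∈ unipotentSubgroups A B) (hne : C ≠ A) : ∃ a ∈ A, C = conjBy B a :=
  ((mem_unipotents_iff h).1 hC).resolve_left hne

/-- The regular action of `A` on the other unipotent subgroups. -/
theorem existsUnique_conjBy (h : IsRankOnePair A B) {C D : Subgroup G}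
    (hC : C ∈ unipotentSubgroups A B) (hD : D ∈ unipotentSubgroups A B) (hCA : C ≠ A)
    (hDA : D ≠ A) : ∃! a : G, a ∈ A ∧ conjBy C a = D := by
  obtain ⟨c, hc, rfl⟩ := exists_eq_conjBy_right h hC hCA
  obtain ⟨d, hd, rfl⟩ := exists_eq_conjBy_right h hD hDA
  refine ⟨d * c⁻¹, ⟨A.mul_mem hd (A.inv_mem hc), by rw [conjBy_conjBy, inv_mul_cancel_right]⟩, ?_⟩
  rintro a ⟨ha, he⟩
  rw [conjBy_conjBy] at he
  exact eq_mul_inv_of_mul_eq (eq_of_conjBy_eq h (A.mul_mem ha hc) hd he)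

/-- Transitivity on ordered pairs of distinct unipotent subgroups. -/
theorem exists_conjBy_pair (h : IsRankOnePair A B) {C D : Subgroup G}
    (hC : C ∈ unipotentSubgroups A B) (hD : D ∈ unipotentSubgroups A B) (hne : C ≠ D) :
    ∃ x ∈ A ⊔ B, conjBy A x = C ∧ conjBy B x = D := by
  obtain ⟨y, hy, rfl⟩ := hC
  have hD' := conjBy_mem_unipotents hD (Subgroup.inv_mem _ hy)
  have hD'A : conjBy D y⁻¹ ≠ A := fun he => hne (by rw [conjBy_eq_iff, inv_inv] at he; exact he.symm)
  obtain ⟨a, ha, he⟩ := exists_eq_conjBy_right h hD' hD'A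
  refine ⟨y * a, Subgroup.mul_mem _ hy (Subgroup.mem_sup_left ha), ?_, ?_⟩
  · rw [← conjBy_conjBy, conjBy_of_mem ha]
  · rw [← conjBy_conjBy, ← he, conjBy_conjBy_inv]

theorem exists_conjBy_pair_pair (h : IsRankOnePair A B) {C₁ C₂ D₁ D₂ : Subgroup G}
    (hC₁ : C₁ ∈ unipotentSubgroups A B) (hC₂ : C₂ ∈ unipotentSubgroups A B)
    (hD₁ : D₁ ∈ unipotentSubgroups A B) (hD₂ : D₂ ∈ unipotentSubgroups A B)
    (hC : C₁ ≠ C₂) (hD : D₁ ≠ D₂) :
    ∃ x ∈ A ⊔ B, conjBy C₁ x = D₁ ∧ conjBy C₂ x = D₂ := by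
  obtain ⟨x, hx, rfl, rfl⟩ := exists_conjBy_pair h hC₁ hC₂ hC
  obtain ⟨y, hy, rfl, rfl⟩ := exists_conjBy_pair h hD₁ hD₂ hD
  exact ⟨y * x⁻¹, Subgroup.mul_mem _ hy (Subgroup.inv_mem _ hx),
    by rw [conjBy_conjBy, inv_mul_cancel_right], by rw [conjBy_conjBy, inv_mul_cancel_right]⟩

theorem three_unipotents (h : IsRankOnePair A B) :
    ∃ C₁ ∈ unipotentSubgroups A B, ∃ C₂ ∈ unipotentSubgroups A B,
      ∃ C₃ ∈ unipotentSubgroups A B, C₁ ≠ C₂ ∧ C₁ ≠ C₃ ∧ C₂ ≠ C₃ := by
  obtain ⟨a, ha, ha1⟩ := exists_ne_one h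
  exact ⟨A, left_mem_unipotents A B, B, right_mem_unipotents h, conjBy B a,
    conjBy_mem_unipotents (right_mem_unipotents h) (Subgroup.mem_sup_left ha), h.ne,
    (conjBy_right_ne_left h ha).symm, fun e => ha1 (eq_one_of_mem_of_conjBy_eq h ha e.symm)⟩

theorem unipotent_le_sup {C : Subgroup G} (hC : C ∈ unipotentSubgroups A B) : C ≤ A ⊔ B := by
  obtain ⟨x, hx, rfl⟩ := hC
  exact conjBy_le_of_le_of_mem le_sup_left hx

theorem rankOneCondition_conjBy {g : G} (h : RankOneCondition A B) :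
    RankOneCondition (conjBy A g) (conjBy B g) := by
  intro a ha ha1
  rw [mem_conjBy] at ha
  obtain ⟨b, hb, hb1, he⟩ := h _ ha (fun e => ha1 (by
    have := congrArg (fun t => g * t * g⁻¹) e
    simpa [mul_assoc] using this))
  refine ⟨g * b * g⁻¹, conj_mem_conjBy g hb, fun e => hb1 ?_, ?_⟩
  · have := congrArg (fun t => g⁻¹ * t * g) e
    simpa [mul_assoc] using this
  · have e1 : (g * b * g⁻¹)⁻¹ * g = g * b⁻¹ := by group
    have e2 : a⁻¹ * g = g * (g⁻¹ * a * g)⁻¹ := by group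
    rw [conjBy_conjBy, conjBy_conjBy, e1, e2, ← conjBy_conjBy, he, conjBy_conjBy]

theorem isRankOnePair_conjBy (h : IsRankOnePair A B) (g : G) :
    IsRankOnePair (conjBy A g) (conjBy B g) where
  ne := fun e => h.ne (conjBy_inj.1 e)
  nilpotent_left := by
    have := h.nilpotent_left
    exact Group.nilpotent_of_mulEquiv (A.equivMapOfInjective _ (MulAut.conj g).injective)
  nilpotent_right := by
    have := h.nilpotent_right
    exact Group.nilpotent_of_mulEquiv (B.equivMapOfInjective _ (MulAut.conj g).injective)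
  cond_left := rankOneCondition_conjBy h.cond_left
  cond_right := rankOneCondition_conjBy h.cond_right

/-- Any two distinct unipotent subgroups are unipotent subgroups of the same rank one group. -/
theorem isRankOnePair_of_mem (h : IsRankOnePair A B) {C D : Subgroup G}
    (hC : C ∈ unipotentSubgroups A B) (hD : D ∈ unipotentSubgroups A B) (hne : C ≠ D) :
    IsRankOnePair C D ∧ C ⊔ D = A ⊔ B ∧ unipotentSubgroups C D = unipotentSubgroups A B := by
  obtain ⟨x, hx, rfl, rfl⟩ := exists_conjBy_pair h hC hD hne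
  have hsup : conjBy A x ⊔ conjBy B x = A ⊔ B := by rw [← conjBy_sup, conjBy_of_mem hx]
  refine ⟨isRankOnePair_conjBy h x, hsup, ?_⟩
  ext E
  simp only [unipotentSubgroups, Set.mem_ofPred_eq, hsup]
  constructor
  · rintro ⟨y, hy, rfl⟩
    exact ⟨y * x, Subgroup.mul_mem _ hy hx, conjBy_conjBy A x y⟩
  · rintro ⟨y, hy, rfl⟩
    refine ⟨y * x⁻¹, Subgroup.mul_mem _ hy (Subgroup.inv_mem _ hx), ?_⟩
    rw [conjBy_conjBy, inv_mul_cancel_right]

theorem inf_eq_bot_of_mem (h : IsRankOnePair A B) {C D : Subgroup G}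
    (hC : C ∈ unipotentSubgroups A B) (hD : D ∈ unipotentSubgroups A B) (hne : C ≠ D) :
    C ⊓ D = ⊥ :=
  inf_eq_bot (isRankOnePair_of_mem h hC hD hne).1

theorem eq_of_mem_of_mem (h : IsRankOnePair A B) {C D : Subgroup G}
    (hC : C ∈ unipotentSubgroups A B) (hD : D ∈ unipotentSubgroups A B) {x : G} (hx1 : x ≠ 1)
    (hxC : x ∈ C) (hxD : x ∈ D) : C = D := by
  by_contra hne
  have : x ∈ C ⊓ D := ⟨hxC, hxD⟩
  rw [inf_eq_bot_of_mem h hC hD hne, Subgroup.mem_bot] at this
  exact hx1 this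

/-- A subgroup of `⟨A, B⟩` normalised by it either covers it modulo `A` or centralises it. -/
theorem sup_eq_or_le_centralizer (h : IsRankOnePair A B) {N : Subgroup G} (hN : N ≤ A ⊔ B)
    (hnor : A ⊔ B ≤ Subgroup.normalizer (N : Set G)) :
    N ⊔ A = A ⊔ B ∨ N ≤ Subgroup.centralizer ((A ⊔ B : Subgroup G) : Set G) := by
  by_cases hfix : ∀ n ∈ N, ∀ C ∈ unipotentSubgroups A B, conjBy C n = C
  · right
    have key : ∀ {A B : Subgroup G}, IsRankOnePair A B → A ≤ Subgroup.normalizer (N : Set G) →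
        (∀ n ∈ N, conjBy A n = A) → (∀ n ∈ N, conjBy B n = B) →
        ∀ a ∈ A, ∀ n ∈ N, a * n = n * a := by
      intro A B h hA hfA hfB a ha n hn
      have h1 : a * n * a⁻¹ * n⁻¹ ∈ A := by
        have h1 : n * a⁻¹ * n⁻¹ ∈ A := by
          have := conj_mem_conjBy n (A.inv_mem ha)
          rwa [hfA n hn] at this
        simpa [mul_assoc] using A.mul_mem ha h1
      have h2 : a * n * a⁻¹ * n⁻¹ ∈ N :=
        N.mul_mem ((Subgroup.mem_normalizer_iff.1 (hA ha) n).1 hn) (N.inv_mem hn)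
      have h3 := eq_one_of_mem_of_conjBy_eq h h1 (hfB _ h2)
      rwa [mul_inv_eq_one, mul_inv_eq_iff_eq_mul] at h3
    have hAn := key h (le_sup_left.trans hnor) (fun n hn => hfix n hn A (left_mem_unipotents A B))
      (fun n hn => hfix n hn B (right_mem_unipotents h))
    have hBn := key (RankOnePair_symm h) (le_sup_right.trans hnor)
      (fun n hn => hfix n hn B (right_mem_unipotents h))
      (fun n hn => hfix n hn A (left_mem_unipotents A B))
    intro n hn
    rw [Subgroup.mem_centralizer_iff]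
    intro x hx
    rw [SetLike.mem_coe, Subgroup.sup_eq_closure] at hx
    induction hx using Subgroup.closure_induction with
    | mem y hy => rcases hy with hy | hy
                  · exact hAn y hy n hn
                  · exact hBn y hy n hn
    | one => simp
    | mul y z _ _ hy hz => exact (Commute.mul_left hy hz : Commute (y * z) n)
    | inv y _ hy => exact (Commute.inv_left hy : Commute y⁻¹ n)
  · left
    push Not at hfix
    obtain ⟨n, hn, C, hC, hne⟩ := hfix
    obtain ⟨x, hx, hx1, hx2⟩ := exists_conjBy_pair_pair h hC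
      (conjBy_mem_unipotents hC (hN hn)) (left_mem_unipotents A B) (right_mem_unipotents h)
      hne.symm h.ne
    have hn' : x * n * x⁻¹ ∈ N := (Subgroup.mem_normalizer_iff.1 (hnor hx) n).1 hn
    have hm : conjBy A (x * n * x⁻¹) = B := by
      rw [← hx2, ← hx1, conjBy_conjBy, conjBy_conjBy, inv_mul_cancel_right]
    refine le_antisymm (sup_le hN le_sup_left) (sup_le le_sup_right ?_)
    rw [← hm]
    exact conjBy_le_of_le_of_mem le_sup_right (Subgroup.mem_sup_left hn')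

theorem normal_dichotomy (hg : A ⊔ B = ⊤) (h : IsRankOnePair A B) (N : Subgroup G) (hN : N.Normal) :
    N ⊔ A = ⊤ ∨ N ≤ Subgroup.center G := by
  rcases sup_eq_or_le_centralizer h (N := N) (hg ▸ le_top)
    (by rw [Subgroup.normalizer_eq_top_iff.2 hN]; exact le_top) with h1 | h1
  · exact Or.inl (h1.trans hg)
  · refine Or.inr (h1.trans ?_)
    rw [hg, Subgroup.coe_top, Subgroup.centralizer_univ]

end Cfsg.Agent.RankOne
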