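import Cfsg.Agent.Lib.RankOne.Lines
/-!
The graph of rank one pairs on a set of abstract root subgroups: conjugation invariance,
components along lines (`fReach_of_line`, `fReach_conj`), images under homomorphisms.
-/

set_option autoImplicit false

namespace Cfsg.Agent.RankOne

open Cfsg
open scoped commutatorElement

variable {G : Type*} [Group G] {S : Set (Subgroup G)} {A B C D E P : Subgroup G}

/-- Reachability in the graph of rank one pairs. -/
abbrev FReach (S : Set (Subgroup G)) : Subgroup G → Subgroup G → Prop := Relation.ReflTransGen (FAdj S)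

theorem fReach_symm (h : FReach S A B) : FReach S B A := by
  induction h with
  | refl => exact .refl
  | tail _ e ih => exact (Relation.ReflTransGen.single ⟨e.2.1, e.1, RankOnePair_symm e.2.2⟩).trans ih

theorem fReach_adj (hA : A ∈ S) (hB : B ∈ S) (h : IsRankOnePair A B) : FReach S A B :=
  .single ⟨hA, hB, h⟩

section RootSet

variable (hS : IsRootSubgroupSet S)
include hS

theorem fReach_conjBy (g : G) (h : FReach S A B) : FReach S (conjBy A g) (conjBy B g) := by
  induction h with
  | refl => exact .refl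
  | tail _ e ih =>
    exact ih.tail ⟨hS.conj_mem _ e.1 g, hS.conj_mem _ e.2.1 g, isRankOnePair_conjBy e.2.2 g⟩

/-- The member through `a z` (`z ∈ B`, `B` commuting with `A`) is reachable from `A`, or `B` is. -/
theorem fReach_of_translate (h : IsRankOnePair A D) (hA : A ∈ S) (hD : D ∈ S) (hB : B ∈ S)
    (hP : P ∈ S) (hAB : ⁅A, B⁆ = ⊥) {a z : G} (ha : a ∈ A) (ha1 : a ≠ 1) (hz : z ∈ B) (hz1 : z ≠ 1)
    (haz : a * z ∈ P) : IsRankOnePair B D ∨ IsRankOnePair P D := by
  rcases hS.pair B hB D hD with h' | h' | h'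
  · exfalso
    have hzc : z ∈ Subgroup.centralizer ((A ⊔ D : Subgroup G) : Set G) := by
      rw [Subgroup.sup_eq_closure, Subgroup.centralizer_closure]
      rintro y (hy | hy)
      · exact (elem_commute hAB hy hz).eq
      · exact (elem_commute h' hz hy).symm.eq
    refine hz1 (eq_of_translate hS h hD hzc ha ha1 hP ?_).1
    rwa [← (elem_commute hAB ha hz).eq]
  · exact Or.inl h'
  · exact Or.inr (rankOne_translate hS h hA hD hB hAB h' ha ha1 hz hP haz)

/-- Line partners with partners lie in one component. -/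
theorem fReach_of_line (hA : A ∈ S) (hB : B ∈ S) (hAD : ∃ D ∈ S, IsRankOnePair A D)
    (hBD : ∃ D ∈ S, IsRankOnePair B D) (hne : A ≠ B) (hline : B ∈ linePartners S A) :
    FReach S A B := by
  obtain ⟨DA, hDA, hA'⟩ := hAD
  obtain ⟨DB, hDB, hB'⟩ := hBD
  have hAB := hline.1.2.2
  obtain ⟨a, ha, ha1⟩ := member_exists_ne_one hS hA
  obtain ⟨z, hz, hz1⟩ := member_exists_ne_one hS hB
  have hne1 : a * z ≠ 1 := fun e => hne (eq_of_mem hS hA' hDA ha ha1 hB
    (eq_inv_of_mul_eq_one_left e ▸ B.inv_mem hz)).symm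
  obtain ⟨P, hP, hazP⟩ := hline.2.2.1 (a * z)
    (Subgroup.mul_mem _ (Subgroup.mem_sup_left ha) (Subgroup.mem_sup_right hz)) hne1
  have hazP' : z * a ∈ P := by rwa [← (elem_commute hAB ha hz).eq]
  rcases fReach_of_translate hS hA' hA hDA hB hP.1 hAB ha ha1 hz hz1 hazP with h' | h'
  · exact (fReach_adj hA hDA hA').trans (fReach_symm (fReach_adj hB hDA h'))
  rcases fReach_of_translate hS hB' hB hDB hA hP.1 (by rw [Subgroup.commutator_comm]; exact hAB)
    hz hz1 ha ha1 hazP' with h'' | h''
  · exact (fReach_adj hA hDB h'').trans (fReach_symm (fReach_adj hB hDB hB'))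
  · exact ((fReach_adj hA hDA hA').trans (fReach_symm (fReach_adj hP.1 hDA h'))).trans
      ((fReach_adj hP.1 hDB h'').trans (fReach_symm (fReach_adj hB hDB hB')))

/-- Conjugation by a root element stays in the component. -/
theorem fReach_conj_root (hA : A ∈ S) (hAD : ∃ D ∈ S, IsRankOnePair A D) (hC : C ∈ S) {c : G}
    (hc : c ∈ C) : FReach S A (conjBy A c) := by
  rcases eq_or_ne c 1 with rfl | hc1
  · rw [conjBy_one]
  rcases hS.pair A hA C hC with h' | h' | h'
  · rw [conjBy_of_commute fun a ha => ((elem_commute h' ha hc).symm).eq]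
  · have hmem : conjBy A c ∈ unipotentSubgroups A C :=
      conjBy_mem_unipotents (left_mem_unipotents A C) (Subgroup.mem_sup_right hc)
    rcases eq_or_ne (conjBy A c) A with e | e
    · rw [e]
    · exact fReach_adj hA (hS.conj_mem A hA c)
        (isRankOnePair_of_mem h' (left_mem_unipotents A C) hmem e.symm).1
  · obtain ⟨D, hD, hAD⟩ := hAD
    obtain ⟨a, ha, ha1⟩ := member_exists_ne_one hS hA
    set z := a⁻¹ * c * a * c⁻¹ with hz_def
    have hz : z ∈ ⁅A, C⁆ := by
      have := Subgroup.commutator_mem_commutator (A.inv_mem ha) hc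
      rwa [commutatorElement_def, inv_inv] at this
    have hz1 : z ≠ 1 := by
      intro e
      refine hc1 (line_injective hS hAD hA hC hD h' ha ha1 hc ?_)
      have := congrArg (fun t => a * t * c) e
      simp only [hz_def] at this
      simpa [mul_assoc] using this.symm
    have hmem : a * z ∈ conjBy A c := by
      rw [show a * z = c * a * c⁻¹ by simp only [hz_def]; group]
      exact conj_mem_conjBy c ha
    have hAC : ⁅A, ⁅A, C⁆⁆ = ⊥ := by rw [Subgroup.commutator_comm]; exact central_left h'
    rcases fReach_of_translate hS hAD hA hD h'.1 (hS.conj_mem A hA c) hAC ha ha1 hz hz1 hmem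
      with h'' | h''
    · have hfix : conjBy ⁅A, C⁆ c = ⁅A, C⁆ := conjBy_of_commute fun x hx =>
        ((central_of_case h' hx (Subgroup.mem_sup_right hc)).symm).eq
      have h1 : FReach S A ⁅A, C⁆ :=
        (fReach_adj hA hD hAD).trans (fReach_symm (fReach_adj h'.1 hD h''))
      have h2 := fReach_conjBy hS c h1
      rw [hfix] at h2
      exact h1.trans (fReach_symm h2)
    · exact (fReach_adj hA hD hAD).trans (fReach_symm (fReach_adj (hS.conj_mem A hA c) hD h''))

theorem fReach_conj (hall : ∀ A ∈ S, ∃ D ∈ S, IsRankOnePair A D) (g : G) :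
    ∀ A ∈ S, FReach S A (conjBy A g) := by
  let K : Subgroup G :=
    { carrier := {g | ∀ A ∈ S, FReach S A (conjBy A g)}
      one_mem' := fun A _ => by rw [conjBy_one]
      mul_mem' := fun {x y} hx hy A hA => by
        rw [← conjBy_conjBy]
        exact (hy A hA).trans (hx _ (hS.conj_mem A hA y))
      inv_mem' := fun {x} hx A hA => by
        have := hx _ (hS.conj_mem A hA x⁻¹)
        rw [conjBy_conjBy_inv] at this
        exact fReach_symm this }
  have hle : (⨆ A ∈ S, A) ≤ K := iSup₂_le fun C hC c hc A hA =>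
    fReach_conj_root hS hA (hall A hA) hC hc
  rw [hS.generates] at hle
  exact hle (Subgroup.mem_top g)

/-- The image of a rank one pair under a homomorphism is a rank one pair or collapses. -/
theorem map_pair {H : Type*} [Group H] (f : G →* H) (h : IsRankOnePair A B) :
    A.map f = B.map f ∨ IsRankOnePair (A.map f) (B.map f) := by
  by_cases he : A.map f = B.map f
  · exact Or.inl he
  right
  set N := f.ker ⊓ (A ⊔ B)
  have hnor : A ⊔ B ≤ Subgroup.normalizer (N : Set G) :=
    le_normalizer_of_conjBy_le fun g hg => by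
      rw [conjBy_inf, conjBy_of_normal inferInstance, conjBy_of_mem hg]
  have hkill : N.map f = ⊥ := (Subgroup.map_eq_bot_iff _).2 inf_le_left
  have hcen : N ≤ Subgroup.centralizer ((A ⊔ B : Subgroup G) : Set G) := by
    rcases sup_eq_or_le_centralizer h inf_le_right hnor with h1 | h1
    · rcases sup_eq_or_le_centralizer (RankOnePair_symm h) (N := N)
        (by rw [sup_comm]; exact inf_le_right) (by rw [sup_comm]; exact hnor) with h2 | h2
      · have e1 := congrArg (Subgroup.map f) h1
        have e2 := congrArg (Subgroup.map f) h2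
        rw [Subgroup.map_sup, hkill, bot_sup_eq] at e1 e2
        rw [e1, e2, sup_comm] at he
        exact absurd rfl he
      · rwa [sup_comm] at h2
    · exact h1
  have hnk : ∀ {b : G}, b ∈ B → b ≠ 1 → f b ≠ 1 := fun {b} hb hb1 e =>
    hb1 (eq_one_of_mem_of_conjBy_eq (RankOnePair_symm h) hb (conjBy_of_commute fun a ha =>
      (hcen ⟨e, Subgroup.mem_sup_right hb⟩ a (Subgroup.mem_sup_left ha)).symm))
  have hnk' : ∀ {a : G}, a ∈ A → a ≠ 1 → f a ≠ 1 := fun {a} ha ha1 e =>
    ha1 (eq_one_of_mem_of_conjBy_eq h ha (conjBy_of_commute fun b hb =>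
      (hcen ⟨e, Subgroup.mem_sup_left ha⟩ b (Subgroup.mem_sup_right hb)).symm))
  refine ⟨he, ?_, ?_, ?_, ?_⟩
  · have := h.nilpotent_left
    exact Group.nilpotent_of_surjective (f.subgroupMap A) (f.subgroupMap_surjective A)
  · have := h.nilpotent_right
    exact Group.nilpotent_of_surjective (f.subgroupMap B) (f.subgroupMap_surjective B)
  · rintro _ ⟨a, ha, rfl⟩ hne
    obtain ⟨b, hb, hb1, hab⟩ := h.cond_left a ha fun e => hne (by rw [e, map_one])
    refine ⟨f b, ⟨b, hb, rfl⟩, hnk hb hb1, ?_⟩
    rw [← map_inv, ← map_inv, ← map_conjBy, ← map_conjBy, hab]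
  · rintro _ ⟨b, hb, rfl⟩ hne
    obtain ⟨a, ha, ha1, hab⟩ := h.cond_right b hb fun e => hne (by rw [e, map_one])
    refine ⟨f a, ⟨a, ha, rfl⟩, hnk' ha ha1, ?_⟩
    rw [← map_inv, ← map_inv, ← map_conjBy, ← map_conjBy, hab]

theorem map_bot_iff_of_pair {H : Type*} [Group H] (f : G →* H) (h : IsRankOnePair A B) :
    A.map f = ⊥ ↔ B.map f = ⊥ := by
  obtain ⟨x, -, hx⟩ := exists_conjBy_swap h
  rw [← hx, map_conjBy, conjBy_eq_bot_iff]

end RootSet

end Cfsg.Agent.RankOne
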