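import Cfsg.Agent.Lib.RankOne.Basic
/-!
Rank one groups acting quadratically on an abelian group: fixed points, pointwise stabilisers of
invariant subgroups, `isSpecial_of_quadratic`.
-/

set_option autoImplicit false

namespace Cfsg.Agent.RankOne

open Cfsg

variable {X : Type*} [Group X] {N : Type*} [AddCommGroup N] [DistribMulAction X N]

/-- `C_N(A)`. -/
def fixedOf (N : Type*) [AddCommGroup N] [DistribMulAction X N] (A : Subgroup X) : AddSubgroup N where
  carrier := {v | ∀ a ∈ A, a • v = v}
  add_mem' := fun {v w} hv hw a ha => by rw [smul_add, hv a ha, hw a ha]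
  zero_mem' := fun a _ => smul_zero a
  neg_mem' := fun {v} hv a ha => by rw [smul_neg, hv a ha]

theorem mem_fixedOf {A : Subgroup X} {v : N} : v ∈ fixedOf N A ↔ ∀ a ∈ A, a • v = v := Iff.rfl

/-- The pointwise stabiliser of a set of vectors. -/
def fixerOf (X : Type*) [Group X] {N : Type*} [AddCommGroup N] [DistribMulAction X N] (S : Set N) :
    Subgroup X where
  carrier := {x | ∀ v ∈ S, x • v = v}
  mul_mem' := fun {x y} hx hy v hv => by rw [mul_smul, hy v hv, hx v hv]
  one_mem' := fun v _ => one_smul X v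
  inv_mem' := fun {x} hx v hv => by rw [inv_smul_eq_iff, hx v hv]

theorem fixerOf_normal {S : Set N} (hS : ∀ x : X, ∀ v ∈ S, x • v ∈ S) : (fixerOf X S).Normal :=
  ⟨fun n hn g v hv => by rw [mul_smul, mul_smul, hn _ (hS g⁻¹ v hv), smul_inv_smul]⟩

theorem smul_mem_fixedOf_conjBy {A : Subgroup X} {g : X} {v : N} (hv : v ∈ fixedOf N A) :
    g • v ∈ fixedOf N (conjBy A g) := fun a ha => by
  have := hv _ (mem_conjBy.1 ha)
  rwa [mul_smul, mul_smul, inv_smul_eq_iff] at this

theorem quadratic_conjBy {A : Subgroup X}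
    (hq : ∀ a ∈ A, ∀ a' ∈ A, ∀ n : N, a' • (a • n - n) = a • n - n) (g : X) :
    ∀ a ∈ conjBy A g, ∀ a' ∈ conjBy A g, ∀ n : N, a' • (a • n - n) = a • n - n := by
  intro a ha a' ha' n
  have h := hq _ (mem_conjBy.1 ha) _ (mem_conjBy.1 ha') (g⁻¹ • n)
  simp only [mul_smul, smul_inv_smul] at h
  rw [← smul_sub, smul_inv_smul] at h
  exact smul_left_cancel g⁻¹ h

variable {A B : Subgroup X}

/-- If `g` maps `C(A)` into `C(B)` via `g = a b⁻¹` then `b` moves `a (b c - c)` by `b c - c`. -/
theorem quadratic_shift (hqB : ∀ b ∈ B, ∀ b' ∈ B, ∀ n : N, b' • (b • n - n) = b • n - n) {a b : X}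
    (ha : a ∈ A) (hb : b ∈ B) (hab : conjBy A (a * b⁻¹) = B) {c : N} (hc : c ∈ fixedOf N A) :
    b • (a • (b • c - c)) = a • (b • c - c) + (b • c - c) := by
  set d := b • c - c with hd
  have hbd : b⁻¹ • d = d := hqB b hb b⁻¹ (B.inv_mem hb) c
  have hbc : b⁻¹ • c = c - d := by
    rw [hd, smul_sub, inv_smul_smul] at hbd
    rw [hd, ← hbd]; abel
  have h := smul_mem_fixedOf_conjBy (g := a * b⁻¹) hc
  rw [hab] at h
  have h' := h b hb
  rw [mul_smul, hbc, smul_sub, hc a ha, smul_sub] at h'
  rw [hd] at h' ⊢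
  linear_combination (norm := abel) (-1 : ℤ) • h'

/-- A rank one group with a quadratic module that is not quadratic is special. -/
theorem isSpecial_of_quadratic (hg : A ⊔ B = ⊤) (h : IsRankOnePair A B)
    (hq : ∀ a ∈ A, ∀ a' ∈ A, ∀ n : N, a' • (a • n - n) = a • n - n)
    (hX : ∃ x y : X, ∃ n : N, y • (x • n - n) ≠ x • n - n) : IsSpecialRankOnePair A B := by
  obtain ⟨g, -, hgA⟩ := exists_conjBy_swap h
  have hqB : ∀ b ∈ B, ∀ b' ∈ B, ∀ n : N, b' • (b • n - n) = b • n - n := hgA ▸ quadratic_conjBy hq g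
  have hAmem : ∀ a ∈ A, ∀ n : N, a • n - n ∈ fixedOf N A := fun a ha n a' ha' => hq a ha a' ha' n
  have hBmem : ∀ b ∈ B, ∀ n : N, b • n - n ∈ fixedOf N B := fun b hb n b' hb' => hqB b hb b' hb' n
  set N₀ : AddSubgroup N := fixedOf N A ⊔ fixedOf N B with hN₀
  -- every element moves every vector within `N₀`
  let S : Subgroup X :=
    { carrier := {x | ∀ n : N, x • n - n ∈ N₀}
      one_mem' := fun n => by rw [one_smul, sub_self]; exact N₀.zero_mem
      mul_mem' := fun {x y} hx hy n => by
        have := N₀.add_mem (hx (y • n)) (hy n)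
        rwa [← mul_smul, sub_add_sub_cancel] at this
      inv_mem' := fun {x} hx n => by
        have := N₀.neg_mem (hx (x⁻¹ • n))
        rwa [smul_inv_smul, neg_sub] at this }
  have hS : ∀ x : X, x ∈ S := fun x => by
    have : (⊤ : Subgroup X) ≤ S := hg ▸ sup_le
      (fun a ha n => AddSubgroup.mem_sup_left (hAmem a ha n))
      (fun b hb n => AddSubgroup.mem_sup_right (hBmem b hb n))
    exact this (Subgroup.mem_top x)
  have hinv : ∀ x : X, ∀ v ∈ (N₀ : Set N), x • v ∈ (N₀ : Set N) := fun x v hv => by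
    have := N₀.add_mem (hS x v) hv
    rwa [sub_add_cancel] at this
  have hN1 := fixerOf_normal hinv
  have hcentral : fixerOf X (N₀ : Set N) ≤ Subgroup.center X := by
    refine (normal_dichotomy hg h _ hN1).resolve_left fun htop => ?_
    -- the group acts on `N₀` as `A` does, hence quadratically on `N`
    have hdec : ∀ x : X, ∃ a ∈ A, ∀ v ∈ N₀, x • v = a • v := by
      intro x
      have hx : x ∈ A ⊔ fixerOf X (N₀ : Set N) := by rw [sup_comm, htop]; trivial
      rw [Subgroup.mem_sup_of_normal_right] at hx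
      obtain ⟨a, ha, m, hm, rfl⟩ := hx
      exact ⟨a, ha, fun v hv => by rw [mul_smul, hm v hv]⟩
    have hsame : ∀ v ∈ N₀, v ∈ fixedOf N A ↔ v ∈ fixedOf N B := by
      intro v hv
      have hgi : g⁻¹ • v ∈ N₀ := hinv _ v hv
      constructor
      · intro hvA b hb
        obtain ⟨a, ha, he⟩ := hdec b
        rw [he v hv, hvA a ha]
      · intro hvB x hx
        obtain ⟨a, ha, he⟩ := hdec g⁻¹
        have hgv : g⁻¹ • v ∈ fixedOf N A := by
          have := smul_mem_fixedOf_conjBy (g := g⁻¹) hvB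
          rwa [← hgA, conjBy_inv_conjBy] at this
        have h1 := hgv (a * x * a⁻¹) (A.mul_mem (A.mul_mem ha hx) (A.inv_mem ha))
        rw [he v hv, ← mul_smul, mul_assoc, mul_assoc, inv_mul_cancel, mul_one, mul_smul] at h1
        exact smul_left_cancel a h1
    obtain ⟨x, y, n, hne⟩ := hX
    apply hne
    let T : Subgroup X :=
      { carrier := {x | ∀ n : N, x • n - n ∈ fixedOf N A}
        one_mem' := fun n => by rw [one_smul, sub_self]; exact (fixedOf N A).zero_mem
        mul_mem' := fun {x y} hx hy n => by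
          have := (fixedOf N A).add_mem (hx (y • n)) (hy n)
          rwa [← mul_smul, sub_add_sub_cancel] at this
        inv_mem' := fun {x} hx n => by
          have := (fixedOf N A).neg_mem (hx (x⁻¹ • n))
          rwa [smul_inv_smul, neg_sub] at this }
    have hT : x ∈ T := (show (⊤ : Subgroup X) ≤ T from hg ▸ sup_le (fun a ha n => hAmem a ha n)
      (fun b hb n => (hsame _ (hS b n)).2 (hBmem b hb n))) (Subgroup.mem_top x)
    obtain ⟨a, ha, he⟩ := hdec y
    rw [he _ (hS x n), hT n a ha]
  refine ⟨h, fun a ha ha1 b hb hb1 hcond => ?_⟩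
  have hab : conjBy A (a * b⁻¹) = B := by rw [← conjBy_conjBy, hcond, conjBy_conjBy_inv]
  have hba : conjBy B (b * a⁻¹) = A := by rw [← conjBy_conjBy, ← hcond, conjBy_conjBy_inv]
  have hagree : ∀ v ∈ N₀, (b⁻¹ * a * b) • v = (a⁻¹ * b⁻¹ * a) • v := by
    intro v hv
    obtain ⟨c, hc, c', hc', rfl⟩ := AddSubgroup.mem_sup.1 hv
    rw [smul_add, smul_add]
    congr 1
    · set d := b • c - c with hd
      have hbd : b⁻¹ • d = d := hBmem b hb c b⁻¹ (B.inv_mem hb)
      have hbc : b • c = c + d := by rw [hd]; abel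
      have hbc' : b⁻¹ • c = c - d := by
        rw [hd, smul_sub, inv_smul_smul] at hbd
        rw [hd, ← hbd]; abel
      have h1 : b⁻¹ • (a • d) = a • d - d := by
        have := congrArg (b⁻¹ • ·) (quadratic_shift hqB ha hb hab hc)
        rw [← hd] at this
        simp only [inv_smul_smul, smul_add, hbd] at this
        exact eq_sub_of_add_eq this.symm
      have h2 : a⁻¹ • d = d - (a • d - d) := by
        have := hAmem a ha d a⁻¹ (A.inv_mem ha)
        rw [smul_sub, inv_smul_smul] at this
        linear_combination (norm := abel) (-1 : ℤ) • this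
      simp only [mul_smul, hbc, smul_add, hc a ha, hbc', h1, smul_sub, hc a⁻¹ (A.inv_mem ha), h2]
      abel
    · set e := a • c' - c' with he
      have hae : a⁻¹ • e = e := hAmem a ha c' a⁻¹ (A.inv_mem ha)
      have hac : a • c' = c' + e := by rw [he]; abel
      have hac' : a⁻¹ • c' = c' - e := by
        rw [he, smul_sub, inv_smul_smul] at hae
        rw [he, ← hae]; abel
      have h1 : a⁻¹ • (b • e) = b • e - e := by
        have := congrArg (a⁻¹ • ·) (quadratic_shift hq hb ha hba hc')
        rw [← he] at this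
        simp only [inv_smul_smul, smul_add, hae] at this
        exact eq_sub_of_add_eq this.symm
      have h2 : b⁻¹ • e = e - (b • e - e) := by
        have := hBmem b hb e b⁻¹ (B.inv_mem hb)
        rw [smul_sub, inv_smul_smul] at this
        linear_combination (norm := abel) (-1 : ℤ) • this
      simp only [mul_smul, hc' b hb, hac, smul_add, hc' b⁻¹ (B.inv_mem hb), hac', h2, smul_sub, hae, h1]
      abel
  set w := (b⁻¹ * a * b)⁻¹ * (a⁻¹ * b⁻¹ * a) with hw
  have hwZ : w ∈ Subgroup.center X := hcentral fun v hv => by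
    rw [hw, mul_smul, ← hagree v hv, inv_smul_smul]
  have hwD : w ∈ conjBy A b⁻¹ := by
    refine Subgroup.mul_mem _ (Subgroup.inv_mem _ ?_) ?_
    · have := conj_mem_conjBy b⁻¹ ha
      rwa [inv_inv] at this
    · rw [hcond]
      have := conj_mem_conjBy a⁻¹ (B.inv_mem hb)
      rwa [inv_inv] at this
  have hwA : w ∈ A := by
    have := mem_conjBy.1 hwD
    rwa [inv_inv, Subgroup.mem_center_iff.1 hwZ b, mul_inv_cancel_right] at this
  have hwB : w ∈ B := by
    rw [hcond] at hwD
    have := mem_conjBy.1 hwD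
    rwa [inv_inv, Subgroup.mem_center_iff.1 hwZ a, mul_inv_cancel_right] at this
  have : w ∈ A ⊓ B := ⟨hwA, hwB⟩
  rw [inf_eq_bot h, Subgroup.mem_bot, hw, inv_mul_eq_one] at this
  exact this

end Cfsg.Agent.RankOne
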