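import Cfsg.Agent.Lib.RankOne.RootSet
/-!
Line partners in sets of abstract root subgroups: `push`, `rankOne_translate`,
`commutator_eq_of_line`, the structure of `A ⊔ ⁅A, B⁆` (`line_members`, `line_injective`, ...),
connectivity along lines.
-/

set_option autoImplicit false

namespace Cfsg.Agent.RankOne

open Cfsg
open scoped commutatorElement

variable {G : Type*} [Group G] {S : Set (Subgroup G)} {A B C D E P : Subgroup G}

theorem le_normalizer_of_conjBy_le {W H : Subgroup G} (h : ∀ g ∈ H, conjBy W g ≤ W) :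
    H ≤ Subgroup.normalizer (W : Set G) := fun g hg => conjBy_eq_self_iff.1 (le_antisymm (h g hg) (by
  have := conjBy_mono (h g⁻¹ (H.inv_mem hg)) g
  rwa [conjBy_conjBy_inv] at this))

theorem mem_sup_of_commutator_eq_bot (h : ⁅A, C⁆ = ⊥) {x : G} (hx : x ∈ A ⊔ C) :
    ∃ a ∈ A, ∃ c ∈ C, a * c = x := by
  rw [Subgroup.sup_eq_closure] at hx
  induction hx using Subgroup.closure_induction with
  | mem y hy =>
    rcases hy with hy | hy
    · exact ⟨y, hy, 1, C.one_mem, mul_one y⟩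
    · exact ⟨1, A.one_mem, y, hy, one_mul y⟩
  | one => exact ⟨1, A.one_mem, 1, C.one_mem, one_mul 1⟩
  | mul y z _ _ hy hz =>
    obtain ⟨a, ha, c, hc, rfl⟩ := hy
    obtain ⟨a', ha', c', hc', rfl⟩ := hz
    refine ⟨a * a', A.mul_mem ha ha', c * c', C.mul_mem hc hc', ?_⟩
    rw [mul_assoc, mul_assoc, ← mul_assoc a' c c', (elem_commute h ha' hc).eq, mul_assoc]
  | inv y _ hy =>
    obtain ⟨a, ha, c, hc, rfl⟩ := hy
    exact ⟨a⁻¹, A.inv_mem ha, c⁻¹, C.inv_mem hc,
      by rw [mul_inv_rev, (elem_commute h (A.inv_mem ha) (C.inv_mem hc)).eq]⟩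

/-- An element centralising `A` and one non-identity element of `D` centralises `A ⊔ D`. -/
theorem mem_centralizer_sup (h : IsRankOnePair A D) {w d : G} (hd : d ∈ D) (hd1 : d ≠ 1)
    (hwA : ∀ a ∈ A, w * a = a * w) (hwd : w * d = d * w) :
    w ∈ Subgroup.centralizer ((A ⊔ D : Subgroup G) : Set G) := by
  have hne : conjBy A d ≠ A := fun e => hd1 (eq_one_of_mem_of_conjBy_eq (RankOnePair_symm h) hd e)
  have hsup := (isRankOnePair_of_mem h
    (conjBy_mem_unipotents (left_mem_unipotents A D) (Subgroup.mem_sup_right hd))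
    (left_mem_unipotents A D) hne).2.1
  rw [← hsup, Subgroup.sup_eq_closure, Subgroup.centralizer_closure]
  rintro x (hx | hx)
  · have h' : Commute w (d⁻¹ * x * d) := hwA _ (mem_conjBy.1 hx)
    have hd' : Commute w d := hwd
    have := (hd'.mul_right h').mul_right hd'.inv_right
    exact (show d * (d⁻¹ * x * d) * d⁻¹ = x by group) ▸ this.symm.eq
  · exact (hwA x hx).symm

section RootSet

variable (hS : IsRootSubgroupSet S)
include hS

theorem exists_partner (hA : A ∈ S) (h : ¬ IsIsolatedIn (FAdj S) S A) :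
    ∃ D ∈ S, IsRankOnePair A D := by
  by_contra hcon
  push Not at hcon
  exact h ⟨hA, fun D => ⟨fun hD => hcon D hD.2.1 hD.2.2,
    fun hD => hcon D hD.1 (RankOnePair_symm hD.2.2)⟩⟩

/-- If `E` commutes with `A` and is in the commutator case with a partner `D` of `A`, then
`⁅E, D⁆` is in the commutator case with `A`. -/
theorem push (h : IsRankOnePair A D) (hA : A ∈ S) (hE : E ∈ S) (hAE : ⁅A, E⁆ = ⊥)
    (hc : RootCommutatorCase S E D) : RootCommutatorCase S ⁅E, D⁆ A := by
  rcases hS.pair _ hc.1 A hA with h2 | h2 | h2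
  · exfalso
    set W := E ⊔ ⁅E, D⁆
    have hWA : ∀ a ∈ A, ∀ w ∈ W, a * w = w * a := by
      intro a ha w hw
      have : W ≤ Subgroup.centralizer {a} := sup_le
        (fun e he y hy => by rw [Set.mem_singleton_iff] at hy; rw [hy]; exact (elem_commute hAE ha he).eq)
        (fun e he y hy => by rw [Set.mem_singleton_iff] at hy; rw [hy]; exact (elem_commute h2 he ha).symm.eq)
      exact this hw a rfl
    have hWn : A ⊔ D ≤ Subgroup.normalizer (W : Set G) := by
      refine sup_le (fun a ha => mem_normalizer_of_commute (hWA a ha)) ?_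
      refine le_normalizer_of_conjBy_le fun d hd => ?_
      rw [conjBy_sup]
      refine sup_le (fun x hx => ?_) ?_
      · have hx' := mem_conjBy.1 hx
        have e : x = (d⁻¹ * x * d * d * (d⁻¹ * x * d)⁻¹ * d⁻¹)⁻¹ * (d⁻¹ * x * d) := by group
        rw [e]
        exact Subgroup.mul_mem _ (Subgroup.mem_sup_right (Subgroup.inv_mem _
          (Subgroup.commutator_mem_commutator hx' hd))) (Subgroup.mem_sup_left hx')
      · rw [conjBy_of_commute fun c hc' => ((central_of_case hc hc' (Subgroup.mem_sup_right hd)).symm).eq]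
        exact le_sup_right
    obtain ⟨x, hx, hxA⟩ := exists_conjBy_swap h
    have hWD : ∀ d ∈ D, ∀ w ∈ W, d * w = w * d := by
      intro d hd w hw
      rw [← hxA] at hd
      have hw' : x⁻¹ * w * x ∈ W := by
        have := (Subgroup.mem_normalizer_iff''.1 (hWn hx) w).1 hw
        exact this
      have := hWA _ (mem_conjBy.1 hd) _ hw'
      have h' := congrArg (fun t => x * t * x⁻¹) this
      simpa [mul_assoc] using h'
    obtain ⟨e, he, he1⟩ := member_exists_ne_one hS hE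
    exact case_not_commute_left hS hc he he1 fun d hd => (hWD d hd e (Subgroup.mem_sup_left he)).symm
  · exfalso
    obtain ⟨e, he, he1⟩ := member_exists_ne_one hS hE
    obtain ⟨d, hd, -, hne⟩ := exists_commutator_ne_one hS hc he he1
    have hcm : (e * d * e⁻¹ * d⁻¹)⁻¹ ∈ ⁅E, D⁆ :=
      Subgroup.inv_mem _ (Subgroup.commutator_mem_commutator he hd)
    have hez : e ∈ Subgroup.centralizer ((⁅E, D⁆ ⊔ A : Subgroup G) : Set G) := by
      rw [Subgroup.sup_eq_closure, Subgroup.centralizer_closure]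
      rintro y (hy | hy)
      · exact (central_of_case hc hy (Subgroup.mem_sup_left he)).eq
      · exact (elem_commute hAE hy he).eq
    refine he1 (eq_of_translate hS h2 hA hez hcm (inv_ne_one.2 hne) (hS.conj_mem E hE d) ?_).1
    rw [← (central_of_case hc hcm (Subgroup.mem_sup_left he)).eq, mem_conjBy]
    simpa [mul_assoc] using he
  · exact h2

/-- A member containing `a z` (`z ∈ E`) is again a partner of `D`. -/
theorem rankOne_translate (h : IsRankOnePair A D) (hA : A ∈ S) (hD : D ∈ S) (hE : E ∈ S)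
    (hAE : ⁅A, E⁆ = ⊥) (hc : RootCommutatorCase S E D) {a z : G} (ha : a ∈ A) (ha1 : a ≠ 1)
    (hz : z ∈ E) (hP : P ∈ S) (haz : a * z ∈ P) : IsRankOnePair P D := by
  obtain ⟨d, hd, hd1⟩ := member_exists_ne_one hS hD
  have main : conjBy D (a * z * d * (a * z)⁻¹ * d⁻¹) ≠ D := by
    intro he
    have hc2 := push hS h hA hE hAE hc
    have hDE2 : ⁅D, ⁅E, D⁆⁆ = ⊥ := by rw [Subgroup.commutator_comm]; exact central_right hc
    have hc3 := push hS (RankOnePair_symm h) hD hc.1 hDE2 hc2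
    set e2 := z * d * z⁻¹ * d⁻¹
    have he2 : e2 ∈ ⁅E, D⁆ := Subgroup.commutator_mem_commutator hz hd
    set f := a * e2 * a⁻¹ * e2⁻¹ with hf_def
    have hf : f ∈ ⁅⁅E, D⁆, A⁆ := by
      rw [Subgroup.commutator_comm]; exact Subgroup.commutator_mem_commutator ha he2
    have hfe : f * e2 = e2 * f := (central_of_case hc2 hf (Subgroup.mem_sup_left he2)).eq
    have he2D : conjBy D e2⁻¹ = D := conjBy_of_commute fun d' hd' =>
      ((central_of_case hc he2 (Subgroup.mem_sup_right hd')).inv_left).eq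
    have h1 : conjBy D (a * d * a⁻¹) = conjBy D f⁻¹ := by
      rw [← conjBy_conjBy, conjBy_of_mem (D.inv_mem hd),
        show a * z * d * (a * z)⁻¹ = f * e2 * (a * d * a⁻¹) by simp only [hf_def, e2]; group,
        ← conjBy_conjBy, conjBy_eq_iff, hfe, mul_inv_rev, ← conjBy_conjBy D e2⁻¹, he2D] at he
      exact he
    set D1 := conjBy D f⁻¹ with hD1
    have hmem : f⁻¹ * d * f⁻¹⁻¹ ∈ D1 := conj_mem_conjBy f⁻¹ hd
    have hfix : conjBy D (f⁻¹ * d * f⁻¹⁻¹) = D := by
      have hg : f⁻¹ * d * f⁻¹⁻¹ * d⁻¹ ∈ ⁅⁅⁅E, D⁆, A⁆, D⁆ :=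
        Subgroup.commutator_mem_commutator (Subgroup.inv_mem _ hf) hd
      rw [show f⁻¹ * d * f⁻¹⁻¹ = (f⁻¹ * d * f⁻¹⁻¹ * d⁻¹) * d by group, ← conjBy_conjBy,
        conjBy_of_mem hd]
      exact conjBy_of_commute fun d' hd' => (central_of_case hc3 hg (Subgroup.mem_sup_right hd')).eq
    have hD1U : D1 ∈ unipotentSubgroups A D := by
      rw [← h1]
      exact conjBy_mem_unipotents (right_mem_unipotents h) (Subgroup.mul_mem _ (Subgroup.mul_mem _
        (Subgroup.mem_sup_left ha) (Subgroup.mem_sup_right hd)) (Subgroup.inv_mem _ (Subgroup.mem_sup_left ha)))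
    have hne : D1 ≠ D := by
      rw [← h1]; exact conjBy_conj_ne h ha ha1 hd hd1
    exact hd1 (conj_eq_one_iff.1 (eq_one_of_mem_of_conjBy_eq
      (isRankOnePair_of_mem h hD1U (right_mem_unipotents h) hne).1 hmem hfix))
  rcases hS.pair P hP D hD with h' | h' | h'
  · exfalso
    apply main
    rw [show a * z * d * (a * z)⁻¹ * d⁻¹ = 1 by rw [(elem_commute h' haz hd).eq]; group, conjBy_one]
  · exact h'
  · exfalso
    exact main (conjBy_of_commute fun d' hd' =>
      (central_of_case h' (Subgroup.commutator_mem_commutator haz hd) (Subgroup.mem_sup_right hd')).eq)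

/-- `⁅⁅B, D⁆, A⁆ = B` for a line partner `B` of `A` in the commutator case with a partner `D`. -/
theorem commutator_eq_of_line (h : IsRankOnePair A D) (hA : A ∈ S) (hD : D ∈ S) (hB : B ∈ S)
    {D' : Subgroup G} (hB' : IsRankOnePair B D') (hD' : D' ∈ S)
    (hAB : ⁅A, B⁆ = ⊥) (hc : RootCommutatorCase S B D) {a z : G} (ha : a ∈ A) (ha1 : a ≠ 1)
    (hz : z ∈ B) (hz1 : z ≠ 1) (hP : P ∈ S) (haz : a * z ∈ P) : ⁅⁅B, D⁆, A⁆ = B := by
  obtain ⟨d, hd, hd1, hda⟩ := h.cond_left a ha ha1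
  have hc2 := push hS h hA hB hAB hc
  have hg : conjBy A (a * d⁻¹) = D := by rw [← conjBy_conjBy, hda, conjBy_conjBy_inv]
  have hzD : ∀ d' ∈ D, Commute (a * d⁻¹ * z * (a * d⁻¹)⁻¹) d' := by
    intro d' hd'
    rw [← hg] at hd'
    have h' : Commute z ((a * d⁻¹)⁻¹ * d' * (a * d⁻¹)) := (elem_commute hAB (mem_conjBy.1 hd') hz).symm
    have := h'.map (MulAut.conj (a * d⁻¹)).toMonoidHom
    simpa [mul_assoc] using this
  set e := z⁻¹ * d⁻¹ * z * d with he_def
  have he : e ∈ ⁅B, D⁆ := by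
    have := Subgroup.commutator_mem_commutator (B.inv_mem hz) (D.inv_mem hd)
    rwa [commutatorElement_def, inv_inv, inv_inv] at this
  set f := a * e * a⁻¹ * e⁻¹ with hf_def
  have hf : f ∈ ⁅⁅B, D⁆, A⁆ := by
    rw [Subgroup.commutator_comm]; exact Subgroup.commutator_mem_commutator ha he
  have hfe : Commute f e := central_of_case hc2 hf (Subgroup.mem_sup_left he)
  have hed : Commute e d := central_of_case hc he (Subgroup.mem_sup_right hd)
  have hze : Commute z e := (central_of_case hc he (Subgroup.mem_sup_left hz)).symm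
  have hza : Commute a z := elem_commute hAB ha hz
  -- the translate
  have hwd : z * f * d = d * (z * f) := by
    have h1 : a * d⁻¹ * z * (a * d⁻¹)⁻¹ = z * f * e := by
      calc a * d⁻¹ * z * (a * d⁻¹)⁻¹ = (a * z) * e * a⁻¹ := by simp only [he_def]; group
        _ = z * (a * e * a⁻¹) := by rw [hza.eq]; group
        _ = z * f * e := by simp only [hf_def]; group
    have h2 := (hzD d hd).eq
    rw [h1] at h2
    have : z * f * d * e = d * (z * f) * e := by
      calc z * f * d * e = z * f * e * d := by rw [mul_assoc (z * f), ← hed.eq, ← mul_assoc]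
        _ = d * (z * f * e) := h2
        _ = _ := by group
    exact mul_right_cancel this
  have hwA : ∀ x ∈ A, z * f * x = x * (z * f) := fun x hx =>
    (((elem_commute hAB hx hz).symm).mul_left
      (central_of_case hc2 hf (Subgroup.mem_sup_right hx))).eq
  have hw := mem_centralizer_sup h hd hd1 hwA hwd
  have heD : conjBy D e = D := conjBy_of_commute fun d' hd' =>
    (central_of_case hc he (Subgroup.mem_sup_right hd')).eq
  have hpair := isRankOnePair_conjBy h e
  rw [heD] at hpair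
  have hwe : conjBy (A ⊔ D) e = conjBy A e ⊔ D := by rw [conjBy_sup, heD]
  have hw' : z * f ∈ Subgroup.centralizer ((conjBy A e ⊔ D : Subgroup G) : Set G) := by
    rw [← hwe, ← conjBy_centralizer, mem_conjBy]
    have : Commute (z * f) e := hze.mul_left hfe
    rw [mul_assoc, this.eq, inv_mul_cancel_left]
    exact hw
  have hmem : f⁻¹ * a ∈ conjBy A e := by
    have := conj_mem_conjBy e ha
    rwa [show e * a * e⁻¹ = f⁻¹ * a by simp only [hf_def]; group] at this
  have hne : f⁻¹ * a ≠ 1 := by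
    intro e'
    have e1 : e * a * e⁻¹ = 1 := by rw [← e']; simp only [hf_def]; group
    exact ha1 (conj_eq_one_iff.1 e1)
  have hw1 := (eq_of_translate hS hpair hD hw' hmem hne hP (by
    rw [← mul_assoc, mul_inv_cancel_right, ← hza.eq]; exact haz)).1
  refine eq_of_mem hS hB' hD' hz hz1 hc2.1 ?_
  rw [eq_inv_of_mul_eq_one_left hw1]
  exact Subgroup.inv_mem _ hf

/-! ### The structure of `A ⊔ ⁅A, B⁆` -/

theorem commutator_centralizer_eq_one (h : IsRankOnePair A D) (hA : A ∈ S) (hD : D ∈ S)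
    (hc : RootCommutatorCase S A B) {x : G} (hx : x ∈ ⁅A, B⁆)
    (hxc : x ∈ Subgroup.centralizer ((A ⊔ D : Subgroup G) : Set G)) : x = 1 := by
  obtain ⟨a, ha, ha1⟩ := member_exists_ne_one hS hA
  obtain ⟨b, hb, rfl⟩ := exists_commutator_eq hc ha ha1 hx
  have := (eq_of_translate hS h hD (Subgroup.inv_mem _ hxc) ha ha1 (hS.conj_mem A hA b) (by
    have := conj_mem_conjBy b ha
    rwa [show (a * b * a⁻¹ * b⁻¹)⁻¹ * a = b * a * b⁻¹ by group])).1
  exact inv_eq_one.1 this

theorem line_inf (h : IsRankOnePair A D) (hA : A ∈ S) (hD : D ∈ S) (hc : RootCommutatorCase S A B) :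
    A ⊓ ⁅A, B⁆ = ⊥ := by
  rw [Subgroup.eq_bot_iff_forall]
  rintro x ⟨hxA, hxC⟩
  by_contra hx1
  have hCA := eq_of_mem hS h hD hxA hx1 hc.1 hxC
  obtain ⟨a, ha, ha1⟩ := member_exists_ne_one hS hA
  exact case_not_commute_left hS hc ha ha1 fun b hb =>
    (central_of_case hc (hCA.symm ▸ ha) (Subgroup.mem_sup_right hb)).eq

theorem line_injective (h : IsRankOnePair A D) (hA : A ∈ S) (hB : B ∈ S) (hD : D ∈ S)
    (hc : RootCommutatorCase S A B) {a b : G} (ha : a ∈ A) (ha1 : a ≠ 1) (hb : b ∈ B)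
    (hab : a * b = b * a) : b = 1 := by
  by_contra hb1
  have hfix : conjBy A b = A := eq_of_mem hS h hD ha ha1 (hS.conj_mem A hA b) (by
    have := conj_mem_conjBy b ha
    rwa [← hab, mul_inv_cancel_right] at this)
  refine case_not_commute_left hS (case_symm hc) hb hb1 fun a' ha' => ?_
  have h1 : a' * b * a'⁻¹ * b⁻¹ ∈ A ⊓ ⁅A, B⁆ := ⟨by
    have := conj_mem_conjBy b (A.inv_mem ha')
    rw [hfix] at this
    simpa [mul_assoc] using A.mul_mem ha' this, Subgroup.commutator_mem_commutator ha' hb⟩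
  rw [line_inf hS h hA hD hc, Subgroup.mem_bot, mul_inv_eq_one, mul_inv_eq_iff_eq_mul] at h1
  exact h1.symm

theorem exists_conj_eq_mul (hc : RootCommutatorCase S A B) {a c : G} (ha : a ∈ A) (ha1 : a ≠ 1)
    (hcm : c ∈ ⁅A, B⁆) : ∃ b ∈ B, b * a * b⁻¹ = a * c := by
  obtain ⟨b, hb, he⟩ := exists_commutator_eq hc ha ha1 (Subgroup.inv_mem _ hcm)
  refine ⟨b, hb, ?_⟩
  rw [← (central_of_case hc hcm (Subgroup.mem_sup_left ha)).eq, ← inv_inv c, ← he]
  group

theorem conjBy_line_le (hc : RootCommutatorCase S A B) {b : G} (hb : b ∈ B) :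
    conjBy A b ≤ A ⊔ ⁅A, B⁆ := fun x hx => by
  have ha := mem_conjBy.1 hx
  have hC := Subgroup.inv_mem _ (Subgroup.commutator_mem_commutator ha hb)
  have e : x = (b⁻¹ * x * b * b * (b⁻¹ * x * b)⁻¹ * b⁻¹)⁻¹ * (b⁻¹ * x * b) := by group
  rw [e]
  exact Subgroup.mul_mem _ (Subgroup.mem_sup_right hC) (Subgroup.mem_sup_left ha)

/-- The members inside `A ⊔ ⁅A, B⁆`. -/
theorem line_members (h : IsRankOnePair A D) (hA : A ∈ S) (hD : D ∈ S) (hB : B ∈ S)
    (hc : RootCommutatorCase S A B) (hP : P ∈ S) (hle : P ≤ A ⊔ ⁅A, B⁆) :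
    (∃ b ∈ B, P = conjBy A b) ∨ P = ⁅A, B⁆ := by
  have hcomm : ⁅A, ⁅A, B⁆⁆ = ⊥ := by rw [Subgroup.commutator_comm]; exact central_left hc
  by_cases hPC : P ≤ ⁅A, B⁆
  · right
    have hzero : ∀ x ∈ ⁅A, B⁆, ∀ d ∈ D, d ≠ 1 → x * d = d * x → x = 1 := fun x hx d hd hd1 hxd =>
      commutator_centralizer_eq_one hS h hA hD hc hx (mem_centralizer_sup h hd hd1
        (fun a ha => (central_of_case hc hx (Subgroup.mem_sup_left ha)).eq) hxd)
    obtain ⟨p, hp, hp1⟩ := member_exists_ne_one hS hP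
    obtain ⟨d, hd, hd1⟩ := member_exists_ne_one hS hD
    rcases hS.pair _ hc.1 D hD with h' | h' | h'
    · exact absurd (hzero p (hPC hp) d hd hd1 (elem_commute h' (hPC hp) hd).eq) hp1
    · exact eq_of_mem hS h' hD (hPC hp) hp1 hP hp
    rcases hS.pair P hP D hD with h'' | h'' | h''
    · exact absurd (hzero p (hPC hp) d hd hd1 (elem_commute h'' hp hd).eq) hp1
    · exact (eq_of_mem hS h'' hD hp hp1 hc.1 (hPC hp)).symm
    refine le_antisymm hPC fun x hx => ?_
    have heq : ⁅P, D⁆ = ⁅⁅A, B⁆, D⁆ := (h''.2.2.1 p hp hp1).symm.trans (h'.2.2.1 p (hPC hp) hp1)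
    obtain ⟨q, hq, hqe⟩ := exists_commutator_eq' h'' hd hd1
      (c := x * d * x⁻¹ * d⁻¹) (heq ▸ Subgroup.commutator_mem_commutator hx hd)
    have hy : (q⁻¹ * x) * d = d * (q⁻¹ * x) := by
      have := mul_right_cancel hqe
      calc q⁻¹ * x * d = q⁻¹ * (x * d * x⁻¹) * x := by group
        _ = q⁻¹ * (q * d * q⁻¹) * x := by rw [this]
        _ = _ := by group
    have := hzero _ (Subgroup.mul_mem _ (Subgroup.inv_mem _ (hPC hq)) hx) d hd hd1 hy
    rw [inv_mul_eq_one] at this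
    exact this ▸ hq
  · left
    obtain ⟨x, hx, hxC⟩ := SetLike.not_le_iff_exists.1 hPC
    obtain ⟨a, ha, c, hcm, rfl⟩ := mem_sup_of_commutator_eq_bot hcomm (hle hx)
    have ha1 : a ≠ 1 := fun e => hxC (by rw [e, one_mul]; exact hcm)
    obtain ⟨b, hb, he⟩ := exists_conj_eq_mul hS hc ha ha1 hcm
    refine ⟨b, hb, eq_of_mem hS (isRankOnePair_conjBy h b) (hS.conj_mem D hD b)
      (he ▸ conj_mem_conjBy b ha) ?_ hP hx⟩
    intro e
    rw [← he] at e
    exact ha1 (conj_eq_one_iff.1 e)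

theorem line_inf_conjBy (h : IsRankOnePair A D) (hA : A ∈ S) (hD : D ∈ S)
    (hc : RootCommutatorCase S A B) {b : G} (hb : b ∈ B) : conjBy A b ⊓ ⁅A, B⁆ = ⊥ := by
  have hC : conjBy ⁅A, B⁆ b = ⁅A, B⁆ := conjBy_of_commute fun c hc' =>
    ((central_of_case hc hc' (Subgroup.mem_sup_right hb)).symm).eq
  rw [← hC, ← conjBy_inf, line_inf hS h hA hD hc, conjBy_bot]

theorem line_partition (h : IsRankOnePair A D) (hA : A ∈ S) (hD : D ∈ S) (hB : B ∈ S)
    (hc : RootCommutatorCase S A B) :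
    membersIn S (A ⊔ ⁅A, B⁆) = (fun b : G => conjBy A b) '' (B : Set G) ∪ {⁅A, B⁆} ∧
    IsSubgroupPartition (A ⊔ ⁅A, B⁆) (membersIn S (A ⊔ ⁅A, B⁆)) := by
  have hset : membersIn S (A ⊔ ⁅A, B⁆) = (fun b : G => conjBy A b) '' (B : Set G) ∪ {⁅A, B⁆} := by
    ext P
    constructor
    · rintro ⟨hP, hle⟩
      rcases line_members hS h hA hD hB hc hP hle with ⟨b, hb, rfl⟩ | rfl
      · exact Or.inl ⟨b, hb, rfl⟩
      · exact Or.inr rfl
    · rintro (⟨b, hb, rfl⟩ | hP)
      · exact ⟨hS.conj_mem A hA b, conjBy_line_le hS hc hb⟩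
      · rw [Set.mem_singleton_iff] at hP
        rw [hP]
        exact ⟨hc.1, le_sup_right⟩
  refine ⟨hset, fun P hP => hP.2, fun x hx hx1 => ?_, ?_⟩
  · obtain ⟨a, ha, c, hcm, rfl⟩ :=
      mem_sup_of_commutator_eq_bot (by rw [Subgroup.commutator_comm]; exact central_left hc) hx
    rcases eq_or_ne a 1 with rfl | ha1
    · exact ⟨⁅A, B⁆, ⟨hc.1, le_sup_right⟩, by rwa [one_mul]⟩
    · obtain ⟨b, hb, he⟩ := exists_conj_eq_mul hS hc ha ha1 hcm
      exact ⟨conjBy A b, ⟨hS.conj_mem A hA b, conjBy_line_le hS hc hb⟩, he ▸ conj_mem_conjBy b ha⟩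
  · intro P hP Q hQ hne
    rw [hset] at hP hQ
    rcases hP with ⟨b, hb, rfl⟩ | hP <;> rcases hQ with ⟨b', hb', rfl⟩ | hQ
    · rw [Subgroup.eq_bot_iff_forall]
      rintro x ⟨hx, hx'⟩
      by_contra hx1
      exact hne (eq_of_mem hS (isRankOnePair_conjBy h b) (hS.conj_mem D hD b) hx hx1
        (hS.conj_mem A hA b') hx').symm
    · rw [Set.mem_singleton_iff] at hQ
      rw [hQ]; exact line_inf_conjBy hS h hA hD hc hb
    · rw [Set.mem_singleton_iff] at hP
      rw [hP, inf_comm]; exact line_inf_conjBy hS h hA hD hc hb'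
    · rw [Set.mem_singleton_iff] at hP hQ
      exact absurd (hP.trans hQ.symm) hne

end RootSet

end Cfsg.Agent.RankOne
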