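import Cfsg.Agent.Lib.RankOne.Lines
/-!
The line through two line partners: `exists_line_form` writes `A ⊔ B` as `A ⊔ ⁅A, E⁆`,
`line_pair_sup`: any two members of the line generate it.
-/

set_option autoImplicit false

namespace Cfsg.Agent.RankOne

open Cfsg
open scoped commutatorElement

variable {G : Type*} [Group G] {S : Set (Subgroup G)} {A B C D E P : Subgroup G}

section RootSet

variable (hS : IsRootSubgroupSet S)
include hS

/-- Some member `≠ A` of the line through `A, B` is in the commutator case with a partner `D` of `A`. -/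
theorem exists_line_member (h : IsRankOnePair A D) (hA : A ∈ S) (hD : D ∈ S)
    (hB : B ∈ linePartners S A) :
    ∃ P ∈ S, P ≤ A ⊔ B ∧ P ≠ A ∧ RootCommutatorCase S P D ∧
      ∃ z ∈ B, z ≠ 1 ∧ z ∈ A ⊔ P := by
  obtain ⟨⟨hBS, hne, hAB⟩, hpart⟩ := hB
  obtain ⟨a, ha, ha1⟩ := member_exists_ne_one hS hA
  have hinf : ∀ {x}, x ∈ A → x ∈ B → x = 1 := fun {x} hxA hxB =>
    by_contra fun hx1 => hne (eq_of_mem hS h hD hxA hx1 hBS hxB)
  obtain ⟨z₀, hz₀, hz₀1⟩ := member_exists_ne_one hS hBS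
  rcases hS.pair B hBS D hD with hc | hc | hc
  · exfalso
    have hne1 : a * z₀ ≠ 1 := fun e => ha1 (hinf ha (eq_inv_of_mul_eq_one_left e ▸ B.inv_mem hz₀))
    obtain ⟨Q, hQ, haQ⟩ := hpart.2.1 (a * z₀)
      (Subgroup.mul_mem _ (Subgroup.mem_sup_left ha) (Subgroup.mem_sup_right hz₀)) hne1
    have hzc : z₀ ∈ Subgroup.centralizer ((A ⊔ D : Subgroup G) : Set G) := by
      rw [Subgroup.sup_eq_closure, Subgroup.centralizer_closure]
      rintro y (hy | hy)
      · exact (elem_commute hAB hy hz₀).eq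
      · exact (elem_commute hc hz₀ hy).symm.eq
    refine hz₀1 (eq_of_translate hS h hD hzc ha ha1 hQ.1 ?_).1
    rwa [← (elem_commute hAB ha hz₀).eq]
  · obtain ⟨d, hd, hd1, hda⟩ := h.cond_left a ha ha1
    obtain ⟨z, hz, hz1, hdz⟩ := hc.cond_right d hd hd1
    have hp1 : a * z⁻¹ ≠ 1 := fun e => ha1 (hinf ha (mul_inv_eq_one.1 e ▸ hz))
    obtain ⟨Q, hQ, hpQ⟩ := hpart.2.1 (a * z⁻¹)
      (Subgroup.mul_mem _ (Subgroup.mem_sup_left ha) (Subgroup.mem_sup_right (B.inv_mem hz))) hp1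
    have hcom : ⁅conjBy D a⁻¹, conjBy D z⁻¹⁆ = ⊥ := by
      rw [← hda, hdz, ← conjBy_commutator, hAB, conjBy_bot]
    have hQA : Q ≠ A := by
      rintro rfl
      exact hz1 (hinf (by simpa using Q.mul_mem (Q.inv_mem hpQ) ha) hz)
    have hfix : conjBy D (a * z⁻¹) ≠ D := by
      intro e
      rw [← conjBy_conjBy, conjBy_eq_iff, ← hda, hdz, conjBy_inj] at e
      exact hne e
    refine ⟨Q, hQ.1, hQ.2, hQA, ?_, z, hz, hz1, ?_⟩
    · rcases hS.pair Q hQ.1 D hD with hq | hq | hq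
      · exact absurd (conjBy_of_commute fun d' hd' => (elem_commute hq hpQ hd').eq) hfix
      · exfalso
        refine commutator_ne_bot (isRankOnePair_of_mem hq (right_mem_unipotents hq)
          (conjBy_mem_unipotents (right_mem_unipotents hq) (Subgroup.mem_sup_left hpQ)) hfix.symm).1 ?_
        have := congrArg (fun X => conjBy X a) hcom
        simpa only [conjBy_commutator, conjBy_conjBy, mul_inv_cancel, conjBy_one, conjBy_bot] using this
      · exact hq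
    · have := Subgroup.mul_mem _ (Subgroup.inv_mem _ (Subgroup.mem_sup_right (S := A) hpQ))
        (Subgroup.mem_sup_left ha)
      simpa using this
  · exact ⟨B, hBS, le_sup_right, hne, hc, z₀, hz₀, hz₀1, Subgroup.mem_sup_right hz₀⟩

/-- For line partners `A, B` (all members having partners) `A ⊔ B = A ⊔ ⁅A, E⁆` for some `E ∈ S`. -/
theorem exists_line_form (hF : ∀ A ∈ S, ∃ D ∈ S, IsRankOnePair A D) (hA : A ∈ S)
    (hB : B ∈ linePartners S A) :
    ∃ E ∈ S, RootCommutatorCase S A E ∧ A ⊔ ⁅A, E⁆ = A ⊔ B := by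
  obtain ⟨⟨hBS, hne, hAB⟩, hpart⟩ := hB
  obtain ⟨D, hD, h⟩ := hF A hA
  obtain ⟨a, ha, ha1⟩ := member_exists_ne_one hS hA
  have hABc : ∀ x ∈ A ⊔ B, ∀ y ∈ A, Commute x y := by
    intro x hx y hy
    obtain ⟨a', ha', b', hb', rfl⟩ := mem_sup_of_commutator_eq_bot hAB hx
    exact (member_comm hS hA ha' hy).mul_left (elem_commute hAB hy hb').symm
  obtain ⟨P, hP, hPle, hPA, hPD, z, hz, hz1, hzP⟩ :=
    exists_line_member hS h hA hD ⟨⟨hBS, hne, hAB⟩, hpart⟩
  have hAP : ⁅A, P⁆ = ⊥ := commutator_eq_bot_of fun x hx y hy => (hABc y (hPle hy) x hx).symm.eq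
  obtain ⟨p, hp, hp1⟩ := member_exists_ne_one hS hP
  have hap1 : a * p ≠ 1 := fun e => hPA (eq_of_mem hS h hD ha ha1 hP
    (eq_inv_of_mul_eq_one_left e ▸ P.inv_mem hp))
  obtain ⟨Q, hQ, hapQ⟩ := hpart.2.1 (a * p)
    (Subgroup.mul_mem _ (Subgroup.mem_sup_left ha) (hPle hp)) hap1
  obtain ⟨D', hD', hPD'⟩ := hF P hP
  have hkey := commutator_eq_of_line hS h hA hD hP hPD' hD' hAP hPD ha ha1 hp hp1 hQ.1 hapQ
  have hc2 := case_symm (push hS h hA hP hAP hPD)
  have hAE : ⁅A, ⁅P, D⁆⁆ = P := by rw [Subgroup.commutator_comm]; exact hkey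
  refine ⟨⁅P, D⁆, hPD.1, hc2, ?_⟩
  rw [hAE]
  refine le_antisymm (sup_le le_sup_left hPle) (sup_le le_sup_left ?_)
  obtain ⟨-, -, hcov, -⟩ := line_partition hS h hA hD hPD.1 hc2
  obtain ⟨R, hR, hzR⟩ := hcov z (by rw [hAE]; exact hzP) hz1
  obtain ⟨D'', hD'', hBD''⟩ := hF B hBS
  rw [← eq_of_mem hS hBD'' hD'' hz hz1 hR.1 hzR]
  rw [← hAE] 
  exact hR.2

/-- In a line `A ⊔ ⁅A, E⁆` every member other than `A` generates the line together with `A`. -/
theorem line_sup_eq (h : IsRankOnePair A D) (hA : A ∈ S) (hD : D ∈ S) (hE : E ∈ S)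
    (hc : RootCommutatorCase S A E) (hP : P ∈ S) (hle : P ≤ A ⊔ ⁅A, E⁆) (hne : P ≠ A) :
    A ⊔ P = A ⊔ ⁅A, E⁆ := by
  rcases line_members hS h hA hD hE hc hP hle with ⟨e, he, rfl⟩ | rfl
  · refine le_antisymm (sup_le le_sup_left hle) (sup_le le_sup_left fun x hx => ?_)
    have he1 : e ≠ 1 := fun e1 => hne (by rw [e1, conjBy_one])
    obtain ⟨a, ha, rfl⟩ := exists_commutator_eq' hc he he1 hx
    have h1 : e * a⁻¹ * e⁻¹ ∈ A ⊔ conjBy A e :=
      Subgroup.mem_sup_right (conj_mem_conjBy e (A.inv_mem ha))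
    simpa [mul_assoc] using Subgroup.mul_mem _ (Subgroup.mem_sup_left ha) h1
  · rfl

end RootSet

end Cfsg.Agent.RankOne
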