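import Cfsg.Agent.Lib.RankOne.LineGroup
import Cfsg.Agent.Lib.RankOne.Connected
import Cfsg.Agent.Lib.RankOne.Quadratic
import Cfsg.Agent.S5036
import Cfsg.Agent.S5038
import Cfsg.Agent.S5032
/-!
Classes of abstract root subgroups with a line: line partners beside rank one pairs, connectivity
along lines, generation, weak TI subsets, commuting members, speciality.
-/

set_option autoImplicit false

namespace Cfsg.Agent.RankOne

open Cfsg
open scoped commutatorElement

variable {G : Type*} [Group G] {S : Set (Subgroup G)} {A B C D E P Q R : Subgroup G}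

theorem mem_centralizing_iff : B ∈ centralizingMembers S A ↔ B ∈ S ∧ ⁅B, A⁆ = ⊥ := by
  rw [centralizingMembers, Set.mem_setOf_eq, Subgroup.commutator_eq_bot_iff_le_centralizer]

theorem linePartner_symm (hA : A ∈ S) (h : B ∈ linePartners S A) : A ∈ linePartners S B :=
  ⟨⟨hA, Ne.symm h.1.2.1, by rw [Subgroup.commutator_comm]; exact h.1.2.2⟩,
    by rw [sup_comm]; exact h.2⟩

section RootSet

variable (hS : IsRootSubgroupSet S)
include hS

theorem not_case_of_pair (h : IsRankOnePair A B) (hc : RootCommutatorCase S A B) : False := by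
  obtain ⟨a, ha, ha1⟩ := exists_ne_one h
  obtain ⟨b, hb, hb1⟩ := exists_ne_one (RankOnePair_symm h)
  exact conjBy_commutatorElement_ne h ha ha1 hb hb1 (conjBy_of_commute fun y hy =>
    (central_of_case hc (Subgroup.commutator_mem_commutator ha hb) (Subgroup.mem_sup_right hy)).eq)

theorem conjBy_case (g : G) (h : RootCommutatorCase S A B) (hA : A ∈ S) (hB : B ∈ S) :
    RootCommutatorCase S (conjBy A g) (conjBy B g) :=
  case_of_commutator_mem hS (hS.conj_mem A hA g) (hS.conj_mem B hB g)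
    (by rw [← conjBy_commutator]; exact hS.conj_mem _ h.1 g)

theorem membersIn_conjBy (U : Subgroup G) (g : G) :
    membersIn S (conjBy U g) = (fun X => conjBy X g) '' membersIn S U := by
  ext X
  constructor
  · intro hX
    refine ⟨conjBy X g⁻¹, ⟨hS.conj_mem X hX.1 _, ?_⟩, conjBy_conjBy_inv X g⟩
    have := conjBy_mono hX.2 g⁻¹
    rwa [conjBy_inv_conjBy] at this
  · rintro ⟨Y, hY, rfl⟩
    exact ⟨hS.conj_mem Y hY.1 g, conjBy_mono hY.2 g⟩

theorem linePartners_conjBy (g : G) (h : B ∈ linePartners S A) :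
    conjBy B g ∈ linePartners S (conjBy A g) := by
  obtain ⟨⟨hBS, hne, hAB⟩, h1, h2, h3⟩ := h
  refine ⟨⟨hS.conj_mem B hBS g, fun e => hne (conjBy_inj.1 e), by
    rw [← conjBy_commutator, hAB, conjBy_bot]⟩, fun X hX => hX.2, ?_, ?_⟩
  · rw [← conjBy_sup]
    intro x hx hx1
    obtain ⟨X, hX, hxX⟩ := h2 _ (mem_conjBy.1 hx) (fun e => hx1 (by
      have := congrArg (fun t => g * t * g⁻¹) e
      simpa [mul_assoc] using this))
    exact ⟨conjBy X g, (membersIn_conjBy hS _ g).symm ▸ ⟨X, hX, rfl⟩, mem_conjBy.2 hxX⟩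
  · rw [← conjBy_sup, membersIn_conjBy hS]
    rintro _ ⟨X, hX, rfl⟩ _ ⟨Y, hY, rfl⟩ hne'
    rw [← conjBy_inf, h3 X hX Y hY (fun e => hne' (by rw [e])), conjBy_bot]

theorem case_partner_ne (h : IsRankOnePair A D) (hA : A ∈ S) (hD : D ∈ S)
    (hc : RootCommutatorCase S A B) : ⁅A, B⁆ ≠ A := fun e => hS.ne_bot A hA (by
  have := line_inf hS h hA hD hc
  rwa [e, inf_idem] at this)

theorem linePartner_of_case (h : IsRankOnePair A D) (hA : A ∈ S) (hD : D ∈ S) (hB : B ∈ S)
    (hc : RootCommutatorCase S A B) : ⁅A, B⁆ ∈ linePartners S A :=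
  ⟨⟨hc.1, case_partner_ne hS h hA hD hc,
    by rw [Subgroup.commutator_comm]; exact central_left hc⟩, (line_partition hS h hA hD hB hc).2⟩

/-- A line partner of `A` does not commute with a partner of `A`. -/
theorem not_commute_of_line (h : IsRankOnePair A D) (hA : A ∈ S) (hD : D ∈ S)
    (hC : C ∈ linePartners S A) : ⁅C, D⁆ ≠ ⊥ := by
  intro hCD
  obtain ⟨⟨hCS, hne, hAC⟩, -, hcov, -⟩ := hC
  obtain ⟨a, ha, ha1⟩ := member_exists_ne_one hS hA
  obtain ⟨z, hz, hz1⟩ := member_exists_ne_one hS hCS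
  have hne1 : a * z ≠ 1 := fun e => hne (eq_of_mem hS h hD ha ha1 hCS
    (eq_inv_of_mul_eq_one_left e ▸ C.inv_mem hz))
  obtain ⟨X, hX, haX⟩ := hcov (a * z)
    (Subgroup.mul_mem _ (Subgroup.mem_sup_left ha) (Subgroup.mem_sup_right hz)) hne1
  have hzc : z ∈ Subgroup.centralizer ((A ⊔ D : Subgroup G) : Set G) := by
    rw [Subgroup.sup_eq_closure, Subgroup.centralizer_closure]
    rintro y (hy | hy)
    · exact (elem_commute hAC hy hz).eq
    · exact (elem_commute hCD hz hy).symm.eq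
  refine hz1 (eq_of_translate hS h hD hzc ha ha1 hX.1 ?_).1
  rwa [← (elem_commute hAC ha hz).eq]

variable (hF : ∀ A ∈ S, ∃ D ∈ S, IsRankOnePair A D)
include hF

/-- The member of a line in the commutator case with a given partner. -/
theorem exists_line_case (h : IsRankOnePair A D) (hA : A ∈ S) (hD : D ∈ S)
    (hC : C ∈ linePartners S A) :
    ∃ P ∈ linePartners S A, P ∈ S ∧ A ⊔ P = A ⊔ C ∧ RootCommutatorCase S P D ∧
      ⁅A, ⁅P, D⁆⁆ = P := by
  obtain ⟨P, hP, hle, hne, hc, -⟩ := exists_line_member hS h hA hD hC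
  obtain ⟨E, hE, hcE, hW⟩ := exists_line_form hS hF hA hC
  have hsup : A ⊔ P = A ⊔ C :=
    (line_sup_eq hS h hA hD hE hcE hP (hW ▸ hle) hne).trans hW
  have hAP : ⁅A, P⁆ = ⊥ := commutator_eq_bot_of fun a ha x hx => by
    obtain ⟨a', ha', c, hc', rfl⟩ := mem_sup_of_commutator_eq_bot hC.1.2.2 (hle hx)
    exact ((member_comm hS hA ha ha').mul_right (elem_commute hC.1.2.2 ha hc')).eq
  have hline : P ∈ linePartners S A := ⟨⟨hP, hne, hAP⟩, by rw [hsup]; exact hC.2⟩
  obtain ⟨a, ha, ha1⟩ := member_exists_ne_one hS hA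
  obtain ⟨p, hp, hp1⟩ := member_exists_ne_one hS hP
  have hap : a * p ≠ 1 := fun e => hne (eq_of_mem hS h hD ha ha1 hP
    (eq_inv_of_mul_eq_one_left e ▸ P.inv_mem hp))
  obtain ⟨X, hX, haX⟩ := hline.2.2.1 (a * p)
    (Subgroup.mul_mem _ (Subgroup.mem_sup_left ha) (Subgroup.mem_sup_right hp)) hap
  obtain ⟨D', hD', hPD'⟩ := hF P hP
  refine ⟨P, hline, hP, hsup, hc, ?_⟩
  rw [Subgroup.commutator_comm]
  exact commutator_eq_of_line hS h hA hD hP hPD' hD' hAP hc ha ha1 hp hp1 hX.1 haX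

/-- For `C` a line partner of `A` some line partner `D` of `A` has `⁅C, D⁆ = A`. -/
theorem exists_line_mover (hA : A ∈ S) (hC : C ∈ linePartners S A) :
    ∃ D ∈ linePartners S A, D ∈ S ∧ RootCommutatorCase S C D ∧ ⁅C, D⁆ = A := by
  have hCS := hC.1.1
  obtain ⟨R, hR, hCR⟩ := hF C hCS
  obtain ⟨P, hPline, hP, hsup, hc, hkey⟩ :=
    exists_line_case hS hF hCR hCS hR (linePartner_symm hA hC)
  obtain ⟨DP, hDP, hPDP⟩ := hF P hP
  have h1 : ⁅P, R⁆ ∈ linePartners S P := linePartner_of_case hS hPDP hP hDP hR hc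
  have hFne : ∀ A ∈ S, ¬ IsIsolatedIn (FAdj S) S A := fun X hX hi => by
    obtain ⟨Y, hY, hXY⟩ := hF X hX
    exact (hi.2 Y).1 ⟨hX, hY, hXY⟩
  obtain ⟨g, -, hgP, hgC⟩ := S5038.result hS hFne hA hC P
    ⟨hP, by rw [sup_comm A C, ← hsup]; exact le_sup_right⟩ C ⟨hCS, le_sup_right⟩ A ⟨hA, le_sup_left⟩
    C ⟨hCS, le_sup_right⟩ hPline.1.2.1 (Ne.symm hC.1.2.1)
  have hmem : ⁅C, conjBy ⁅P, R⁆ g⁆ = A := by
    conv_lhs => rw [← hgC]
    rw [← conjBy_commutator, hkey, hgP]
  refine ⟨conjBy ⁅P, R⁆ g, hgP ▸ linePartners_conjBy hS g h1, hS.conj_mem _ hc.1 g, ?_, hmem⟩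
  exact case_of_commutator_mem hS hCS (hS.conj_mem _ hc.1 g) (by rw [hmem]; exact hA)

/-- If `(A, B)` is in the commutator case, a line partner of `B` is a rank one partner of `A`. -/
theorem case_partner (hA : A ∈ S) (hB : B ∈ S) (hc : RootCommutatorCase S A B) :
    ∃ D ∈ linePartners S B, D ∈ S ∧ IsRankOnePair A D := by
  have hc' := case_symm hc
  obtain ⟨DB, hDB, hBDB⟩ := hF B hB
  obtain ⟨D, hDl, hD, -, hCD⟩ :=
    exists_line_mover hS hF hB (linePartner_of_case hS hBDB hB hDB hA hc')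
  refine ⟨D, hDl, hD, (S5036.result hS hB hA hc'.1 hD ?_).1⟩
  rw [Subgroup.commutator_comm]; exact hCD

/-- If every rank one partner of `A` is one of `C`, all members commuting with `C` commute with `A`. -/
theorem centralizing_subset_of_partners (hA : A ∈ S) (hC : C ∈ S)
    (h : rankOnePartners S A ⊆ rankOnePartners S C) :
    centralizingMembers S C ⊆ centralizingMembers S A := by
  intro X hX
  obtain ⟨hXS, hXC⟩ := mem_centralizing_iff.1 hX
  refine mem_centralizing_iff.2 ⟨hXS, ?_⟩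
  rcases hS.pair A hA X hXS with h' | h' | h'
  · rwa [Subgroup.commutator_comm]
  · exact absurd hXC (by
      rw [Subgroup.commutator_comm]; exact commutator_ne_bot (h ⟨hXS, h'⟩).2)
  · exfalso
    obtain ⟨D, hDl, hD, hAD⟩ := case_partner hS hF hA hXS h'
    exact not_commute_of_line hS (RankOnePair_symm (h ⟨hD, hAD⟩).2) hD hC
      (linePartner_symm hXS hDl) hXC

end RootSet

/-- All members of a class with a rank one pair have partners. -/
theorem class_partner (hS : IsRootSubgroupClass S) (h : ∃ A ∈ S, ∃ B ∈ S, IsRankOnePair A B) :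
    ∀ A ∈ S, ∃ D ∈ S, IsRankOnePair A D := by
  obtain ⟨A₀, hA₀, B₀, hB₀, h₀⟩ := h
  intro A hA
  obtain ⟨g, rfl⟩ := hS.2.2 A₀ hA₀ A hA
  exact ⟨_, hS.1.conj_mem B₀ hB₀ g, isRankOnePair_conjBy h₀ g⟩

theorem class_connected (hS : IsRootSubgroupClass S) (h : ∃ A ∈ S, ∃ B ∈ S, IsRankOnePair A B) :
    IsConnectedFamily (FAdj S) S := by
  obtain ⟨A₀, hA₀, B₀, hB₀, h₀⟩ := h
  exact (S5032.result hS.1 ⟨A₀, hA₀, B₀, hB₀, h₀.ne⟩).2
    ⟨hS.2, A₀, hA₀, fun hi => (hi.2 B₀).1 ⟨hA₀, hB₀, h₀⟩⟩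

section Class

variable (hS : IsRootSubgroupClass S) (hnd : IsNondegenerateRootSet S)
include hS hnd

theorem exists_linePartner (hA : A ∈ S) : ∃ C, C ∈ linePartners S A := by
  obtain ⟨A₀, hA₀, B₀, hB₀, hc⟩ := hnd.2.2
  obtain ⟨D, hD, hAD⟩ := class_partner hS hnd.2.1 A₀ hA₀
  obtain ⟨g, rfl⟩ := hS.2.2 A₀ hA₀ A hA
  exact ⟨_, linePartners_conjBy hS.1 g (linePartner_of_case hS.1 hAD hA₀ hD hB₀ hc)⟩

/-- A partner `B` of `A`, a line partner `P` of `A` and `E = ⁅P, B⁆` with `⁅A, E⁆ = P`. -/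
theorem exists_config (hA : A ∈ S) (hB : B ∈ S) (h : IsRankOnePair A B) :
    ∃ P ∈ linePartners S A, P ∈ S ∧ RootCommutatorCase S P B ∧
      ⁅P, B⁆ ∈ linePartners S B ∧ ⁅P, B⁆ ∈ linePartners S P ∧ ⁅A, ⁅P, B⁆⁆ = P := by
  obtain ⟨C, hC⟩ := exists_linePartner hS hnd hA
  have hF := class_partner hS hnd.2.1
  obtain ⟨P, hPl, hP, -, hc, hkey⟩ := exists_line_case hS.1 hF h hA hB hC
  obtain ⟨DP, hDP, hPDP⟩ := hF P hP
  refine ⟨P, hPl, hP, hc, ?_, linePartner_of_case hS.1 hPDP hP hDP hB hc, hkey⟩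
  have := linePartner_of_case hS.1 (RankOnePair_symm h) hB hA hP (case_symm hc)
  rwa [Subgroup.commutator_comm] at this

theorem eConnected : IsConnectedFamily (EAdj S S) S := by
  intro A hA B hB
  have hconn := class_connected hS hnd.2.1 A hA B hB
  clear hB
  induction hconn with
  | refl => exact .refl
  | @tail X Y _ e ih =>
    obtain ⟨hX, hY, hXY⟩ := e
    obtain ⟨P, hPl, hP, hc, hEY, hEP, -⟩ := exists_config hS hnd hX hY hXY
    exact ((ih.tail ⟨hX, hP, hPl⟩).tail ⟨hP, hc.1, hEP⟩).tail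
      ⟨hc.1, hY, linePartner_symm hY hEY⟩

theorem generates_of_linePartners (hA : A ∈ S) (hB : B ∈ S) (h : IsRankOnePair A B) :
    (⨆ C ∈ linePartners S A, C) ⊔ B = ⊤ := by
  have hF := class_partner hS hnd.2.1
  set K := (⨆ C ∈ linePartners S A, C) ⊔ B with hK
  have hline : ∀ C ∈ linePartners S A, C ≤ K := fun C hC =>
    (le_biSup (fun C : Subgroup G => C) hC).trans le_sup_left
  have hBK : B ≤ K := le_sup_right
  have hAK : A ≤ K := by
    obtain ⟨C, hC⟩ := exists_linePartner hS hnd hA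
    obtain ⟨D, hDl, -, -, hCD⟩ := exists_line_mover hS.1 hF hA hC
    rw [← hCD]
    exact (Subgroup.commutator_le_sup C D).trans (sup_le (hline C hC) (hline D hDl))
  obtain ⟨x, hx, hxA⟩ := exists_conjBy_swap h
  have hxK : x ∈ K := (sup_le hAK hBK : A ⊔ B ≤ K) hx
  have key : ∀ C ∈ linePartners S A, ∃ k ∈ K, C = conjBy A k := by
    intro C hC
    obtain ⟨P₀, hPl, hP₀, hsup, hc, hkey⟩ := exists_line_case hS.1 hF h hA hB hC
    have hEK : ⁅P₀, B⁆ ≤ K :=
      (Subgroup.commutator_le_sup P₀ B).trans (sup_le (hline _ hPl) hBK)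
    have hcAE : RootCommutatorCase S A ⁅P₀, B⁆ :=
      case_of_commutator_mem hS.1 hA hc.1 (by rw [hkey]; exact hP₀)
    obtain ⟨e, he, hne⟩ : ∃ e ∈ ⁅P₀, B⁆, conjBy A e ≠ A := by
      by_contra hall
      push Not at hall
      obtain ⟨a, ha, ha1⟩ := member_exists_ne_one hS.1 hA
      refine case_not_commute_left hS.1 hcAE ha ha1 fun e he => ?_
      have h1 : a * e * a⁻¹ * e⁻¹ ∈ A ⊓ ⁅A, ⁅P₀, B⁆⁆ := by
        refine ⟨?_, Subgroup.commutator_mem_commutator ha he⟩
        have h2 : e * a⁻¹ * e⁻¹ ∈ A := by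
          have := conj_mem_conjBy e (A.inv_mem ha)
          rwa [hall e he] at this
        simpa [mul_assoc] using A.mul_mem ha h2
      rw [line_inf hS.1 h hA hB hcAE, Subgroup.mem_bot, mul_inv_eq_one,
        mul_inv_eq_iff_eq_mul] at h1
      exact h1
    have hPle : conjBy A e ≤ A ⊔ C := by
      have := conjBy_line_le hS.1 hcAE he
      rwa [hkey, hsup] at this
    obtain ⟨D, hDl, hD, hcCD, hCD⟩ := exists_line_mover hS.1 hF hA hC
    obtain ⟨DC, hDC, hCDC⟩ := hF C hC.1.1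
    rcases line_members hS.1 hCDC hC.1.1 hDC hD hcCD (hS.1.conj_mem A hA e)
      (by rw [hCD, sup_comm]; exact hPle) with ⟨d, hd, he'⟩ | he'
    · refine ⟨d⁻¹ * e, Subgroup.mul_mem _ (Subgroup.inv_mem _ (hline D hDl hd)) (hEK he), ?_⟩
      rw [← conjBy_conjBy, he', conjBy_inv_conjBy]
    · exact absurd (he'.trans hCD) hne
  have hall : ∀ X ∈ S, ∃ k ∈ K, X = conjBy A k := by
    intro X hX
    have := eConnected hS hnd A hA X hX
    clear hX
    induction this with
    | refl => exact ⟨1, K.one_mem, (conjBy_one A).symm⟩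
    | @tail Y Z _ e ih =>
      obtain ⟨k, hk, rfl⟩ := ih
      have hZ := linePartners_conjBy hS.1 k⁻¹ e.2.2
      rw [conjBy_inv_conjBy] at hZ
      obtain ⟨k', hk', he⟩ := key _ hZ
      refine ⟨k * k', K.mul_mem hk hk', ?_⟩
      rw [← conjBy_conjBy, ← he, conjBy_conjBy_inv]
  rw [eq_top_iff, ← hS.1.generates]
  refine iSup₂_le fun X hX => ?_
  obtain ⟨k, hk, rfl⟩ := hall X hX
  exact conjBy_le_of_le_of_mem hAK hk

theorem isAbelian_of_weakTI {Δ : Set (Subgroup G)} (hΔ : IsWeakTISubset S Δ) : IsAbelianFamily Δ := by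
  have hF := class_partner hS hnd.2.1
  obtain ⟨hsub, -, hne, hblock⟩ := hΔ
  let N : Subgroup G :=
    { carrier := {g | (fun A => conjBy A g) '' Δ = Δ}
      one_mem' := by simp [conjBy_one]
      mul_mem' := fun {x y} hx hy => by
        show _ = _
        conv_rhs => rw [← hx, ← hy, Set.image_image]
        simp only [conjBy_conjBy]
      inv_mem' := fun {x} hx => by
        show _ = _
        conv_lhs => rw [← hx, Set.image_image]
        simp only [conjBy_inv_conjBy, Set.image_id'] }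
  have hN : ∀ M ∈ Δ, ∀ R ∈ S, ⁅R, M⁆ = ⊥ → R ≤ N := by
    intro M hM R hR hRM r hr
    rcases eq_or_ne r 1 with rfl | hr1
    · exact N.one_mem
    rcases hblock r ⟨hr1, R, hR, hr⟩ with h | h
    · exact h
    · exfalso
      refine Set.disjoint_left.1 h ⟨M, hM, ?_⟩ hM
      exact conjBy_of_commute fun m hm => (elem_commute hRM hr hm).eq
  have hpair : ∀ A ∈ Δ, ∀ B ∈ Δ, ¬ IsRankOnePair A B := by
    intro A hA B hB h
    apply hne
    have hNtop : (⊤ : Subgroup G) ≤ N := by
      rw [← generates_of_linePartners hS hnd (hsub hA) (hsub hB) h]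
      refine sup_le (iSup₂_le fun C hC => hN A hA C hC.1.1
        (by rw [Subgroup.commutator_comm]; exact hC.1.2.2)) ?_
      exact hN B hB B (hsub hB) (self_commutator (hS.1.commutative B (hsub hB)))
    refine Set.Subset.antisymm hsub fun X hX => ?_
    obtain ⟨g, rfl⟩ := hS.2.2 A (hsub hA) X hX
    have hg : (fun A => conjBy A g) '' Δ = Δ := hNtop (Subgroup.mem_top g)
    rw [← hg]
    exact ⟨A, hA, rfl⟩
  intro A hA B hB a ha b hb
  rcases hS.1.pair A (hsub hA) B (hsub hB) with h | h | h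
  · exact (elem_commute h ha hb).eq
  · exact absurd h (hpair A hA B hB)
  · exfalso
    obtain ⟨D, hDl, hD, hAD⟩ := case_partner hS.1 hF (hsub hA) (hsub hB) h
    obtain ⟨d, hd, hd1⟩ := member_exists_ne_one hS.1 hD
    have hdN := hN B hB D hD (by rw [Subgroup.commutator_comm]; exact hDl.1.2.2) hd
    have hA' : conjBy A d ∈ Δ := hdN ▸ ⟨A, hA, rfl⟩
    refine hpair A hA _ hA' (isRankOnePair_of_mem hAD (left_mem_unipotents A D)
      (conjBy_mem_unipotents (left_mem_unipotents A D) (Subgroup.mem_sup_right hd)) ?_).1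
    exact fun e => hd1 (eq_one_of_mem_of_conjBy_eq (RankOnePair_symm hAD) hd e.symm)

/-- If `C` commutes with `A` and its line partners, every partner of `A` is one of `C`. -/
theorem partners_subset_of_centralizing (hA : A ∈ S) (hC : C ∈ S) (hAC : ⁅A, C⁆ = ⊥)
    (hl : ∀ F ∈ linePartners S A, ⁅F, C⁆ = ⊥) :
    rankOnePartners S A ⊆ rankOnePartners S C := by
  have hF := class_partner hS hnd.2.1
  rintro D ⟨hD, h⟩
  rcases hS.1.pair C hC D hD with hCD | hCD | hCD
  · exfalso
    obtain ⟨R, hR, hCR⟩ := hF C hC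
    refine commutator_ne_bot hCR (commutator_eq_bot_of fun c hc r _ => ?_)
    have hle : (⨆ F ∈ linePartners S A, F) ⊔ D ≤ Subgroup.centralizer {c} :=
      sup_le (iSup₂_le fun F hF' x hx => Subgroup.mem_centralizer_singleton_iff.2
          (elem_commute (hl F hF') hx hc).eq)
        fun x hx => Subgroup.mem_centralizer_singleton_iff.2 (elem_commute hCD hc hx).symm.eq
    rw [generates_of_linePartners hS hnd hA hD h] at hle
    exact (Subgroup.mem_centralizer_singleton_iff.1 (hle (Subgroup.mem_top r))).symm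
  · exact ⟨hD, hCD⟩
  exfalso
  set W := ⁅C, D⁆ with hW
  have hWA : RootCommutatorCase S W A := push hS.1 h hA hC hAC hCD
  set U := ⁅W, A⁆ with hU
  have hUl : U ∈ linePartners S A := by
    rw [hU, Subgroup.commutator_comm]
    exact linePartner_of_case hS.1 h hA hD hCD.1 (case_symm hWA)
  have hWl : W ∈ linePartners S D := by
    rw [hW, Subgroup.commutator_comm]
    exact linePartner_of_case hS.1 (RankOnePair_symm h) hD hA hC (case_symm hCD)
  have hUD : ⁅U, D⁆ = W := by
    obtain ⟨d, hd, hd1⟩ := member_exists_ne_one hS.1 hD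
    obtain ⟨w, hw, hw1⟩ := member_exists_ne_one hS.1 hCD.1
    have hdw : d * w ≠ 1 := fun e => hWl.1.2.1 (eq_of_mem hS.1 (RankOnePair_symm h) hA hd hd1
      hCD.1 (eq_inv_of_mul_eq_one_left e ▸ W.inv_mem hw))
    obtain ⟨X, hX, hdX⟩ := hWl.2.2.1 (d * w)
      (Subgroup.mul_mem _ (Subgroup.mem_sup_left hd) (Subgroup.mem_sup_right hw)) hdw
    obtain ⟨D', hD', hWD'⟩ := hF W hCD.1
    exact commutator_eq_of_line hS.1 (RankOnePair_symm h) hD hA hCD.1 hWD' hD' hWl.1.2.2 hWA
      hd hd1 hw hw1 hX.1 hdX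
  have hcUD : RootCommutatorCase S U D :=
    case_of_commutator_mem hS.1 hWA.1 hD (by rw [hUD]; exact hCD.1)
  obtain ⟨F, hFl, hFS, hcUF, hUF⟩ := exists_line_mover hS.1 hF hA hUl
  obtain ⟨P, hPl, hP, hsup, hcP, -⟩ := exists_line_case hS.1 hF h hA hD hFl
  -- a member of the line `A ⊔ F` which is a partner of `D`
  obtain ⟨a, ha, ha1⟩ := member_exists_ne_one hS.1 hA
  obtain ⟨p, hp, hp1⟩ := member_exists_ne_one hS.1 hP
  have hap : a * p ≠ 1 := fun e => hPl.1.2.1 (eq_of_mem hS.1 h hD ha ha1 hP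
    (eq_inv_of_mul_eq_one_left e ▸ P.inv_mem hp))
  obtain ⟨Q, hQ, haQ⟩ := hPl.2.2.1 (a * p)
    (Subgroup.mul_mem _ (Subgroup.mem_sup_left ha) (Subgroup.mem_sup_right hp)) hap
  have hQD := rankOne_translate hS.1 h hA hD hP hPl.1.2.2 hcP ha ha1 hp hQ.1 haQ
  have hQA : Q ≠ A := by
    rintro rfl
    exact hPl.1.2.1 (eq_of_mem hS.1 h hD (by simpa using Q.mul_mem (Q.inv_mem ha) haQ) hp1 hP hp)
  -- all members `≠ A` are conjugates of `F` under `U`, and have the same relation to `D`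
  obtain ⟨DF, hDF, hFDF⟩ := hF F hFS
  have hFU : ⁅F, U⁆ = A := by rw [Subgroup.commutator_comm]; exact hUF
  have hmem : ∀ {X}, X ∈ S → X ≤ A ⊔ F → X ≠ A → ∃ u ∈ U, X = conjBy F u := by
    intro X hX hle hne
    rcases line_members hS.1 hFDF hFS hDF hWA.1 (case_symm hcUF) hX
      (by rw [hFU, sup_comm]; exact hle) with h' | h'
    · exact h'
    · exact absurd (h'.trans hFU) hne
  obtain ⟨d₀, hd₀, hd₀1⟩ := member_exists_ne_one hS.1 hD
  have hrel : ∀ u ∈ U, ∃ y : G, conjBy F u = conjBy F y ∧ conjBy D y = D := by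
    intro u hu
    have hw0 : u * d₀ * u⁻¹ * d₀⁻¹ ∈ W := hUD ▸ Subgroup.commutator_mem_commutator hu hd₀
    obtain ⟨c, hc, hce⟩ := exists_commutator_eq' hCD hd₀ hd₀1 hw0
    refine ⟨c⁻¹ * u, ?_, ?_⟩
    · rw [← conjBy_conjBy F u c⁻¹]
      refine (conjBy_of_commute fun x hx => ?_).symm
      have hx' : x ∈ F ⊔ A := by
        have h2 := conjBy_line_le hS.1 (case_symm hcUF) hu hx
        rwa [hFU] at h2
      obtain ⟨f, hf, a', ha', rfl⟩ := mem_sup_of_commutator_eq_bot
        (by rw [Subgroup.commutator_comm]; exact hFl.1.2.2) hx'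
      exact (((elem_commute (hl F hFl) hf (C.inv_mem hc)).symm).mul_right
        (elem_commute hAC ha' (C.inv_mem hc)).symm).eq
    · have hyA : ∀ x ∈ A, c⁻¹ * u * x = x * (c⁻¹ * u) := fun x hx =>
        (((elem_commute hAC hx (C.inv_mem hc)).symm).mul_left
          (central_of_case hWA (show u ∈ ⁅W, A⁆ from hu) (Subgroup.mem_sup_right hx))).eq
      have hyd : c⁻¹ * u * d₀ = d₀ * (c⁻¹ * u) := by
        have h2 : u * d₀ * u⁻¹ = c * d₀ * c⁻¹ := mul_right_cancel hce.symm
        calc c⁻¹ * u * d₀ = c⁻¹ * (u * d₀ * u⁻¹) * u := by group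
          _ = c⁻¹ * (c * d₀ * c⁻¹) * u := by rw [h2]
          _ = _ := by group
      refine conjBy_of_commute fun x hx => ?_
      exact (mem_centralizer_sup h hd₀ hd₀1 hyA hyd x (Subgroup.mem_sup_right hx)).symm
  obtain ⟨u₁, hu₁, rfl⟩ := hmem hQ.1 (hsup ▸ hQ.2) hQA
  obtain ⟨u₂, hu₂, rfl⟩ := hmem hP (hsup ▸ le_sup_right) hPl.1.2.1
  obtain ⟨y₁, hy₁, hy₁D⟩ := hrel u₁ hu₁
  obtain ⟨y₂, hy₂, hy₂D⟩ := hrel u₂ hu₂
  rw [hy₁] at hQD
  rw [hy₂] at hcP
  have h1 := isRankOnePair_conjBy hQD y₁⁻¹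
  rw [conjBy_inv_conjBy, conjBy_inv_eq_self_iff.2 hy₁D] at h1
  have h2 := conjBy_case hS.1 y₂⁻¹ hcP (hS.1.conj_mem F hFS y₂) hD
  rw [conjBy_inv_conjBy, conjBy_inv_eq_self_iff.2 hy₂D] at h2
  exact not_case_of_pair hS.1 h1 h2

theorem centralizing_eq_of_subset (hA : A ∈ S) (hC : C ∈ S)
    (h : centralizingMembers S A ⊆ centralizingMembers S C) :
    centralizingMembers S A = centralizingMembers S C := by
  refine Set.Subset.antisymm h (centralizing_subset_of_partners hS.1 (class_partner hS hnd.2.1) hA hC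
    (partners_subset_of_centralizing hS hnd hA hC ?_ fun F hF => ?_))
  · exact (mem_centralizing_iff.1
      (h (mem_centralizing_iff.2 ⟨hA, self_commutator (hS.1.commutative A hA)⟩))).2
  · exact (mem_centralizing_iff.1 (h (mem_centralizing_iff.2
      ⟨hF.1.1, by rw [Subgroup.commutator_comm]; exact hF.1.2.2⟩))).2

theorem partners_eq_of_subset (hA : A ∈ S) (hC : C ∈ S)
    (h : rankOnePartners S A ⊆ rankOnePartners S C) :
    ⁅A, C⁆ = ⊥ ∧ rankOnePartners S A = rankOnePartners S C := by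
  have hsub := centralizing_subset_of_partners hS.1 (class_partner hS hnd.2.1) hA hC h
  have hCA : ⁅C, A⁆ = ⊥ := (mem_centralizing_iff.1
    (hsub (mem_centralizing_iff.2 ⟨hC, self_commutator (hS.1.commutative C hC)⟩))).2
  refine ⟨by rwa [Subgroup.commutator_comm], Set.Subset.antisymm h ?_⟩
  exact partners_subset_of_centralizing hS hnd hC hA hCA fun F hF =>
    (mem_centralizing_iff.1
      (hsub (mem_centralizing_iff.2 ⟨hF.1.1, by rw [Subgroup.commutator_comm]; exact hF.1.2.2⟩))).2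

end Class

/-! ### The degenerate case -/

section Degenerate

variable (hS : IsRootSubgroupSet S) (hdeg : IsDegenerateRootSet S)
include hS hdeg

theorem dichotomy (hA : A ∈ S) (hB : B ∈ S) : ⁅A, B⁆ = ⊥ ∨ IsRankOnePair A B :=
  (hS.pair A hA B hB).imp_right fun h => h.resolve_right (hdeg A hA B hB)

theorem partners_subset_iff (hA : A ∈ S) (hC : C ∈ S) :
    rankOnePartners S A ⊆ rankOnePartners S C ↔
      centralizingMembers S C ⊆ centralizingMembers S A := by
  constructor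
  · intro h X hX
    obtain ⟨hXS, hXC⟩ := mem_centralizing_iff.1 hX
    refine mem_centralizing_iff.2 ⟨hXS, ?_⟩
    rw [Subgroup.commutator_comm]
    exact (dichotomy hS hdeg hA hXS).resolve_right fun h' =>
      commutator_ne_bot (h ⟨hXS, h'⟩).2 (by rwa [Subgroup.commutator_comm])
  · rintro h X ⟨hXS, hXA⟩
    refine ⟨hXS, (dichotomy hS hdeg hC hXS).resolve_left fun h' => commutator_ne_bot hXA ?_⟩
    rw [Subgroup.commutator_comm]
    exact (mem_centralizing_iff.1 (h (mem_centralizing_iff.2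
      ⟨hXS, by rwa [Subgroup.commutator_comm]⟩))).2

omit hdeg in
theorem centralizing_conjBy_subset {X Y : Subgroup G} (g : G)
    (h : centralizingMembers S X ⊆ centralizingMembers S Y) :
    centralizingMembers S (conjBy X g) ⊆ centralizingMembers S (conjBy Y g) := by
  intro Z hZ
  obtain ⟨hZS, hZX⟩ := mem_centralizing_iff.1 hZ
  have h' := (mem_centralizing_iff.1 (h (mem_centralizing_iff.2
    ⟨hS.conj_mem Z hZS g⁻¹, by
      rw [← conjBy_inv_conjBy X g, ← conjBy_commutator, hZX, conjBy_bot]⟩))).2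
  refine mem_centralizing_iff.2 ⟨hZS, ?_⟩
  rw [← conjBy_conjBy_inv Z g, ← conjBy_commutator, h', conjBy_bot]

/-- In the degenerate case `C_S(C) ⊆ C_S(A)` implies equality. -/
theorem centralizing_eq_of_subset_deg (hF : ∀ A ∈ S, ∃ D ∈ S, IsRankOnePair A D) (hA : A ∈ S)
    (hC : C ∈ S) (h : centralizingMembers S C ⊆ centralizingMembers S A) :
    centralizingMembers S C = centralizingMembers S A := by
  obtain ⟨T, hT, hAT⟩ := hF A hA
  have hCT : IsRankOnePair C T := ((partners_subset_iff hS hdeg hA hC).2 h ⟨hT, hAT⟩).2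
  have hCA : ⁅C, A⁆ = ⊥ := (mem_centralizing_iff.1
    (h (mem_centralizing_iff.2 ⟨hC, self_commutator (hS.commutative C hC)⟩))).2
  have key : ∀ a ∈ A, a ≠ 1 → ∃ c ∈ C,
      centralizingMembers S T ⊆ centralizingMembers S (conjBy T (c * a⁻¹)) ∧
      (centralizingMembers S (conjBy T c⁻¹) = centralizingMembers S (conjBy T a⁻¹) →
        centralizingMembers S C = centralizingMembers S A) := by
    intro a ha ha1
    obtain ⟨t, ht, ht1, he⟩ := hAT.cond_left a ha ha1
    obtain ⟨c, hc, -, hce⟩ := hCT.cond_right t ht ht1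
    refine ⟨c, hc, ?_, fun e => ?_⟩
    · have := centralizing_conjBy_subset hS (c * t⁻¹) h
      rwa [← conjBy_conjBy, ← conjBy_conjBy A, ← hce, he, conjBy_conjBy_inv, conjBy_conjBy] at this
    · rw [hce, ← he] at e
      refine Set.Subset.antisymm h ?_
      have := centralizing_conjBy_subset hS t e.symm.le
      rwa [conjBy_conjBy_inv, conjBy_conjBy_inv] at this
  obtain ⟨a, ha, ha1⟩ := member_exists_ne_one hS hA
  obtain ⟨c, hc, h1, h1'⟩ := key a ha ha1
  obtain ⟨c', hc', h2, -⟩ := key a⁻¹ (A.inv_mem ha) (inv_ne_one.2 ha1)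
  rw [inv_inv] at h2
  have h3 := centralizing_conjBy_subset hS (c * a⁻¹) h2
  rw [conjBy_conjBy] at h3
  have hcomm : c' * a = a * c' := (elem_commute hCA hc' ha).eq
  have hcc : c * a⁻¹ * (c' * a) = c * c' := by rw [hcomm]; group
  rw [hcc] at h3
  have h4 := h1.trans h3
  have hone : c * c' = 1 := by
    by_contra hne
    have hTT : ⁅T, conjBy T (c * c')⁆ = ⊥ :=
      (mem_centralizing_iff.1 (h4 (mem_centralizing_iff.2
        ⟨hT, self_commutator (hS.commutative T hT)⟩))).2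
    refine commutator_ne_bot (isRankOnePair_of_mem hCT (right_mem_unipotents hCT)
      (conjBy_mem_unipotents (right_mem_unipotents hCT)
        (Subgroup.mem_sup_left (C.mul_mem hc hc'))) fun e => hne ?_).1 hTT
    exact eq_one_of_mem_of_conjBy_eq hCT (C.mul_mem hc hc') e.symm
  rw [hone, conjBy_one] at h3
  have heq : centralizingMembers S T = centralizingMembers S (conjBy T (c * a⁻¹)) :=
    Set.Subset.antisymm h1 h3
  apply h1'
  have e1 := centralizing_conjBy_subset hS c⁻¹ heq.le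
  have e2 := centralizing_conjBy_subset hS c⁻¹ heq.ge
  rw [conjBy_conjBy, inv_mul_cancel_left] at e1 e2
  exact Set.Subset.antisymm e1 e2

end Degenerate

/-! ### Speciality -/

/-- Speciality is detected in a subgroup. -/
theorem isSpecial_of_map {H : Type*} [Group H] (f : H →* G) (hf : Function.Injective f)
    {A₀ B₀ : Subgroup H} (h : IsSpecialRankOnePair A₀ B₀) (hp : IsRankOnePair (A₀.map f) (B₀.map f)) :
    IsSpecialRankOnePair (A₀.map f) (B₀.map f) := by
  refine ⟨hp, ?_⟩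
  rintro _ ⟨a, ha, rfl⟩ hne _ ⟨b, hb, rfl⟩ hne' he
  rw [← map_inv, ← map_inv, ← map_conjBy, ← map_conjBy] at he
  have := h.2 a ha (fun e => hne (by rw [e, map_one])) b hb (fun e => hne' (by rw [e, map_one]))
    (Subgroup.map_injective hf he)
  simpa only [map_mul, map_inv] using congrArg f this

theorem isRankOnePair_of_map {H : Type*} [Group H] (f : H →* G) (hf : Function.Injective f)
    {A₀ B₀ : Subgroup H} (h : IsRankOnePair (A₀.map f) (B₀.map f))
    (hA : IsMulCommutative A₀) (hB : IsMulCommutative B₀) : IsRankOnePair A₀ B₀ := by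
  have key : ∀ {X Y : Subgroup H}, RankOneCondition (X.map f) (Y.map f) → RankOneCondition X Y := by
    intro X Y hc a ha hne
    obtain ⟨_, ⟨b, hb, rfl⟩, hb1, hab⟩ := hc (f a) ⟨a, ha, rfl⟩
      fun e => hne (hf (by rw [e, map_one]))
    refine ⟨b, hb, fun e => hb1 (by rw [e, map_one]), Subgroup.map_injective hf ?_⟩
    rw [map_conjBy, map_conjBy, map_inv, map_inv, hab]
  refine ⟨fun e => h.ne (by rw [e]), ?_, ?_, key h.cond_left, key h.cond_right⟩
  · letI : CommGroup A₀ := { (inferInstance : Group A₀) with mul_comm := hA.is_comm.comm }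
    infer_instance
  · letI : CommGroup B₀ := { (inferInstance : Group B₀) with mul_comm := hB.is_comm.comm }
    infer_instance

/-- A rank one pair acting on a line is special. -/
theorem isSpecial_of_line (hS : IsRootSubgroupSet S) (hA : A ∈ S) (hB : B ∈ S) (hP : P ∈ S)
    (h : IsRankOnePair A B) (hc : RootCommutatorCase S P B) (hkey : ⁅A, ⁅P, B⁆⁆ = P) :
    IsSpecialRankOnePair A B := by
  set E := ⁅P, B⁆ with hE
  have hcA : RootCommutatorCase S A E := case_of_commutator_mem hS hA hc.1 (by rw [hkey]; exact hP)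
  set W := P ⊔ E with hW
  have hPE : ⁅P, E⁆ = ⊥ := by rw [Subgroup.commutator_comm]; exact central_left hc
  have hAP : ∀ a ∈ A, ∀ p ∈ P, Commute a p := fun a ha p hp =>
    (central_of_case hcA (by rwa [hkey]) (Subgroup.mem_sup_left ha)).symm
  have hBE : ∀ b ∈ B, ∀ e ∈ E, Commute b e := fun b hb e he =>
    (central_of_case hc he (Subgroup.mem_sup_right hb)).symm
  have hWc : ∀ x ∈ W, ∀ y ∈ W, x * y = y * x := by
    intro x hx y hy
    obtain ⟨p, hp, e, he, rfl⟩ := mem_sup_of_commutator_eq_bot hPE hx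
    obtain ⟨p', hp', e', he', rfl⟩ := mem_sup_of_commutator_eq_bot hPE hy
    exact (((member_comm hS hP hp hp').mul_right (elem_commute hPE hp he')).mul_left
      (((elem_commute hPE hp' he).symm).mul_right (member_comm hS hc.1 he he'))).eq
  set X := A ⊔ B with hXdef
  have hn : X ≤ Subgroup.normalizer (W : Set G) := by
    refine sup_le (le_normalizer_of_conjBy_le fun a ha => ?_)
      (le_normalizer_of_conjBy_le fun b hb => ?_)
    · rw [conjBy_sup]
      refine sup_le ?_ ?_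
      · rw [conjBy_of_commute fun p hp => (hAP a ha p hp).eq]; exact le_sup_left
      · refine (conjBy_line_le hS (case_symm hcA) ha).trans (sup_le le_sup_right ?_)
        rw [Subgroup.commutator_comm, hkey]; exact le_sup_left
    · rw [conjBy_sup]
      refine sup_le (conjBy_line_le hS hc hb) ?_
      rw [conjBy_of_commute fun e he => (hBE b hb e he).eq]; exact le_sup_right
  letI instC : CommGroup W :=
    { (inferInstance : Group W) with mul_comm := fun x y => Subtype.ext (hWc x x.2 y y.2) }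
  have hmem : ∀ (x : X) (n : W), (x : G) * n * (x : G)⁻¹ ∈ W := fun x n =>
    ((Subgroup.mem_normalizer_iff.1 (hn x.2)) n).1 n.2
  letI : DistribMulAction X (Additive W) :=
    { smul := fun x n => Additive.ofMul ⟨_, hmem x n.toMul⟩
      one_smul := fun n => by
        apply Additive.toMul.injective
        apply Subtype.ext
        show (1 : G) * _ * (1 : G)⁻¹ = _
        group
      mul_smul := fun x y n => by
        apply Additive.toMul.injective
        apply Subtype.ext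
        show ((x : G) * y) * _ * ((x : G) * y)⁻¹ = (x : G) * ((y : G) * _ * (y : G)⁻¹) * (x : G)⁻¹
        group
      smul_zero := fun x => by
        apply Additive.toMul.injective
        apply Subtype.ext
        show (x : G) * 1 * (x : G)⁻¹ = 1
        group
      smul_add := fun x m n => by
        apply Additive.toMul.injective
        apply Subtype.ext
        show (x : G) * ((m.toMul : G) * (n.toMul : G)) * (x : G)⁻¹ =
          ((x : G) * m.toMul * (x : G)⁻¹) * ((x : G) * n.toMul * (x : G)⁻¹)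
        group }
  have hval : ∀ (x : X) (n : Additive W),
      (((x • n - n).toMul : W) : G) = (x : G) * n.toMul * (x : G)⁻¹ * (n.toMul : G)⁻¹ := fun x n => by
    rw [sub_eq_add_neg]; rfl
  set A₀ := A.subgroupOf X
  set B₀ := B.subgroupOf X
  have hAm : A₀.map X.subtype = A := Subgroup.map_subgroupOf_eq_of_le le_sup_left
  have hBm : B₀.map X.subtype = B := Subgroup.map_subgroupOf_eq_of_le le_sup_right
  have hAc : IsMulCommutative A₀ := ⟨⟨fun x y => Subtype.ext (Subtype.ext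
    (member_comm hS hA x.2 y.2).eq)⟩⟩
  have hBc : IsMulCommutative B₀ := ⟨⟨fun x y => Subtype.ext (Subtype.ext
    (member_comm hS hB x.2 y.2).eq)⟩⟩
  have h0 : IsRankOnePair A₀ B₀ :=
    isRankOnePair_of_map X.subtype X.subtype_injective (by rw [hAm, hBm]; exact h) hAc hBc
  have hgen : A₀ ⊔ B₀ = ⊤ := by
    rw [← Subgroup.subgroupOf_sup le_sup_left le_sup_right, Subgroup.subgroupOf_self]
  have hq : ∀ a ∈ A₀, ∀ a' ∈ A₀, ∀ n : Additive W, a' • (a • n - n) = a • n - n := by
    intro a ha a' ha' n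
    apply Additive.toMul.injective
    apply Subtype.ext
    show (a' : G) * _ * (a' : G)⁻¹ = _
    rw [hval]
    obtain ⟨p, hp, e, he, hpe⟩ := mem_sup_of_commutator_eq_bot hPE n.toMul.2
    rw [← hpe]
    have hz : (a : G) * e * (a : G)⁻¹ * e⁻¹ ∈ P := by
      have := Subgroup.commutator_mem_commutator (show (a : G) ∈ A from ha) he
      rwa [hkey] at this
    have e1 : (a : G) * (p * e) * (a : G)⁻¹ * (p * e)⁻¹ = (a : G) * e * (a : G)⁻¹ * e⁻¹ := by
      calc (a : G) * (p * e) * (a : G)⁻¹ * (p * e)⁻¹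
          = ((a : G) * p) * (a : G)⁻¹ * ((a : G) * e * (a : G)⁻¹ * e⁻¹) * p⁻¹ := by group
        _ = p * ((a : G) * e * (a : G)⁻¹ * e⁻¹) * p⁻¹ := by rw [(hAP a ha p hp).eq]; group
        _ = _ := by rw [(member_comm hS hP hp hz).eq]; group
    rw [e1, (hAP a' ha' _ hz).eq]; group
  obtain ⟨e, he, he1⟩ := member_exists_ne_one hS hc.1
  obtain ⟨a, ha, -, hne⟩ := exists_commutator_ne_one hS (case_symm hcA) he he1
  have hne' : a * e * a⁻¹ * e⁻¹ ≠ 1 := fun e' => hne (by
    rw [show e * a * e⁻¹ * a⁻¹ = (a * e * a⁻¹ * e⁻¹)⁻¹ by group, e', inv_one])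
  have hpP : a * e * a⁻¹ * e⁻¹ ∈ P := hkey ▸ Subgroup.commutator_mem_commutator ha he
  obtain ⟨b, hb, -, hbne⟩ := exists_commutator_ne_one hS hc hpP hne'
  have hsp := isSpecial_of_quadratic (N := Additive W) hgen h0 hq
    ⟨⟨a, Subgroup.mem_sup_left ha⟩, ⟨b, Subgroup.mem_sup_right hb⟩,
      Additive.ofMul ⟨e, Subgroup.mem_sup_right he⟩, fun e' => hbne ?_⟩
  · have := isSpecial_of_map X.subtype X.subtype_injective hsp (by rw [hAm, hBm]; exact h)
    rwa [hAm, hBm] at this
  · have h2 := congrArg (fun m : Additive W => ((m.toMul : W) : G)) e'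
    change b * (((_ - _ : Additive W).toMul : W) : G) * b⁻¹ = _ at h2
    simp only [hval] at h2
    change b * (a * e * a⁻¹ * e⁻¹) * b⁻¹ = a * e * a⁻¹ * e⁻¹ at h2
    generalize a * e * a⁻¹ * e⁻¹ = z at h2 ⊢
    rw [mul_inv_eq_iff_eq_mul] at h2
    rw [← h2]; group

end Cfsg.Agent.RankOne
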