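import Cfsg.Agent.EqLemmas
/-!
Calculus of `Cfsg.conjBy` (`conjBy A g = g A g⁻¹`): membership, composition, normalizers,
compatibility with `⊔`, `⊓`, `⁅ , ⁆`, homomorphisms, centralizers.
-/

set_option autoImplicit false

namespace Cfsg.Agent.RankOne

open Cfsg

variable {G : Type*} [Group G]

theorem mem_conjBy {A : Subgroup G} {g x : G} : x ∈ conjBy A g ↔ g⁻¹ * x * g ∈ A := by
  constructor
  · rintro ⟨a, ha, rfl⟩
    simpa [mul_assoc] using ha
  · intro h
    exact ⟨_, h, by simp [mul_assoc]⟩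

theorem conj_mem_conjBy {A : Subgroup G} {a : G} (g : G) (ha : a ∈ A) :
    g * a * g⁻¹ ∈ conjBy A g := mem_conjBy.2 (by simpa [mul_assoc] using ha)

theorem conjBy_conjBy (A : Subgroup G) (x y : G) : conjBy (conjBy A x) y = conjBy A (y * x) := by
  ext z
  simp only [mem_conjBy, mul_inv_rev, mul_assoc]

theorem conjBy_one (A : Subgroup G) : conjBy A 1 = A := by
  ext z
  simp [mem_conjBy]

theorem conjBy_inv_conjBy (A : Subgroup G) (g : G) : conjBy (conjBy A g) g⁻¹ = A := by
  rw [conjBy_conjBy, inv_mul_cancel, conjBy_one]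

theorem conjBy_conjBy_inv (A : Subgroup G) (g : G) : conjBy (conjBy A g⁻¹) g = A := by
  rw [conjBy_conjBy, mul_inv_cancel, conjBy_one]

theorem conjBy_injective (g : G) : Function.Injective (fun A : Subgroup G => conjBy A g) :=
  Function.LeftInverse.injective (g := fun A => conjBy A g⁻¹) fun A => conjBy_inv_conjBy A g

theorem conjBy_inj {A B : Subgroup G} {g : G} : conjBy A g = conjBy B g ↔ A = B :=
  (conjBy_injective g).eq_iff

theorem conjBy_eq_iff {A B : Subgroup G} {g : G} : conjBy A g = B ↔ A = conjBy B g⁻¹ := by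
  constructor
  · rintro rfl
    rw [conjBy_inv_conjBy]
  · rintro rfl
    rw [conjBy_conjBy_inv]

theorem conjBy_eq_conjBy_iff {A B : Subgroup G} {x y : G} :
    conjBy A x = conjBy B y ↔ conjBy A (y⁻¹ * x) = B := by
  rw [← conjBy_conjBy, conjBy_eq_iff (g := y⁻¹), inv_inv]

theorem conjBy_mono {A B : Subgroup G} (h : A ≤ B) (g : G) : conjBy A g ≤ conjBy B g :=
  Subgroup.map_mono h

theorem conjBy_le_conjBy_iff {A B : Subgroup G} {g : G} : conjBy A g ≤ conjBy B g ↔ A ≤ B :=
  Subgroup.map_le_map_iff_of_injective (MulAut.conj g).injective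

theorem conjBy_sup (A B : Subgroup G) (g : G) : conjBy (A ⊔ B) g = conjBy A g ⊔ conjBy B g :=
  Subgroup.map_sup A B _

theorem conjBy_inf (A B : Subgroup G) (g : G) : conjBy (A ⊓ B) g = conjBy A g ⊓ conjBy B g :=
  Subgroup.map_inf A B _ (MulAut.conj g).injective

theorem conjBy_bot (g : G) : conjBy (⊥ : Subgroup G) g = ⊥ := Subgroup.map_bot _

theorem conjBy_top (g : G) : conjBy (⊤ : Subgroup G) g = ⊤ := by
  ext z
  rw [mem_conjBy]
  simp

theorem conjBy_commutator (A B : Subgroup G) (g : G) :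
    conjBy ⁅A, B⁆ g = ⁅conjBy A g, conjBy B g⁆ :=
  Subgroup.map_commutator A B _

theorem conjBy_eq_bot_iff {A : Subgroup G} {g : G} : conjBy A g = ⊥ ↔ A = ⊥ := by
  rw [← conjBy_bot g, conjBy_inj, conjBy_bot]

theorem conjBy_eq_self_iff {A : Subgroup G} {g : G} :
    conjBy A g = A ↔ g ∈ Subgroup.normalizer (A : Set G) := by
  rw [Subgroup.mem_normalizer_iff'', SetLike.ext_iff]
  simp only [mem_conjBy]
  exact forall_congr' fun h => Iff.comm

theorem conjBy_of_mem_normalizer {A : Subgroup G} {g : G}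
    (h : g ∈ Subgroup.normalizer (A : Set G)) : conjBy A g = A := conjBy_eq_self_iff.2 h

theorem conjBy_of_mem {A : Subgroup G} {g : G} (h : g ∈ A) : conjBy A g = A :=
  conjBy_of_mem_normalizer (Subgroup.le_normalizer h)

theorem conjBy_of_normal {A : Subgroup G} (hA : A.Normal) (g : G) : conjBy A g = A :=
  conjBy_of_mem_normalizer (by rw [Subgroup.normalizer_eq_top_iff.2 hA]; trivial)

theorem conjBy_inv_eq_self_iff {A : Subgroup G} {g : G} : conjBy A g⁻¹ = A ↔ conjBy A g = A := by
  rw [conjBy_eq_self_iff, conjBy_eq_self_iff, inv_mem_iff]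

theorem map_conjBy {H : Type*} [Group H] (f : G →* H) (A : Subgroup G) (g : G) :
    (conjBy A g).map f = conjBy (A.map f) (f g) := by
  simp only [conjBy, Subgroup.map_map]
  congr 1
  ext z
  simp

theorem comap_conjBy {H : Type*} [Group H] (f : G →* H) (B : Subgroup H) (g : G) :
    conjBy (B.comap f) g = (conjBy B (f g)).comap f := by
  ext z
  rw [mem_conjBy, Subgroup.mem_comap, Subgroup.mem_comap, mem_conjBy]
  simp

theorem conjBy_le_of_le_of_mem {A K : Subgroup G} {g : G} (hA : A ≤ K) (hg : g ∈ K) :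
    conjBy A g ≤ K := fun _ hz => by
  have h := K.mul_mem (K.mul_mem hg (hA (mem_conjBy.1 hz))) (K.inv_mem hg)
  simpa [mul_assoc] using h

theorem conjBy_centralizer (A : Subgroup G) (g : G) :
    conjBy (Subgroup.centralizer (A : Set G)) g = Subgroup.centralizer (conjBy A g : Set G) := by
  ext z
  simp only [mem_conjBy, Subgroup.mem_centralizer_iff, SetLike.mem_coe]
  constructor
  · intro h a ha
    have h' := h _ ha
    simp only [mul_assoc, mul_inv_cancel_left, mul_right_inj] at h'
    simpa only [← mul_assoc, mul_left_inj] using h'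
  · intro h a ha
    have h' := h (g * a * g⁻¹) (by simpa [mul_assoc] using ha)
    have h'' := congrArg (fun t => g⁻¹ * t * g) h'
    simpa [mul_assoc] using h''

theorem conjBy_normalizer (A : Subgroup G) (g : G) :
    conjBy (Subgroup.normalizer (A : Set G)) g = Subgroup.normalizer (conjBy A g : Set G) := by
  ext z
  rw [mem_conjBy, ← conjBy_eq_self_iff, ← conjBy_eq_self_iff, conjBy_conjBy,
    conjBy_eq_conjBy_iff, ← mul_assoc]

/-- Transitivity of the relation "conjugate by an element of `K`". -/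
theorem exists_conjBy_trans {K : Subgroup G} {A B C : Subgroup G}
    (h₁ : ∃ x ∈ K, B = conjBy A x) (h₂ : ∃ x ∈ K, C = conjBy B x) :
    ∃ x ∈ K, C = conjBy A x := by
  obtain ⟨x, hx, rfl⟩ := h₁
  obtain ⟨y, hy, rfl⟩ := h₂
  exact ⟨y * x, K.mul_mem hy hx, conjBy_conjBy A x y⟩

end Cfsg.Agent.RankOne
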