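import Cfsg.Agent.Lib.RankOne.DegTriple
import Mathlib.GroupTheory.QuotientGroup.Basic
/-!
Degenerate classes of abstract root subgroups with two commuting members: the classes of members
with the same non-commuting members, the kernel `ker S` of the action on these classes, and the
facts that two members of one class have the same image modulo the kernel.

* `F S A` : the members not commuting with `A`, together with `A`.
* `ker S` : the elements fixing every class.
* `ClassData` : the hypotheses; `exists_partner`, `exists_triple`, `exists_transport`,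
  `commutator_mem_ker`, `exists_congr`, `eq_one_of_mem_ker`.
-/

set_option autoImplicit false

namespace Cfsg.Agent.RankOne.Deg

open Cfsg
open scoped commutatorElement

variable {G : Type*} [Group G] {S : Set (Subgroup G)} {A B C P : Subgroup G}

/-- `A` together with the members not commuting with it. -/
def F (S : Set (Subgroup G)) (A : Subgroup G) : Set (Subgroup G) :=
  {P | P ∈ S ∧ (P = A ∨ ⁅A, P⁆ ≠ ⊥)}

theorem mem_F : P ∈ F S A ↔ P ∈ S ∧ (P = A ∨ ⁅A, P⁆ ≠ ⊥) := Iff.rfl

theorem self_mem_F (hA : A ∈ S) : A ∈ F S A := ⟨hA, Or.inl rfl⟩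

theorem F_symm (hA : A ∈ S) (h : P ∈ F S A) : A ∈ F S P := by
  rcases h.2 with rfl | h'
  · exact self_mem_F hA
  · exact ⟨hA, Or.inr (by rwa [Subgroup.commutator_comm])⟩

/-- The hypotheses on the degenerate class. -/
structure ClassData (S : Set (Subgroup G)) : Prop where
  root : IsRootSubgroupClass S
  deg : IsDegenerateRootSet S
  comm : ∃ A ∈ S, ∃ C ∈ S, A ≠ C ∧ ⁅A, C⁆ = ⊥

variable (h : ClassData S)
include h

theorem mem_F_conjBy (g : G) : P ∈ F S (conjBy A g) ↔ conjBy P g⁻¹ ∈ F S A := by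
  have hS := h.root.1
  simp only [mem_F]
  have h1 : P ∈ S ↔ conjBy P g⁻¹ ∈ S := ⟨fun hP => hS.conj_mem P hP _, fun hP => by
    have := hS.conj_mem _ hP g
    rwa [conjBy_conjBy_inv] at this⟩
  rw [h1, conjBy_eq_iff (g := g⁻¹), inv_inv]
  simp only [Ne]
  rw [← conjBy_eq_bot_iff (A := ⁅A, conjBy P g⁻¹⁆) (g := g), conjBy_commutator,
    conjBy_conjBy_inv]

theorem F_conjBy_congr {g : G} (e : F S A = F S B) : F S (conjBy A g) = F S (conjBy B g) := by
  ext P
  rw [mem_F_conjBy h, mem_F_conjBy h, e]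

theorem F_conjBy_cancel {g : G} (e : F S (conjBy A g) = F S (conjBy B g)) : F S A = F S B := by
  have := F_conjBy_congr h (g := g⁻¹) e
  rwa [conjBy_inv_conjBy, conjBy_inv_conjBy] at this

theorem pair_of_ne (hA : A ∈ S) (hP : P ∈ S) (hne : ⁅A, P⁆ ≠ ⊥) : IsRankOnePair A P := by
  rcases h.root.1.pair A hA P hP with hc | hc | hc
  · exact absurd hc hne
  · exact hc
  · exact absurd hc (h.deg A hA P hP)

theorem pair_of_F (hA : A ∈ S) (hP : P ∈ F S A) (hne : A ≠ P) : IsRankOnePair A P := by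
  rcases hP.2 with e | e
  · exact absurd e.symm hne
  · exact pair_of_ne h hA hP.1 e

theorem mem_F_of_pair (hP : P ∈ S) (hp : IsRankOnePair A P) : P ∈ F S A :=
  ⟨hP, Or.inr (commutator_ne_bot hp)⟩

theorem pair_same (hA : A ∈ S) (hB : B ∈ S) (e : F S A = F S B) (hne : A ≠ B) :
    IsRankOnePair A B :=
  pair_of_F h hA (e ▸ self_mem_F hB) hne

/-- A member commuting with `A` commutes with the class of `A`. -/
theorem comm_of_F (hC : C ∈ S) (e : F S A = F S B) (hne : A ≠ C) (hc : ⁅A, C⁆ = ⊥) :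
    B ≠ C ∧ ⁅B, C⁆ = ⊥ := by
  have hn : C ∉ F S A := fun hm => hm.2.elim (fun e' => hne e'.symm) fun e' => e' hc
  rw [e, mem_F, not_and, not_or] at hn
  obtain ⟨h1, h2⟩ := hn hC
  exact ⟨fun e' => h1 e'.symm, not_not.1 h2⟩

/-- Pairs may be moved within their classes. -/
theorem pair_congr {A' P' : Subgroup G} (hA' : A' ∈ S) (hP' : P' ∈ S) (hP : P ∈ S)
    (hp : IsRankOnePair A P) (hne : F S A ≠ F S P) (eA : F S A = F S A') (eP : F S P = F S P') :
    IsRankOnePair A' P' := by
  have h1 : A' ∈ F S P := F_symm hA' (eA ▸ mem_F_of_pair h hP hp)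
  refine pair_of_F h hA' (F_symm hP' (eP ▸ h1)) fun e => hne ?_
  rw [eA, e, ← eP]

/-- Each member has a rank one partner of another class. -/
theorem exists_partner (hA : A ∈ S) :
    ∃ P ∈ S, IsRankOnePair A P ∧ F S A ≠ F S P := by
  by_contra hno
  push Not at hno
  let St : Subgroup G :=
    { carrier := {g | F S (conjBy A g) = F S A}
      one_mem' := by simp [conjBy_one]
      mul_mem' := fun {x y} (hx : F S (conjBy A x) = _) (hy : F S (conjBy A y) = _) => by
        show F S (conjBy A (x * y)) = _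
        rw [← conjBy_conjBy, F_conjBy_congr h (g := x) hy, hx]
      inv_mem' := fun {x} (hx : F S (conjBy A x) = _) => by
        show F S (conjBy A x⁻¹) = _
        have := F_conjBy_congr h (g := x⁻¹) hx
        rw [conjBy_inv_conjBy] at this
        exact this.symm }
  have hle : (⊤ : Subgroup G) ≤ St := by
    rw [← h.root.1.generates]
    refine iSup₂_le fun Q hQ q hq => ?_
    show F S (conjBy A q) = F S A
    by_cases hc : ⁅A, Q⁆ = ⊥
    · rw [conjBy_of_commute fun x hx => (elem_commute hc hx hq).symm.eq]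
    · have e := hno Q hQ (pair_of_ne h hA hQ hc)
      rw [F_conjBy_congr h (g := q) e, conjBy_of_mem hq, e]
  obtain ⟨A₀, hA₀, C₀, hC₀, hne, hc⟩ := h.comm
  obtain ⟨g, hg⟩ := h.root.2.2 A₀ hA₀ A hA
  have hc' : ⁅A, conjBy C₀ g⁆ = ⊥ := by
    rw [hg]; exact commute_conjBy hc g
  have hne' : A ≠ conjBy C₀ g := by
    rw [hg]; exact fun e => hne (conjBy_inj.1 e)
  obtain ⟨x, hx⟩ := h.root.2.2 A hA _ (h.root.1.conj_mem C₀ hC₀ g)
  have e : F S (conjBy A x) = F S A := hle (Subgroup.mem_top x)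
  rw [← hx] at e
  exact ((comm_of_F h (h.root.1.conj_mem C₀ hC₀ g) e.symm hne' hc').1 rfl).elim

/-- A partner of another class gives a triple. -/
theorem exists_triple (hA : A ∈ S) (hP : P ∈ S) (hp : IsRankOnePair A P) (hne : F S A ≠ F S P) :
    ∃ C, Triple S A C P := by
  have hS := h.root.1
  by_cases hex : ∃ Q ∈ F S P, Q ∉ F S A
  · obtain ⟨Q, hQP, hQA⟩ := hex
    rw [mem_F, not_and, not_or] at hQA
    obtain ⟨h1, h2⟩ := hQA hQP.1
    have hQP' : P ≠ Q := fun e => h2 (e ▸ commutator_ne_bot hp)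
    exact ⟨Q, hS, hA, hQP.1, hP, fun e => h1 e.symm, not_not.1 h2, hp,
      RankOnePair_symm (pair_of_F h hP hQP hQP')⟩
  push Not at hex
  obtain ⟨Q, hQA, hQP⟩ : ∃ Q ∈ F S A, Q ∉ F S P := by
    by_contra hno
    push Not at hno
    exact hne (Set.Subset.antisymm hno hex)
  rw [mem_F, not_and, not_or] at hQP
  obtain ⟨h1, h2⟩ := hQP hQA.1
  have hAQ : A ≠ Q := fun e => h2 (e ▸ commutator_ne_bot (RankOnePair_symm hp))
  have T : Triple S P Q A := ⟨hS, hP, hQA.1, hA, fun e => h1 e.symm, not_not.1 h2,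
    RankOnePair_symm hp, RankOnePair_symm (pair_of_F h hA hQA hAQ)⟩
  obtain ⟨p, hp', hp1⟩ := exists_ne_one T.pairA
  obtain ⟨a, ha, ha1, hr⟩ := rel_exists T.pairA hp' hp1
  obtain ⟨q, hq, -, hr'⟩ := T.rel_right_exists ha ha1
  refine ⟨conjBy A (p⁻¹ * q), hS, hA, hS.conj_mem A hA _, hP, (T.translate_ne hr hr').symm,
    T.commute hr hr', hp, ?_⟩
  have := isRankOnePair_conjBy hp (p⁻¹ * q)
  rwa [T.fixA (P.inv_mem hp') hq] at this

/-- An element centralising `P` carries `A` to any member of its class. -/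
theorem exists_transport (hA : A ∈ S) (hB : B ∈ S) (hP : P ∈ S) (hp : IsRankOnePair A P)
    (e : F S A = F S B) (hne : F S A ≠ F S P) :
    ∃ k : G, (∀ x ∈ P, Commute k x) ∧ conjBy A k = B := by
  have hS := h.root.1
  obtain ⟨C, T⟩ := exists_triple h hA hP hp hne
  obtain ⟨v, hv, hvA⟩ := T.exists_transport
  have hfix : conjBy P v = P := conjBy_of_commute fun x hx => (hv x hx).eq
  have eC : F S C = F S (conjBy B v) := by rw [← hvA]; exact F_conjBy_congr h e
  have hc := comm_of_F h hA eC T.ne.symm (by rw [Subgroup.commutator_comm]; exact T.comm)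
  have hp' : IsRankOnePair (conjBy B v) P := by
    have h0 : IsRankOnePair B P := pair_congr h hB hP hP hp hne e rfl
    have := isRankOnePair_conjBy h0 v
    rwa [hfix] at this
  have T' : Triple S A (conjBy B v) P := ⟨hS, hA, hS.conj_mem B hB v, hP, hc.1.symm,
    by rw [Subgroup.commutator_comm]; exact hc.2, hp, hp'⟩
  obtain ⟨w, hw, hwA⟩ := T'.exists_transport
  refine ⟨v⁻¹ * w, fun x hx => ((hv x hx).inv_left).mul_left (hw x hx), ?_⟩
  rw [← conjBy_conjBy, hwA, conjBy_inv_conjBy]

omit h in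
/-- The elements fixing every class. -/
def Fixes (S : Set (Subgroup G)) (g : G) : Prop := ∀ P ∈ S, F S (conjBy P g) = F S P

/-- The kernel of the action on classes. -/
def ker : Subgroup G where
  carrier := {g | Fixes S g}
  one_mem' := fun P _ => by rw [conjBy_one]
  mul_mem' := fun {x y} hx hy P hP => by
    rw [← conjBy_conjBy, hx _ (h.root.1.conj_mem P hP y), hy P hP]
  inv_mem' := fun {x} hx P hP => by
    have := hx _ (h.root.1.conj_mem P hP x⁻¹)
    rw [conjBy_conjBy_inv] at this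
    exact this.symm

theorem mem_ker {g : G} : g ∈ ker h ↔ Fixes S g := Iff.rfl

instance ker_normal : (ker h).Normal :=
  ⟨fun k hk g P hP => by
    have h2 := F_conjBy_congr h (g := g) (hk _ (h.root.1.conj_mem P hP g⁻¹))
    rw [conjBy_conjBy_inv, conjBy_conjBy, conjBy_conjBy] at h2
    exact h2⟩

/-- Elements of two members of one class commute modulo the kernel. -/
theorem commutator_mem_ker (hA : A ∈ S) (hB : B ∈ S) (e : F S A = F S B) {a b : G} (ha : a ∈ A)
    (hb : b ∈ B) : ⁅a, b⁆ ∈ ker h := by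
  have key : ∀ Q ∈ S, F S (conjBy Q (a * b)) = F S (conjBy Q (b * a)) := by
    intro Q hQ
    rw [← conjBy_conjBy Q b a, ← conjBy_conjBy Q a b]
    by_cases eQ : F S A = F S Q
    · have h1 : F S (conjBy Q a) = F S Q := by
        rw [← F_conjBy_congr h (g := a) eQ, conjBy_of_mem ha, eQ]
      have h2 : F S (conjBy Q b) = F S Q := by
        rw [← F_conjBy_congr h (g := b) (e.symm.trans eQ), conjBy_of_mem hb, ← e, eQ]
      rw [F_conjBy_congr h (g := a) h2, h1, F_conjBy_congr h (g := b) h1, h2]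
    by_cases hc : ⁅A, Q⁆ = ⊥
    · have h1 : conjBy Q a = Q := conjBy_of_commute fun x hx => (elem_commute hc ha hx).eq
      have hc' := (comm_of_F h hQ e (fun e' => eQ (by rw [e'])) hc).2
      have h2 : conjBy Q b = Q := conjBy_of_commute fun x hx => (elem_commute hc' hb hx).eq
      rw [h1, h2, h1]
    have hp := pair_of_ne h hA hQ hc
    obtain ⟨k, hk, hkA⟩ := exists_transport h hA hB hQ hp e eQ
    have hfix : conjBy Q k⁻¹ = Q := conjBy_of_commute fun x hx => ((hk x hx).inv_left).eq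
    have agree : ∀ x ∈ A, F S (conjBy Q (k * x * k⁻¹)) = F S (conjBy Q x) := by
      intro x hx
      rcases eq_or_ne x 1 with rfl | hx1
      · simp
      obtain ⟨d, hd, -, hr⟩ := rel_exists hp hx hx1
      rw [conjBy_mul_of_fix hfix, ← conjBy_conjBy Q x k, hr, conjBy_conjBy, (hk d hd).eq,
        ← conjBy_conjBy A k d, hkA]
      exact (F_conjBy_congr h e).symm
    obtain ⟨a', ha', rfl⟩ : ∃ a' ∈ A, b = k * a' * k⁻¹ := by
      rw [← hkA, mem_conjBy] at hb
      exact ⟨_, hb, by group⟩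
    rw [F_conjBy_congr h (g := a) (agree a' ha'),
      F_conjBy_congr h (g := k * a' * k⁻¹) (agree a ha |>.symm), conjBy_conjBy, conjBy_conjBy,
      show k * a' * k⁻¹ * (k * a * k⁻¹) = k * (a' * a) * k⁻¹ by group,
      agree _ (A.mul_mem ha' ha), (member_comm h.root.1 hA ha ha').eq]
  intro Q hQ
  have h1 := key (conjBy Q (b * a)⁻¹) (h.root.1.conj_mem Q hQ _)
  rw [conjBy_conjBy_inv, conjBy_conjBy] at h1
  rw [show ⁅a, b⁆ = a * b * (b * a)⁻¹ by rw [commutatorElement_def]; group]
  exact h1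

theorem mk_commute (hA : A ∈ S) (hB : B ∈ S) (e : F S A = F S B) {a b : G} (ha : a ∈ A)
    (hb : b ∈ B) :
    Commute (QuotientGroup.mk' (ker h) a) (QuotientGroup.mk' (ker h) b) := by
  rw [← commutatorElement_eq_one_iff_commute, ← map_commutatorElement,
    QuotientGroup.mk'_apply, QuotientGroup.eq_one_iff]
  exact commutator_mem_ker h hA hB e ha hb

/-- Every element of a member is congruent to one of any member of its class. -/
theorem exists_congr (hA : A ∈ S) (hB : B ∈ S) (e : F S A = F S B) {a : G} (ha : a ∈ A) :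
    ∃ b ∈ B, b * a⁻¹ ∈ ker h := by
  rcases eq_or_ne A B with rfl | hne
  · exact ⟨a, ha, by rw [mul_inv_cancel]; exact (ker h).one_mem⟩
  obtain ⟨x, hx, hxA⟩ := exists_conjBy_swap (pair_same h hA hB e hne)
  refine ⟨x * a * x⁻¹, hxA ▸ conj_mem_conjBy x ha, ?_⟩
  rw [← QuotientGroup.eq_one_iff, ← QuotientGroup.mk'_apply (ker h), ← commutatorElement_def,
    map_commutatorElement, commutatorElement_eq_one_iff_commute]
  have hle : A ⊔ B ≤ (Subgroup.centralizer {QuotientGroup.mk' (ker h) a}).comap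
      (QuotientGroup.mk' (ker h)) := by
    refine sup_le (fun y hy => ?_) (fun y hy => ?_)
    · exact Subgroup.mem_centralizer_singleton_iff.2 (mk_commute h hA hA rfl hy ha).eq
    · exact Subgroup.mem_centralizer_singleton_iff.2 (mk_commute h hA hB e ha hy).symm.eq
  exact Subgroup.mem_centralizer_singleton_iff.1 (hle hx)

theorem eq_one_of_mem_ker (hA : A ∈ S) {a : G} (ha : a ∈ A) (hk : a ∈ ker h) : a = 1 := by
  by_contra ha1
  obtain ⟨P, hP, hp, hne⟩ := exists_partner h hA
  obtain ⟨d, hd, -, hr⟩ := rel_exists hp ha ha1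
  apply hne
  refine F_conjBy_cancel h (g := d) ?_
  rw [← hr, hk P hP, conjBy_of_mem hd]

theorem eq_of_congr (hA : A ∈ S) {a a' : G} (ha : a ∈ A) (ha' : a' ∈ A)
    (hk : a * a'⁻¹ ∈ ker h) : a = a' :=
  mul_inv_eq_one.1 (eq_one_of_mem_ker h hA (A.mul_mem ha (A.inv_mem ha')) hk)

end Cfsg.Agent.RankOne.Deg
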