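import Cfsg.Agent.Lib.RankOne.DegClasses
/-!
The subgroups `TT S A` generated by the class of a member and their intersections `NN h A` with the
kernel of the action on classes; the part `ZZ h A D` of `NN h A` centralising a partner of another
class centralises both class groups, contains all commutators and the intersection
`NN h A ⊓ NN h D`.
-/

set_option autoImplicit false

namespace Cfsg.Agent.RankOne.Deg

open Cfsg
open scoped commutatorElement

variable {G : Type*} [Group G] {S : Set (Subgroup G)} {A B C D : Subgroup G}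

/-- The subgroup generated by the class of `A`. -/
def TT (S : Set (Subgroup G)) (A : Subgroup G) : Subgroup G :=
  ⨆ B ∈ {B | B ∈ S ∧ F S B = F S A}, B

theorem le_TT (hB : B ∈ S) (e : F S B = F S A) : B ≤ TT S A :=
  le_iSup₂_of_le B ⟨hB, e⟩ le_rfl

theorem TT_congr (e : F S A = F S B) : TT S A = TT S B := by rw [TT, TT, e]

variable (h : ClassData S)
include h

theorem conj_mem_TT (g : G) {x : G} (hx : x ∈ TT S A) : g * x * g⁻¹ ∈ TT S (conjBy A g) := by
  have hle : TT S A ≤ (TT S (conjBy A g)).comap (MulAut.conj g).toMonoidHom :=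
    iSup₂_le fun B hB b hb =>
      le_TT (h.root.1.conj_mem B hB.1 g) (F_conjBy_congr h hB.2) (conj_mem_conjBy g hb)
  exact hle hx

theorem TT_commute (hC : C ∈ S) (hne : A ≠ C) (hc : ⁅A, C⁆ = ⊥) {x y : G}
    (hx : x ∈ TT S A) (hy : y ∈ TT S C) : Commute x y := by
  have hle : TT S A ≤ Subgroup.centralizer (TT S C : Set G) := by
    refine iSup₂_le fun B hB => ?_
    rw [Subgroup.le_centralizer_iff]
    refine iSup₂_le fun C' hC' => ?_
    obtain ⟨h1, h2⟩ := comm_of_F h hC hB.2.symm hne hc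
    obtain ⟨-, h3⟩ := comm_of_F h hB.1 hC'.2.symm h1.symm
      (by rw [Subgroup.commutator_comm]; exact h2)
    exact Subgroup.commutator_eq_bot_iff_le_centralizer.1 h3
  exact (hle hx y hy).symm

/-- The part of the class group fixing all classes. -/
def NN (A : Subgroup G) : Subgroup G := TT S A ⊓ ker h

theorem mem_NN {x : G} : x ∈ NN h A ↔ x ∈ TT S A ∧ x ∈ ker h := Subgroup.mem_inf

theorem NN_congr (e : F S A = F S B) : NN h A = NN h B := by rw [NN, NN, TT_congr e]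

theorem conj_mem_NN (g : G) {x : G} (hx : x ∈ NN h A) : g * x * g⁻¹ ∈ NN h (conjBy A g) :=
  ⟨conj_mem_TT h g hx.1, (ker_normal h).conj_mem x hx.2 g⟩

theorem ker_conj_mem_NN (hA : A ∈ S) {k x : G} (hk : k ∈ ker h) (hx : x ∈ NN h A) :
    k * x * k⁻¹ ∈ NN h A := by
  rw [← NN_congr h (hk A hA)]
  exact conj_mem_NN h k hx

theorem self_conj_mem_NN {a x : G} (ha : a ∈ A) (hx : x ∈ NN h A) : a * x * a⁻¹ ∈ NN h A := by
  have := conj_mem_NN h a hx
  rwa [conjBy_of_mem ha] at this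

theorem commutator_mem_NN (hA : A ∈ S) {a k : G} (ha : a ∈ A) (hk : k ∈ ker h) :
    ⁅a, k⁆ ∈ NN h A := by
  refine ⟨?_, ?_⟩
  · rw [commutatorElement_def, show a * k * a⁻¹ * k⁻¹ = a * (k * a⁻¹ * k⁻¹) by group]
    exact Subgroup.mul_mem _ (le_TT hA rfl ha)
      (le_TT (h.root.1.conj_mem A hA k) (hk A hA) (conj_mem_conjBy k (A.inv_mem ha)))
  · rw [commutatorElement_def]
    exact (ker h).mul_mem ((ker_normal h).conj_mem k hk a) ((ker h).inv_mem hk)

theorem commutator_mem_inter (hA : A ∈ S) (hD : D ∈ S) {n m : G} (hn : n ∈ NN h A)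
    (hm : m ∈ NN h D) : ⁅n, m⁆ ∈ NN h A ⊓ NN h D := by
  rw [commutatorElement_def]
  refine ⟨?_, ?_⟩
  · rw [show n * m * n⁻¹ * m⁻¹ = n * (m * n⁻¹ * m⁻¹) by group]
    exact (NN h A).mul_mem hn (ker_conj_mem_NN h hA hm.2 ((NN h A).inv_mem hn))
  · exact (NN h D).mul_mem (ker_conj_mem_NN h hD hn.2 hm) ((NN h D).inv_mem hm)

/-- The conjugates of `n ∈ NN A ⊓ NN D` under `A` centralise `D`. -/
theorem inter_commute (hA : A ∈ S) (hD : D ∈ S) (hp : IsRankOnePair A D) (hne : F S A ≠ F S D)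
    {n a x : G} (hn : n ∈ NN h A) (hn' : n ∈ NN h D) (ha : a ∈ A) (ha1 : a ≠ 1) (hx : x ∈ D) :
    Commute (a * n * a⁻¹) x := by
  obtain ⟨C, T⟩ := exists_triple h hA hD hp hne
  obtain ⟨d, hd, hd1, hr⟩ := rel_exists hp (A.inv_mem ha) (inv_ne_one.2 ha1)
  obtain ⟨c, hc, -, hr'⟩ := T.rel_right_exists hd hd1
  have hcomm := T.commute hr hr'
  rw [inv_inv] at hcomm
  have hneq := T.translate_ne hr hr'
  rw [inv_inv] at hneq
  have hcn : Commute c n := (TT_commute h T.memC T.ne T.comm hn.1 (le_TT T.memC rfl hc)).symm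
  have he : a * c * n * (a * c)⁻¹ = a * n * a⁻¹ := by
    rw [mul_assoc a c n, hcn.eq]; group
  exact (TT_commute h (h.root.1.conj_mem D hD _) hneq.symm hcomm (le_TT hD rfl hx)
    (he ▸ conj_mem_TT h (a * c) hn'.1)).symm

variable (hbig : ∀ X ∈ S, ∃ a ∈ X, a ≠ 1 ∧ a * a ≠ 1)
include hbig

theorem centralizes_A (hA : A ∈ S) (hD : D ∈ S) (hp : IsRankOnePair A D) (hne : F S A ≠ F S D)
    {n : G} (hn : n ∈ NN h A) (hc : ∀ x ∈ D, Commute n x) :
    (∀ x ∈ A, Commute n x) ∧ ∀ D' ∈ S, F S D' = F S D → ∀ x ∈ D', Commute n x := by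
  have hS := h.root.1
  -- `n` also lies in the class group of each `a D a⁻¹`
  have hin : ∀ a ∈ A, a ≠ 1 → n ∈ NN h (conjBy D a) := by
    intro a ha ha1
    obtain ⟨d, hd, -, hr⟩ := rel_exists hp ha ha1
    have := conj_mem_NN h d hn
    rw [(hc d hd).symm.eq, mul_inv_cancel_right, ← hr] at this
    exact this
  have hstep : ∀ D' ∈ S, F S D' = F S D → ∀ a ∈ A, a ≠ 1 → ∀ a' ∈ A, a' ≠ 1 → ∀ x ∈ D',
      Commute (a⁻¹ * a' * n * (a⁻¹ * a')⁻¹) x := by
    intro D' hD' e a ha ha1 a' ha' ha1' x hx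
    have hD2 : conjBy D' a ∈ S := hS.conj_mem D' hD' a
    have hne2 : F S A ≠ F S (conjBy D a) := fun e' => hne (F_conjBy_cancel h (g := a)
      (by rw [conjBy_of_mem ha]; exact e'))
    have hp2 : IsRankOnePair A (conjBy D a) := by
      have := isRankOnePair_conjBy hp a
      rwa [conjBy_of_mem ha] at this
    have e2 : F S (conjBy D a) = F S (conjBy D' a) := F_conjBy_congr h e.symm
    have := inter_commute h hA hD2
      (pair_congr h hA hD2 (hS.conj_mem D hD a) hp2 hne2 rfl e2) (e2 ▸ hne2) hn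
      (NN_congr h e2 ▸ hin a ha ha1) ha' ha1' (conj_mem_conjBy a hx)
    have h2 := this.map (MulAut.conj a⁻¹).toMonoidHom
    simp only [MulEquiv.coe_toMonoidHom, MulAut.conj_apply, inv_inv] at h2
    convert h2 using 1 <;> group
  obtain ⟨a₀, ha₀, ha₀1, ha₀2⟩ := hbig A hA
  have hall : ∀ D' ∈ S, F S D' = F S D → ∀ a ∈ A, ∀ x ∈ D', Commute (a * n * a⁻¹) x := by
    intro D' hD' e a ha x hx
    obtain ⟨b, hb, hb1, hba⟩ : ∃ b ∈ A, b ≠ 1 ∧ b * a ≠ 1 := by
      by_cases he : a₀ * a = 1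
      · exact ⟨a₀ * a₀, A.mul_mem ha₀ ha₀, ha₀2, by rwa [mul_assoc, he, mul_one]⟩
      · exact ⟨a₀, ha₀, ha₀1, he⟩
    have := hstep D' hD' e b hb hb1 (b * a) (A.mul_mem hb ha) hba x hx
    rwa [inv_mul_cancel_left] at this
  have hA' : ∀ x ∈ A, Commute n x := by
    intro x hx
    obtain ⟨d, hd, -, hr⟩ := rel_exists hp ha₀ ha₀1
    have hm : d * x * d⁻¹ ∈ conjBy D a₀ := hr.symm ▸ conj_mem_conjBy d hx
    rw [mem_conjBy] at hm
    have h1 := hall D hD rfl a₀⁻¹ (A.inv_mem ha₀) _ hm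
    have h2 := h1.map (MulAut.conj a₀).toMonoidHom
    simp only [MulEquiv.coe_toMonoidHom, MulAut.conj_apply, inv_inv] at h2
    have h3 := h2.map (MulAut.conj d⁻¹).toMonoidHom
    simp only [MulEquiv.coe_toMonoidHom, MulAut.conj_apply, inv_inv] at h3
    convert h3 using 1
    · calc n = d⁻¹ * n * d := by rw [mul_assoc, (hc d hd).eq, inv_mul_cancel_left]
        _ = _ := by group
    · group
  refine ⟨hA', fun D' hD' e x hx => ?_⟩
  simpa using hall D' hD' e 1 A.one_mem x hx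

/-- The part of `NN A` centralising `D`. -/
def ZZ (A D : Subgroup G) : Subgroup G := NN h A ⊓ Subgroup.centralizer (D : Set G)

omit hbig in
theorem mem_ZZ {x : G} : x ∈ ZZ h A D ↔ x ∈ NN h A ∧ ∀ y ∈ D, Commute x y :=
  ⟨fun hx => ⟨hx.1, fun y hy => (hx.2 y hy).symm⟩,
    fun hx => ⟨hx.1, fun y hy => (hx.2 y hy).symm⟩⟩

theorem ZZ_central (hA : A ∈ S) (hD : D ∈ S) (hp : IsRankOnePair A D) (hne : F S A ≠ F S D)
    {z : G} (hz : z ∈ ZZ h A D) :
    (∀ x ∈ TT S A, Commute z x) ∧ ∀ x ∈ TT S D, Commute z x := by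
  obtain ⟨hn, hc⟩ := (mem_ZZ h).1 hz
  obtain ⟨-, h2⟩ := centralizes_A h hbig hA hD hp hne hn hc
  have hA' : TT S A ≤ Subgroup.centralizer {z} := iSup₂_le fun B hB x hx => by
    have e := hB.2.symm
    exact Subgroup.mem_centralizer_singleton_iff.2
      ((centralizes_A h hbig hB.1 hD (pair_congr h hB.1 hD hD hp hne e rfl) (e ▸ hne)
        (NN_congr h e ▸ hn) hc).1 x hx).symm.eq
  have hD' : TT S D ≤ Subgroup.centralizer {z} := iSup₂_le fun B hB x hx =>
    Subgroup.mem_centralizer_singleton_iff.2 (h2 B hB.1 hB.2 x hx).symm.eq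
  exact ⟨fun x hx => (show x * z = z * x from Subgroup.mem_centralizer_singleton_iff.1 (hA' hx)).symm,
    fun x hx => (show x * z = z * x from Subgroup.mem_centralizer_singleton_iff.1 (hD' hx)).symm⟩

theorem inter_le_ZZ (hA : A ∈ S) (hD : D ∈ S) (hp : IsRankOnePair A D) (hne : F S A ≠ F S D)
    {n : G} (hn : n ∈ NN h A) (hn' : n ∈ NN h D) : n ∈ ZZ h A D := by
  obtain ⟨a, ha, ha1, -⟩ := hbig A hA
  have hm : a * n * a⁻¹ ∈ ZZ h A D := (mem_ZZ h).2 ⟨self_conj_mem_NN h ha hn,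
    fun y hy => inter_commute h hA hD hp hne hn hn' ha ha1 hy⟩
  have hc := ((ZZ_central h hbig hA hD hp hne hm).1 a (le_TT hA rfl ha)).eq
  have e : a * n * a⁻¹ = n :=
    mul_left_cancel (a := a) (by rw [← hc]; group)
  rwa [e] at hm

theorem ker_conj_mem_ZZ (hA : A ∈ S) (hD : D ∈ S) (hp : IsRankOnePair A D) (hne : F S A ≠ F S D)
    {k z : G} (hk : k ∈ ker h) (hz : z ∈ ZZ h A D) : k * z * k⁻¹ ∈ ZZ h A D := by
  refine (mem_ZZ h).2 ⟨ker_conj_mem_NN h hA hk hz.1, fun y hy => ?_⟩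
  have hy' : k⁻¹ * y * k ∈ TT S D := by
    have hm := conj_mem_conjBy k⁻¹ hy
    rw [inv_inv] at hm
    exact le_TT (h.root.1.conj_mem D hD k⁻¹) ((ker h).inv_mem hk D hD) hm
  have := ((ZZ_central h hbig hA hD hp hne hz).2 _ hy').map (MulAut.conj k).toMonoidHom
  simp only [MulEquiv.coe_toMonoidHom, MulAut.conj_apply] at this
  convert this using 1
  group

theorem commutator_mem_ZZ (hA : A ∈ S) (hD : D ∈ S) (hp : IsRankOnePair A D) (hne : F S A ≠ F S D)
    {n m : G} (hn : n ∈ NN h A) (hm : m ∈ NN h A) : ⁅n, m⁆ ∈ ZZ h A D := by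
  have hS := h.root.1
  obtain ⟨a, ha, ha1, -⟩ := hbig A hA
  obtain ⟨d, hd, -, hr⟩ := rel_exists hp ha ha1
  have hq : ⁅d, m⁆⁻¹ ∈ NN h D := (NN h D).inv_mem (commutator_mem_NN h hD hd hm.2)
  have hP : d * m * d⁻¹ ∈ NN h (conjBy D a) := hr.symm ▸ conj_mem_NN h d hm
  have hne2 : F S A ≠ F S (conjBy D a) := fun e' => hne (F_conjBy_cancel h (g := a)
      (by rw [conjBy_of_mem ha]; exact e'))
  have hp2 : IsRankOnePair A (conjBy D a) := by
    have := isRankOnePair_conjBy hp a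
    rwa [conjBy_of_mem ha] at this
  have h1 := commutator_mem_inter h hA hD hn hq
  have h2 := commutator_mem_inter h hA (hS.conj_mem D hD a) hn hP
  have hz1 := inter_le_ZZ h hbig hA hD hp hne h1.1 h1.2
  have hz2' := inter_le_ZZ h hbig hA (hS.conj_mem D hD a) hp2 hne2 h2.1 h2.2
  have hz2 : ⁅n, d * m * d⁻¹⁆ ∈ ZZ h A D := by
    obtain ⟨hcA, hcD⟩ := ZZ_central h hbig hA (hS.conj_mem D hD a) hp2 hne2 hz2'
    refine (mem_ZZ h).2 ⟨hz2'.1, fun y hy => ?_⟩
    have := (((hcA a (le_TT hA rfl ha)).inv_right).mul_right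
      (hcD _ (le_TT (hS.conj_mem D hD a) rfl (conj_mem_conjBy a hy)))).mul_right
      (hcA a (le_TT hA rfl ha))
    rwa [show a⁻¹ * (a * y * a⁻¹) * a = y by group] at this
  have he : ⁅n, m⁆ = ⁅n, ⁅d, m⁆⁻¹⁆ * (⁅d, m⁆⁻¹ * ⁅n, d * m * d⁻¹⁆ * ⁅d, m⁆⁻¹⁻¹) := by
    simp only [commutatorElement_def]; group
  rw [he]
  exact (ZZ h A D).mul_mem hz1 (ker_conj_mem_ZZ h hbig hA hD hp hne hq.2 hz2)

end Cfsg.Agent.RankOne.Deg
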