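import Cfsg.Agent.Lib.RankOne.DegCores
import Mathlib.Tactic.Abel
/-!
The commutator operators on `NN h A / ZZ h A D` for a pair `A, D` of different classes, and the
conclusion `sq_zero`: `[a, [a, n]] ∈ ZZ h A D` for an element `a` of order at least four.
-/

set_option autoImplicit false

namespace Cfsg.Agent.RankOne.Deg

open Cfsg
open scoped commutatorElement

variable {G : Type*} [Group G] {S : Set (Subgroup G)}

/-- A rank one pair of different classes, all members having elements of order at least three. -/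
structure Ctx (h : ClassData S) where
  A : Subgroup G
  D : Subgroup G
  memA : A ∈ S
  memD : D ∈ S
  pair : IsRankOnePair A D
  ne : F S A ≠ F S D
  big : ∀ X ∈ S, ∃ a ∈ X, a ≠ 1 ∧ a * a ≠ 1

variable {h : ClassData S}

/-- The pair read backwards. -/
def Ctx.symm (c : Ctx h) : Ctx h :=
  ⟨c.D, c.A, c.memD, c.memA, RankOnePair_symm c.pair, c.ne.symm, c.big⟩

/-- `ZZ` inside `NN`. -/
abbrev Zs (c : Ctx h) : Subgroup ↥(NN h c.A) := (ZZ h c.A c.D).subgroupOf (NN h c.A)

instance zs_normal (c : Ctx h) : (Zs c).Normal :=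
  ⟨fun z hz n => ker_conj_mem_ZZ h c.big c.memA c.memD c.pair c.ne n.2.2 hz⟩

instance quotientCommGroup (c : Ctx h) : CommGroup (↥(NN h c.A) ⧸ Zs c) :=
  { (inferInstance : Group (↥(NN h c.A) ⧸ Zs c)) with
    mul_comm := by
      rintro ⟨x⟩ ⟨y⟩
      refine QuotientGroup.eq.2 ?_
      have := commutator_mem_ZZ h c.big c.memA c.memD c.pair c.ne ((NN h c.A).inv_mem y.2)
        ((NN h c.A).inv_mem x.2)
      rw [commutatorElement_def, inv_inv, inv_inv] at this
      show ((x * y)⁻¹ * (y * x) : ↥(NN h c.A)).1 ∈ ZZ h c.A c.D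
      simpa [mul_assoc] using this }

/-- `NN h A / ZZ h A D`, written additively. -/
abbrev V (c : Ctx h) := Additive (↥(NN h c.A) ⧸ Zs c)

/-- The class of an element. -/
def cl (c : Ctx h) {n : G} (hn : n ∈ NN h c.A) : V c :=
  Additive.ofMul (QuotientGroup.mk' (Zs c) ⟨n, hn⟩)

theorem cl_mul (c : Ctx h) {n m : G} (hn : n ∈ NN h c.A) (hm : m ∈ NN h c.A)
    (hnm : n * m ∈ NN h c.A := (NN h c.A).mul_mem hn hm) : cl c hnm = cl c hn + cl c hm := rfl

theorem cl_congr (c : Ctx h) {n m : G} (hn : n ∈ NN h c.A) (hm : m ∈ NN h c.A) (e : n = m) :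
    cl c hn = cl c hm := by subst e; rfl

theorem cl_surj (c : Ctx h) (v : V c) : ∃ (n : G) (hn : n ∈ NN h c.A), cl c hn = v := by
  obtain ⟨⟨n, hn⟩, e⟩ := QuotientGroup.mk'_surjective (Zs c) (Additive.toMul v)
  exact ⟨n, hn, by rw [cl, e]; rfl⟩

theorem cl_eq_zero (c : Ctx h) {n : G} (hn : n ∈ NN h c.A) :
    cl c hn = 0 ↔ n ∈ ZZ h c.A c.D := by
  show QuotientGroup.mk' (Zs c) ⟨n, hn⟩ = 1 ↔ _
  rw [QuotientGroup.mk'_apply, QuotientGroup.eq_one_iff]
  rfl

theorem cl_conj (c : Ctx h) {n y : G} (hy : y ∈ NN h c.A) (hc : ⁅n, y⁆ ∈ ZZ h c.A c.D)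
    (hny : n * y * n⁻¹ ∈ NN h c.A) : cl c hny = cl c hy := by
  have e : n * y * n⁻¹ = ⁅n, y⁆ * y := by rw [commutatorElement_def]; group
  rw [cl_congr c hny ((NN h c.A).mul_mem hc.1 hy) e, cl_mul c hc.1 hy,
    (cl_eq_zero c hc.1).2 hc, zero_add]

/-- `n ↦ [x, n]` from `c'` to `c`, for `x ∈ A`. -/
def br (c c' : Ctx h) (x : ↥c.A)
    (hc : ∀ n ∈ NN h c'.A, ∀ y ∈ NN h c.A, ⁅n, y⁆ ∈ ZZ h c.A c.D)
    (hz : ∀ z ∈ ZZ h c'.A c'.D, Commute (x : G) z) : V c' →+ V c :=
  let f : ↥(NN h c'.A) →* ↥(NN h c.A) ⧸ Zs c :=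
    { toFun := fun n => QuotientGroup.mk' (Zs c)
        ⟨⁅(x : G), (n : G)⁆, commutator_mem_NN h c.memA x.2 n.2.2⟩
      map_one' := by
        rw [QuotientGroup.mk'_apply, QuotientGroup.eq_one_iff]
        show ⁅(x : G), (1 : G)⁆ ∈ ZZ h c.A c.D
        rw [commutatorElement_one_right]
        exact Subgroup.one_mem _
      map_mul' := fun n m => by
        have hx1 := commutator_mem_NN h c.memA x.2 n.2.2
        have hx2 := commutator_mem_NN h c.memA x.2 m.2.2
        have hx3 : (n : G) * ⁅(x : G), (m : G)⁆ * (n : G)⁻¹ ∈ NN h c.A :=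
          ker_conj_mem_NN h c.memA n.2.2 hx2
        apply Additive.ofMul.injective
        change cl c _ = cl c hx1 + cl c hx2
        rw [← cl_conj c hx2 (hc n n.2 _ hx2) hx3, ← cl_mul c hx1 hx3]
        apply cl_congr
        simp only [commutatorElement_def, Subgroup.coe_mul]
        group }
  MonoidHom.toAdditive (QuotientGroup.lift (Zs c') f fun n hn => by
    show QuotientGroup.mk' (Zs c) _ = 1
    rw [QuotientGroup.mk'_apply, QuotientGroup.eq_one_iff]
    show ⁅(x : G), (n : G)⁆ ∈ ZZ h c.A c.D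
    rw [commutatorElement_eq_one_iff_commute.2 (hz n hn)]
    exact Subgroup.one_mem _)

/-- `[a, ·]` on `NN h A / ZZ`. -/
def opA (c : Ctx h) (a : ↥c.A) : V c →+ V c :=
  br c c a (fun _ hn _ hy => commutator_mem_ZZ h c.big c.memA c.memD c.pair c.ne hn hy)
    fun _ hz => ((ZZ_central h c.big c.memA c.memD c.pair c.ne hz).1 _ (le_TT c.memA rfl a.2)).symm

/-- `[a, ·]` from `NN h D / ZZ` to `NN h A / ZZ`. -/
def psi (c : Ctx h) (a : ↥c.A) : V c.symm →+ V c :=
  br c c.symm a (fun n hn y hy => by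
      rw [← commutatorElement_inv]
      have := commutator_mem_inter h c.memA c.memD hy hn
      exact Subgroup.inv_mem _ (inter_le_ZZ h c.big c.memA c.memD c.pair c.ne this.1 this.2))
    fun _ hz => (((mem_ZZ h).1 hz).2 _ a.2).symm

/-- `[d, ·]` from `NN h A / ZZ` to `NN h D / ZZ`. -/
def xi (c : Ctx h) (d : ↥c.D) : V c →+ V c.symm := psi c.symm d

theorem opA_cl (c : Ctx h) (a : ↥c.A) {n : G} (hn : n ∈ NN h c.A) :
    opA c a (cl c hn) = cl c (commutator_mem_NN h c.memA a.2 hn.2) := rfl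

theorem psi_cl (c : Ctx h) (a : ↥c.A) {m : G} (hm : m ∈ NN h c.symm.A) :
    psi c a (cl c.symm hm) = cl c (commutator_mem_NN h c.memA a.2 hm.2) := rfl

theorem br_mul (c : Ctx h) (a b : ↥c.A) {m : G} (hm : m ∈ ker h) :
    cl c (commutator_mem_NN h c.memA (a * b).2 hm) =
      opA c a (cl c (commutator_mem_NN h c.memA b.2 hm)) +
        cl c (commutator_mem_NN h c.memA b.2 hm) + cl c (commutator_mem_NN h c.memA a.2 hm) := by
  have h1 := commutator_mem_NN h c.memA b.2 hm
  have h2 := commutator_mem_NN h c.memA a.2 h1.2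
  rw [opA_cl, ← cl_mul c h2 h1, ← cl_mul c ((NN h c.A).mul_mem h2 h1)]
  apply cl_congr
  simp only [commutatorElement_def, Subgroup.coe_mul]
  group

theorem opA_mul (c : Ctx h) (a b : ↥c.A) (v : V c) :
    opA c (a * b) v = opA c a (opA c b v) + opA c b v + opA c a v := by
  obtain ⟨n, hn, rfl⟩ := cl_surj c v
  exact br_mul c a b hn.2

theorem psi_mul (c : Ctx h) (a b : ↥c.A) (v : V c.symm) :
    psi c (a * b) v = opA c a (psi c b v) + psi c b v + psi c a v := by
  obtain ⟨n, hn, rfl⟩ := cl_surj c.symm v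
  exact br_mul c a b hn.2

theorem opA_one (c : Ctx h) (v : V c) : opA c 1 v = 0 := by
  obtain ⟨n, hn, rfl⟩ := cl_surj c v
  rw [opA_cl, cl_eq_zero]
  simp

theorem psi_one (c : Ctx h) (v : V c.symm) : psi c 1 v = 0 := by
  obtain ⟨n, hn, rfl⟩ := cl_surj c.symm v
  rw [psi_cl, cl_eq_zero]
  simp

theorem A_comm (c : Ctx h) (a b : ↥c.A) : a * b = b * a :=
  Subtype.ext (member_comm h.root.1 c.memA a.2 b.2).eq

theorem opA_comm (c : Ctx h) (a b : ↥c.A) (v : V c) :
    opA c a (opA c b v) = opA c b (opA c a v) := by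
  have h1 := opA_mul c a b v
  rw [A_comm c a b, opA_mul] at h1
  linear_combination (norm := abel) -h1

theorem psi_comm (c : Ctx h) (a b : ↥c.A) (v : V c.symm) :
    opA c a (psi c b v) = opA c b (psi c a v) := by
  have h1 := psi_mul c a b v
  rw [A_comm c a b, psi_mul] at h1
  linear_combination (norm := abel) -h1

theorem opA_inv (c : Ctx h) (a : ↥c.A) (v : V c) :
    opA c a (opA c a⁻¹ v) = -opA c a⁻¹ v - opA c a v := by
  have h1 := opA_mul c a a⁻¹ v
  rw [mul_inv_cancel, opA_one] at h1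
  linear_combination (norm := abel) -h1

/-- `[a, [d, n]] ≡ n` for corresponding `a` and `d`. -/
theorem psi_xi (c : Ctx h) {a : ↥c.A} {d : ↥c.D} (hr : Rel c.A c.D a d) (v : V c) :
    psi c a (xi c d v) = v := by
  obtain ⟨n, hn, rfl⟩ := cl_surj c v
  have hy0 : ⁅(d : G), n⁆ ∈ NN h c.symm.A := commutator_mem_NN h c.memD d.2 hn.2
  show psi c a (cl c.symm hy0) = _
  rw [psi_cl]
  have hy : ⁅(d : G), n⁆ ∈ NN h c.D := hy0
  set y := ⁅(d : G), n⁆ with hydef
  have hyn : y * n ∈ NN h (conjBy c.D a) := by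
    rw [hr, show y * n = d * n * (d : G)⁻¹ by rw [hydef, commutatorElement_def]; group]
    exact conj_mem_NN h _ hn
  have hy' : (a : G)⁻¹ * (y * n) * a ∈ NN h c.D := by
    have := conj_mem_NN h (a : G)⁻¹ hyn
    rwa [inv_inv, conjBy_inv_conjBy] at this
  set i := (a : G)⁻¹ * (y * n) * a * y⁻¹ with hidef
  have hiD : i ∈ NN h c.D := (NN h c.D).mul_mem hy' ((NN h c.D).inv_mem hy)
  have hiA : i ∈ NN h c.A := by
    have e : i = ⁅(a : G)⁻¹, y⁆ * (y * ((a : G)⁻¹ * n * a) * y⁻¹) := by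
      rw [hidef]; simp only [commutatorElement_def]; group
    rw [e]
    refine (NN h c.A).mul_mem (commutator_mem_NN h c.memA (c.A.inv_mem a.2) hy.2) ?_
    have := self_conj_mem_NN h (c.A.inv_mem a.2) hn
    rw [inv_inv] at this
    exact ker_conj_mem_NN h c.memA hy.2 this
  have hiZ := inter_le_ZZ h c.big c.memA c.memD c.pair c.ne hiA hiD
  have hca := ((ZZ_central h c.big c.memA c.memD c.pair c.ne hiZ).1 _ (le_TT c.memA rfl a.2)).eq
  have hz : ⁅y, n⁆ ∈ ZZ h c.A c.D := by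
    rw [← commutatorElement_inv]
    have := commutator_mem_inter h c.memA c.memD hn hy
    exact Subgroup.inv_mem _ (inter_le_ZZ h c.big c.memA c.memD c.pair c.ne this.1 this.2)
  have hyny : y * n * y⁻¹ ∈ NN h c.A := ker_conj_mem_NN h c.memA hy.2 hn
  have e : ⁅(a : G), y⁆ = i⁻¹ * (y * n * y⁻¹) := by
    have h1 : (a : G) * (i * y) * (a : G)⁻¹ = y * n := by rw [hidef]; group
    rw [show (a : G) * (i * y) * (a : G)⁻¹ = a * i * (y * (a : G)⁻¹) by group, ← hca] at h1
    rw [← h1, commutatorElement_def]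
    group
  rw [cl_congr c _ ((NN h c.A).mul_mem ((NN h c.A).inv_mem hiA) hyny) e,
    cl_mul c ((NN h c.A).inv_mem hiA) hyny,
    (cl_eq_zero c ((NN h c.A).inv_mem hiA)).2 ((ZZ h c.A c.D).inv_mem hiZ), zero_add,
    cl_conj c hn hz]

theorem xi_psi (c : Ctx h) {a : ↥c.A} {d : ↥c.D} (hr : Rel c.A c.D a d) (v : V c.symm) :
    xi c d (psi c a v) = v :=
  psi_xi c.symm hr.symm v

theorem rel_inv (c : Ctx h) {a : ↥c.A} {d : ↥c.D} (ha : a ≠ 1) (hr : Rel c.A c.D a d) :
    Rel c.A c.D (a⁻¹ : ↥c.A) (d⁻¹ : ↥c.D) := by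
  obtain ⟨C, T⟩ := exists_triple h c.memA c.memD c.pair c.ne
  exact T.rel_inv a.2 (fun e => ha (Subtype.ext e)) d.2 hr

/-- Transport of `[d, ·]` to `NN h A / ZZ`. -/
theorem opD_xi (c : Ctx h) {a : ↥c.A} {d : ↥c.D} (ha : a ≠ 1) (hr : Rel c.A c.D a d) (x : V c) :
    opA c.symm d (xi c d x) = xi c d (opA c a⁻¹ x) := by
  have key : ∀ y, xi c d (opA c a y) = opA c.symm d⁻¹ (xi c d y) := by
    intro y
    set q := psi c a (opA c.symm d⁻¹ (xi c d y)) with hq
    have h1 := psi_xi c (rel_inv c ha hr) y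
    have h2 : ∀ w, psi c a⁻¹ w = -psi c a w - opA c a⁻¹ (psi c a w) := fun w => by
      have h3 := psi_mul c a⁻¹ a w
      rw [inv_mul_cancel, psi_one] at h3
      linear_combination (norm := abel) -h3
    have h4 : xi c d⁻¹ y = -xi c d y - opA c.symm d⁻¹ (xi c d y) := by
      have h3 : psi c.symm (d⁻¹ * d) y =
          opA c.symm d⁻¹ (xi c d y) + xi c d y + xi c d⁻¹ y := psi_mul c.symm d⁻¹ d y
      rw [inv_mul_cancel] at h3
      rw [show psi c.symm (1 : ↥c.D) y = 0 from psi_one c.symm y] at h3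
      linear_combination (norm := abel) -h3
    rw [h2, h4] at h1
    simp only [map_sub, map_neg, psi_xi c hr, ← hq] at h1
    have h5 : q + opA c a⁻¹ y + opA c a⁻¹ q = 0 := by linear_combination (norm := abel) h1
    have h6 := congrArg (opA c a) h5
    simp only [map_add, map_zero, opA_inv] at h6
    have h7 : q = opA c a y := by linear_combination (norm := abel) h5 + h6
    rw [← h7, hq, xi_psi c hr]
  have h3 : ∀ w, opA c.symm d (opA c.symm d⁻¹ w) = -opA c.symm d⁻¹ w - opA c.symm d w :=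
    fun w => opA_inv c.symm d w
  have h1 := h3 (xi c d (x + opA c a⁻¹ x))
  rw [← key] at h1
  simp only [map_add, opA_inv, map_sub, map_neg] at h1
  linear_combination (norm := abel) h1

theorem exists_rel (c : Ctx h) {a : ↥c.A} (ha : a ≠ 1) :
    ∃ d : ↥c.D, d ≠ 1 ∧ Rel c.A c.D a d := by
  obtain ⟨d, hd, hd1, hr⟩ := rel_exists c.pair a.2 fun e => ha (Subtype.ext e)
  exact ⟨⟨d, hd⟩, fun e => hd1 (congrArg Subtype.val e), hr⟩

/-- `a + a⁻¹` acts in the same way for all `a ≠ 1`. -/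
theorem trace_const (c : Ctx h) {a b : ↥c.A} (ha : a ≠ 1) (hb : b ≠ 1) (x : V c) :
    opA c a x + opA c a⁻¹ x = opA c b x + opA c b⁻¹ x := by
  obtain ⟨d, -, hr⟩ := exists_rel c ha
  obtain ⟨e, -, hs⟩ := exists_rel c hb
  set P : V c → V c := fun y => psi c a (xi c e y) with hP
  set Q : V c → V c := fun y => psi c b (xi c d y) with hQ
  have eP : ∀ y, xi c e y = xi c d (P y) := fun y => (xi_psi c hr _).symm
  have eQ : ∀ y, xi c d y = xi c e (Q y) := fun y => (xi_psi c hs _).symm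
  have hA1 : ∀ y, opA c a y = opA c b (P y) := fun y => by
    rw [← psi_comm, psi_xi c hs]
  have hA2 : ∀ y, opA c b y = opA c a (Q y) := fun y => by
    rw [← psi_comm, psi_xi c hr]
  have hB : ∀ y, opA c a⁻¹ (P y) = P (opA c b⁻¹ (Q y)) := fun y => by
    have h1 : opA c.symm d (xi c e y) = opA c.symm e (xi c d y) := psi_comm c.symm d e y
    rw [eP y, eQ y, opD_xi c ha hr, opD_xi c hb hs] at h1
    have h2 := congrArg (psi c a) h1
    rw [psi_xi c hr] at h2
    exact h2
  have key : opA c a (opA c a⁻¹ x) = opA c b (opA c b⁻¹ x) := by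
    calc opA c a (opA c a⁻¹ x) = opA c a⁻¹ (opA c a x) := opA_comm c _ _ _
      _ = opA c b (opA c a⁻¹ (P x)) := by rw [hA1, opA_comm]
      _ = opA c b (P (opA c b⁻¹ (Q x))) := by rw [hB]
      _ = opA c b⁻¹ (opA c a (Q x)) := by rw [← hA1, opA_comm]
      _ = opA c b (opA c b⁻¹ x) := by rw [← hA2, opA_comm]
  rw [opA_inv, opA_inv] at key
  linear_combination (norm := abel) -key

/-- An element of order at least four acts quadratically. -/
theorem sq_zero (c : Ctx h) (a : ↥c.A) (h1 : a ≠ 1) (h2 : a * a ≠ 1) (h3 : a * a * a ≠ 1)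
    (x : V c) : opA c a (opA c a x) = 0 := by
  set A := opA c a with hA
  set B := opA c a⁻¹ with hB
  have hab : ∀ y, A (B y) = -B y - A y := fun y => opA_inv c a y
  have hba : ∀ y, B (A y) = -B y - A y := fun y => (opA_comm c _ _ _).trans (hab y)
  have e2 : ∀ y, A (A y) + A y + A y + (B (B y) + B y + B y) = A y + B y := fun y => by
    have := trace_const c h2 h1 y
    rw [mul_inv_rev, opA_mul, opA_mul] at this
    exact this
  have e3 : ∀ y, A (A (A y)) + A (A y) + A (A y) + A (A y) + A y + A y + A y +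
      (B (B (B y)) + B (B y) + B (B y) + B (B y) + B y + B y + B y) = A y + B y := fun y => by
    have := trace_const c h3 h1 y
    simp only [mul_inv_rev, opA_mul, map_add, ← hA, ← hB] at this
    linear_combination (norm := abel) this
  -- with `w = A + B`: `w² = -3 w` and hence `w = 0`
  have key : ∀ y, A y + B y = 0 := by
    intro y
    have f1 := e2 (A y + B y)
    simp only [map_add, hab, hba, map_neg, map_sub] at f1
    have f2 := e2 y
    have f3 := e3 y
    linear_combination (norm := abel) f1 + f2 + f2 + f2 - f3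
  have h4 := key (A x)
  rw [hba] at h4
  linear_combination (norm := abel) h4 + key x

end Cfsg.Agent.RankOne.Deg
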