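import Cfsg.Agent.Lib.RankOne.DegOps
import Cfsg.Agent.Lib.RankOne.SL2
/-!
In a degenerate class of abstract root subgroups with two commuting members no two members have
the same non-commuting members (given an element of order at least four, or an `SL₂(k)`, `|k| > 3`);
hence all rank one pairs are special.
-/

set_option autoImplicit false

namespace Cfsg.Agent.RankOne.Deg

open Cfsg
open scoped commutatorElement MatrixGroups

variable {G : Type*} [Group G] {S : Set (Subgroup G)} {A B : Subgroup G}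

/-- `n` centralises `A` when `[a, n]` is central for some `a ≠ 1`. -/
theorem commute_of_commutator_mem {h : ClassData S} (c : Ctx h) {n a : G} (hn : n ∈ ker h)
    (ha : a ∈ c.A) (ha1 : a ≠ 1) (hz : ⁅a, n⁆ ∈ ZZ h c.A c.D) : ∀ x ∈ c.A, Commute n x := by
  have hS := h.root.1
  obtain ⟨hcA, hcD⟩ := ZZ_central h c.big c.memA c.memD c.pair c.ne hz
  have hmem : ⁅a, n⁆ * a⁻¹ ∈ conjBy c.A n := by
    rw [(hcA a⁻¹ (le_TT c.memA rfl (c.A.inv_mem ha))).eq,
      show a⁻¹ * ⁅a, n⁆ = n * a⁻¹ * n⁻¹ by rw [commutatorElement_def]; group]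
    exact conj_mem_conjBy n (c.A.inv_mem ha)
  have hzc : ⁅a, n⁆ ∈ Subgroup.centralizer ((c.A ⊔ c.D : Subgroup G) : Set G) := by
    rw [Subgroup.sup_eq_closure, Subgroup.centralizer_closure]
    rintro x (hx | hx)
    · exact (hcA x (le_TT c.memA rfl hx)).symm
    · exact (hcD x (le_TT c.memD rfl hx)).symm
  have hfix := (eq_of_translate hS c.pair c.memD hzc (c.A.inv_mem ha) (inv_ne_one.2 ha1)
    (hS.conj_mem c.A c.memA n) hmem).2
  intro x hx
  rw [← commutatorElement_eq_one_iff_commute]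
  refine eq_one_of_mem_ker h c.memA ?_ ?_
  · rw [commutatorElement_def]
    have := conj_mem_conjBy n hx
    rw [hfix] at this
    exact c.A.mul_mem this (c.A.inv_mem hx)
  · rw [← commutatorElement_inv]
    exact (ker h).inv_mem (commutator_mem_NN h c.memA hx hn).2

/-- `n` commutes with `a` when `[a, n]` centralises `A`. -/
theorem commute_of_commute_commutator (h : ClassData S) (hA : A ∈ S) {n a : G} (hn : n ∈ ker h)
    (ha : a ∈ A) (hc : ∀ x ∈ A, Commute ⁅a, n⁆ x) : Commute a n := by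
  have hb : n * a⁻¹ * n⁻¹ ∈ conjBy A n := conj_mem_conjBy n (A.inv_mem ha)
  have e : n * a⁻¹ * n⁻¹ = a⁻¹ * ⁅a, n⁆ := by rw [commutatorElement_def]; group
  rw [← commutatorElement_eq_one_iff_commute]
  by_cases hfix : conjBy A n = A
  · refine eq_one_of_mem_ker h hA ?_ (commutator_mem_NN h hA ha hn).2
    rw [hfix, e] at hb
    exact (A.mul_mem_cancel_left (A.inv_mem ha)).1 hb
  have hp : IsRankOnePair (conjBy A n) A :=
    pair_same h (h.root.1.conj_mem A hA n) hA (hn A hA) hfix
  by_cases h1 : n * a⁻¹ * n⁻¹ = 1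
  · rw [conj_eq_one_iff] at h1
    rw [inv_eq_one.1 h1, commutatorElement_one_left]
  exact absurd (fun x hx => by
    rw [e]
    exact (((member_comm h.root.1 hA ha hx).inv_left).mul_left (hc x hx)).eq)
    (not_commute hp hb h1)

/-- No twins when some element has order at least four. -/
theorem no_twin_big (h : ClassData S)
    (hbig : ∀ X ∈ S, ∃ a ∈ X, a ≠ 1 ∧ a * a ≠ 1 ∧ a * a * a ≠ 1)
    (hA : A ∈ S) (hB : B ∈ S) (hne : A ≠ B) (e : F S A = F S B) : False := by
  obtain ⟨D, hD, hp, hneF⟩ := exists_partner h hA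
  let c : Ctx h := ⟨A, D, hA, hD, hp, hneF, fun X hX => by
    obtain ⟨a, ha, h1, h2, -⟩ := hbig X hX
    exact ⟨a, ha, h1, h2⟩⟩
  obtain ⟨a, ha, h1, h2, h3⟩ := hbig A hA
  obtain ⟨b, hb, hker⟩ := exists_congr h hA hB e ha
  have hn : b * a⁻¹ ∈ NN h c.A :=
    ⟨Subgroup.mul_mem _ (le_TT hB e.symm hb) (le_TT hA rfl (A.inv_mem ha)), hker⟩
  have hz := sq_zero c ⟨a, ha⟩ (fun he => h1 (congrArg Subtype.val he))
    (fun he => h2 (congrArg Subtype.val he)) (fun he => h3 (congrArg Subtype.val he)) (cl c hn)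
  rw [opA_cl, opA_cl, cl_eq_zero] at hz
  have hm : ⁅a, b * a⁻¹⁆ ∈ ker h := (commutator_mem_NN h hA ha hker).2
  have hac := commute_of_commute_commutator h hA hker ha
    (commute_of_commutator_mem c hm ha h1 hz)
  have hall := commute_of_commutator_mem c hker ha h1
    (by rw [commutatorElement_eq_one_iff_commute.2 hac]; exact Subgroup.one_mem _)
  have hfix : conjBy A (b * a⁻¹) = A := conjBy_of_commute fun x hx => (hall x hx).eq
  rw [conjBy_mul_of_fix (conjBy_of_mem (A.inv_mem ha))] at hfix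
  have hb1 := eq_one_of_mem_of_conjBy_eq (pair_same h hB hA e.symm hne.symm) hb hfix
  rw [hb1, one_mul] at hker
  exact h1 (eq_one_of_mem_ker h hA ha ((inv_mem_iff (H := ker h)).1 hker))

theorem exists_sq_ne_one {k : Type*} [Field k] (hk : 3 < ENat.card k) :
    ∃ r : k, r ≠ 0 ∧ r * r ≠ 1 := by
  classical
  by_contra hno
  push Not at hno
  have hsub : (Set.univ : Set k) ⊆ (({0, 1, -1} : Finset k) : Set k) := fun r _ => by
    rcases eq_or_ne r 0 with rfl | hr
    · simp
    · rcases mul_self_eq_one_iff.1 (hno r hr) with rfl | rfl <;> simp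
  have h1 := Set.encard_le_encard hsub
  rw [Set.encard_univ, Set.encard_coe_eq_coe_finsetCard] at h1
  have h2 : (({0, 1, -1} : Finset k).card : ℕ∞) ≤ 3 := by
    exact_mod_cast Finset.card_le_three
  exact absurd (h1.trans h2) (not_le.2 hk)

/-- No twins when twins generate a perfect `SL₂`. -/
theorem no_twin_sl2 (h : ClassData S) {k : Type*} [Field k] (hA : A ∈ S) (hB : B ∈ S)
    (e : F S A = F S B) {A₀ B₀ : Subgroup G} (hA₀ : A₀ ≤ A) (hB₀ : B₀ ≤ B) (hk : 3 < ENat.card k)
    (hpsl : IsPSL2PairOver k A₀ B₀) : False := by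
  obtain ⟨φ, hrange, hker, hup, -⟩ := hpsl
  obtain ⟨r, hr, hr2⟩ := exists_sq_ne_one hk
  have hsup : ∀ x ∈ A ⊔ B, ∀ y ∈ A ⊔ B,
      Commute (QuotientGroup.mk' (ker h) x) (QuotientGroup.mk' (ker h) y) := by
    have hone : ∀ y, (y ∈ A ∨ y ∈ B) → ∀ x ∈ A ⊔ B,
        Commute (QuotientGroup.mk' (ker h) y) (QuotientGroup.mk' (ker h) x) := by
      intro y hy x hx
      have hle : A ⊔ B ≤ (Subgroup.centralizer {QuotientGroup.mk' (ker h) y}).comap
          (QuotientGroup.mk' (ker h)) := by
        refine sup_le (fun z hz => ?_) (fun z hz => ?_) <;>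
          refine Subgroup.mem_centralizer_singleton_iff.2 ?_ <;> rcases hy with hy | hy
        · exact (mk_commute h hA hA rfl hz hy).eq
        · exact (mk_commute h hA hB e hz hy).eq
        · exact (mk_commute h hA hB e hy hz).symm.eq
        · exact (mk_commute h hB hB rfl hz hy).eq
      exact (Subgroup.mem_centralizer_singleton_iff.1 (hle hx)).symm
    intro x hx y hy
    have hle : A ⊔ B ≤ (Subgroup.centralizer {QuotientGroup.mk' (ker h) y}).comap
        (QuotientGroup.mk' (ker h)) :=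
      sup_le (fun z hz => Subgroup.mem_centralizer_singleton_iff.2 (hone z (Or.inl hz) y hy).eq)
        (fun z hz => Subgroup.mem_centralizer_singleton_iff.2 (hone z (Or.inr hz) y hy).eq)
    exact Subgroup.mem_centralizer_singleton_iff.1 (hle hx)
  have hmem : ∀ g : SL(2, k), φ g ∈ A ⊔ B := fun g =>
    (sup_le_sup hA₀ hB₀) (hrange ▸ ⟨g, rfl⟩)
  let t : SL(2, k) := ⟨!![r, 0; 0, r⁻¹], by simp [Matrix.det_fin_two, hr]⟩
  have hconj : ∀ u : k, t * upSL u = upSL (r * r * u) * t := fun u => by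
    apply Subtype.ext
    show (!![r, 0; 0, r⁻¹] : Matrix (Fin 2) (Fin 2) k) * !![1, u; 0, 1] =
      !![1, r * r * u; 0, 1] * !![r, 0; 0, r⁻¹]
    ext i j
    fin_cases i <;> fin_cases j <;> simp [Matrix.mul_apply, Fin.sum_univ_two]
    all_goals field_simp
  have hin : ∀ u : k, φ (upSL u) = 1 := by
    intro u
    have hd : r * r - 1 ≠ 0 := sub_ne_zero.2 hr2
    have hsplit : upSL u = ⁅t, upSL (u / (r * r - 1))⁆ := by
      rw [commutatorElement_def, hconj, mul_inv_cancel_right, upSL_inv, upSL_mul]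
      congr 1
      rw [show r * r * (u / (r * r - 1)) + -(u / (r * r - 1)) = u / (r * r - 1) * (r * r - 1) by ring,
        div_mul_cancel₀ u hd]
    refine eq_one_of_mem_ker h hA (hA₀ (hup ▸ ⟨upSL u, upSL_mem u, rfl⟩)) ?_
    rw [← QuotientGroup.eq_one_iff, ← QuotientGroup.mk'_apply (ker h), hsplit,
      map_commutatorElement, map_commutatorElement, commutatorElement_eq_one_iff_commute]
    exact hsup _ (hmem t) _ (hmem _)
  have h1 : upSL (1 : k) ∈ Subgroup.center SL(2, k) := hker (hin 1)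
  have h2 := Subgroup.mem_center_iff.1 h1 (loSL 1)
  have := congrArg (fun g : SL(2, k) => (g : Matrix (Fin 2) (Fin 2) k) 0 0) h2
  simp [coe_upSL, coe_loSL] at this

/-- In a degenerate class with two commuting members, pairs without twins are special. -/
theorem special_of_not_twin (h : ClassData S) (hA : A ∈ S) (hB : B ∈ S) (hp : IsRankOnePair A B)
    (hne : F S A ≠ F S B) : IsSpecialRankOnePair A B :=
  (exists_triple h hA hB hp hne).choose_spec.special

end Cfsg.Agent.RankOne.Deg
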