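import Cfsg.Agent.Lib.RankOne.Basic
/-!
Special rank one groups: the partner map `partner A B a = b(a)`, the braid relation, the
swapping element `nElt`, the addition formula for partners, `b(a^n)^n = b(a)`, root extraction.
-/

set_option autoImplicit false

namespace Cfsg.Agent.RankOne

open Cfsg

variable {G : Type*} [Group G] {A B : Subgroup G}

open Classical in
/-- The element `b(a)` of `B` with `b⁻¹ A b = a⁻¹ B a` (and `1` if there is none). -/
noncomputable def partner (A B : Subgroup G) (a : G) : G :=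
  if h : ∃ b ∈ B, b ≠ 1 ∧ conjBy A b⁻¹ = conjBy B a⁻¹ then h.choose else 1

section Pair

variable (h : IsRankOnePair A B) {a : G}
include h

theorem partner_spec (ha : a ∈ A) (ha1 : a ≠ 1) :
    partner A B a ∈ B ∧ partner A B a ≠ 1 ∧ conjBy A (partner A B a)⁻¹ = conjBy B a⁻¹ := by
  have hex := h.cond_left a ha ha1
  rw [partner, dif_pos hex]
  exact hex.choose_spec

theorem partner_mem (ha : a ∈ A) (ha1 : a ≠ 1) : partner A B a ∈ B := (partner_spec h ha ha1).1

theorem partner_ne_one (ha : a ∈ A) (ha1 : a ≠ 1) : partner A B a ≠ 1 := (partner_spec h ha ha1).2.1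

theorem partner_eq (ha : a ∈ A) (ha1 : a ≠ 1) {b : G} (hb : b ∈ B)
    (he : conjBy A b⁻¹ = conjBy B a⁻¹) : partner A B a = b :=
  partner_unique_right h (partner_mem h ha ha1) hb (partner_spec h ha ha1).2.2 he

theorem partner_partner (ha : a ∈ A) (ha1 : a ≠ 1) : partner B A (partner A B a) = a :=
  partner_eq (RankOnePair_symm h) (partner_mem h ha ha1) (partner_ne_one h ha ha1) ha
    (partner_spec h ha ha1).2.2.symm

theorem partner_injOn {a' : G} (ha : a ∈ A) (ha1 : a ≠ 1) (ha' : a' ∈ A) (ha1' : a' ≠ 1)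
    (he : partner A B a = partner A B a') : a = a' := by
  rw [← partner_partner h ha ha1, he, partner_partner h ha' ha1']

end Pair

theorem special_symm (hs : IsSpecialRankOnePair A B) : IsSpecialRankOnePair B A := by
  refine ⟨RankOnePair_symm hs.1, fun b hb hb1 a ha ha1 he => ?_⟩
  have := congrArg Inv.inv (hs.2 a ha ha1 b hb hb1 he.symm)
  simp only [mul_inv_rev, inv_inv, ← mul_assoc] at this
  exact this.symm

/-- `n(a) = a b(a)⁻¹ a`. -/
noncomputable def nElt (A B : Subgroup G) (a : G) : G := a * (partner A B a)⁻¹ * a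

section Special

variable (hs : IsSpecialRankOnePair A B) {a : G} (ha : a ∈ A) (ha1 : a ≠ 1)
include hs ha ha1

theorem braid : a * (partner A B a)⁻¹ * a = (partner A B a)⁻¹ * a * (partner A B a)⁻¹ := by
  obtain ⟨hb, hb1, he⟩ := partner_spec hs.1 ha ha1
  have h := hs.2 a ha ha1 _ hb hb1 he
  have h2 := congrArg (fun t => a * t * (partner A B a)⁻¹) h
  simpa [mul_assoc] using h2

theorem nElt_mem_sup : nElt A B a ∈ A ⊔ B :=
  Subgroup.mul_mem _ (Subgroup.mul_mem _ (Subgroup.mem_sup_left ha)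
    (Subgroup.mem_sup_right (B.inv_mem (partner_mem hs.1 ha ha1)))) (Subgroup.mem_sup_left ha)

theorem nElt_conj_left : nElt A B a * a * (nElt A B a)⁻¹ = (partner A B a)⁻¹ := by
  have h := braid hs ha ha1
  set c := (partner A B a)⁻¹
  calc nElt A B a * a * (nElt A B a)⁻¹ = (a * c * a) * c⁻¹ * a⁻¹ := by
        simp only [nElt, c]; group
    _ = (c * a * c) * c⁻¹ * a⁻¹ := by rw [h]
    _ = c := by group

theorem nElt_conj_right : nElt A B a * (partner A B a)⁻¹ * (nElt A B a)⁻¹ = a := by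
  have h := braid hs ha ha1
  set c := (partner A B a)⁻¹
  calc nElt A B a * c * (nElt A B a)⁻¹ = (c * a * c) * c * (c * a * c)⁻¹ := by
        rw [← h]; rfl
    _ = (c * a * c) * a⁻¹ * c⁻¹ := by group
    _ = (a * c * a) * a⁻¹ * c⁻¹ := by rw [h]
    _ = a := by group

theorem conjBy_nElt_left : conjBy A (nElt A B a) = B := by
  rw [nElt, ← conjBy_conjBy, conjBy_of_mem ha, ← conjBy_conjBy, (partner_spec hs.1 ha ha1).2.2,
    conjBy_conjBy_inv]

theorem conjBy_nElt_right : conjBy B (nElt A B a) = A := by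
  refine eq_of_mem_of_mem hs.1
    (conjBy_mem_unipotents (right_mem_unipotents hs.1) (nElt_mem_sup hs ha ha1))
    (left_mem_unipotents A B) ha1 ?_ ha
  have := conj_mem_conjBy (nElt A B a) (B.inv_mem (partner_mem hs.1 ha ha1))
  rwa [nElt_conj_right hs ha ha1] at this

theorem partner_inv : partner A B a⁻¹ = (partner A B a)⁻¹ := by
  refine partner_eq hs.1 (A.inv_mem ha) (inv_ne_one.2 ha1) (B.inv_mem (partner_mem hs.1 ha ha1)) ?_
  have h := conjBy_nElt_right hs ha ha1
  rw [nElt, braid hs ha ha1, ← conjBy_conjBy, conjBy_of_mem (B.inv_mem (partner_mem hs.1 ha ha1)),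
    ← conjBy_conjBy, conjBy_eq_iff, inv_inv] at h
  rw [inv_inv, inv_inv, h]

theorem conjBy_partner : conjBy A (partner A B a) = conjBy B a := by
  have h := (partner_spec hs.1 (A.inv_mem ha) (inv_ne_one.2 ha1)).2.2
  rwa [partner_inv hs ha ha1, inv_inv, inv_inv] at h

theorem inv_nElt_conj_mem {q : G} (hq : q ∈ B) : (nElt A B a)⁻¹ * q * nElt A B a ∈ A := by
  rwa [← mem_conjBy, conjBy_nElt_left hs ha ha1]

theorem nElt_conj_mem {q : G} (hq : q ∈ B) : nElt A B a * q * (nElt A B a)⁻¹ ∈ A := by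
  have := conj_mem_conjBy (nElt A B a) hq
  rwa [conjBy_nElt_right hs ha ha1] at this

theorem nElt_conj_mem_right {x : G} (hx : x ∈ A) : nElt A B a * x * (nElt A B a)⁻¹ ∈ B := by
  have := conj_mem_conjBy (nElt A B a) hx
  rwa [conjBy_nElt_left hs ha ha1] at this

theorem nElt_inv : nElt A B a⁻¹ = (nElt A B a)⁻¹ := by
  rw [nElt, nElt, partner_inv hs ha ha1]
  group

/-- The addition formula: `b(ya) = b(aq')⁻¹ b(a)` with `q' = n(a)⁻¹ b(y)⁻¹ n(a)`. -/
theorem partner_mul {y : G} (hy : y ∈ A) (hy1 : y ≠ 1) (hya : y * a ≠ 1)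
    (hq : a * ((nElt A B a)⁻¹ * (partner A B y)⁻¹ * nElt A B a) ≠ 1) :
    partner A B (y * a) =
      (partner A B (a * ((nElt A B a)⁻¹ * (partner A B y)⁻¹ * nElt A B a)))⁻¹ * partner A B a := by
  set n := nElt A B a with hn
  set b := partner A B a with hb
  set q' := n⁻¹ * (partner A B y)⁻¹ * n with hq'
  have hbB : b ∈ B := partner_mem hs.1 ha ha1
  have hq'A : q' ∈ A := inv_nElt_conj_mem hs ha ha1 (B.inv_mem (partner_mem hs.1 hy hy1))
  have haq : a * q' ∈ A := A.mul_mem ha hq'A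
  refine partner_eq hs.1 (A.mul_mem hy ha) hya
    (B.mul_mem (B.inv_mem (partner_mem hs.1 haq hq)) hbB) ?_
  have hinv : a⁻¹ = b⁻¹ * a * n⁻¹ := by
    have h := braid hs ha ha1
    rw [← hb] at h
    calc a⁻¹ = a⁻¹ * ((a * b⁻¹ * a) * (b * a⁻¹ * b)) := by rw [h]; group
      _ = b⁻¹ * a * (b⁻¹ * a * b⁻¹)⁻¹ := by group
      _ = b⁻¹ * a * n⁻¹ := by rw [hn, nElt, ← hb, h]
  have hAn : conjBy A n⁻¹ = B := by
    rw [conjBy_eq_iff, inv_inv, conjBy_nElt_right hs ha ha1]
  symm
  calc conjBy B (y * a)⁻¹ = conjBy A (a⁻¹ * (partner A B y)⁻¹) := by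
        rw [← conjBy_conjBy, (partner_spec hs.1 hy hy1).2.2, conjBy_conjBy, mul_inv_rev]
    _ = conjBy A (b⁻¹ * ((a * q') * n⁻¹)) := by
        rw [hinv, hq']; congr 1; group
    _ = conjBy A ((partner A B (a * q'))⁻¹ * b)⁻¹ := by
        rw [← conjBy_conjBy, ← conjBy_conjBy A n⁻¹, hAn, ← conjBy_partner hs haq hq, conjBy_conjBy,
          mul_inv_rev, inv_inv]

theorem partner_pow_eq_one {n : ℕ} (hn : a ^ n = 1) : partner A B a ^ n = 1 := by
  have h := congrArg (MulAut.conj (nElt A B a)) hn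
  rw [map_pow, map_one] at h
  rw [MulAut.conj_apply, nElt_conj_left hs ha ha1, inv_pow, inv_eq_one] at h
  exact h

theorem pow_eq_one_of_partner {n : ℕ} (hn : partner A B a ^ n = 1) : a ^ n = 1 := by
  have h := congrArg (MulAut.conj (nElt A B a)) (show (partner A B a)⁻¹ ^ n = 1 by
    rw [inv_pow, hn, inv_one])
  rw [map_pow, map_one] at h
  rwa [MulAut.conj_apply, nElt_conj_right hs ha ha1] at h

end Special

theorem comm_of_abelian {H : Subgroup G} (hH : IsMulCommutative H) {x y : G} (hx : x ∈ H)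
    (hy : y ∈ H) : x * y = y * x :=
  congrArg Subtype.val (hH.is_comm.comm (⟨x, hx⟩ : H) ⟨y, hy⟩)

/-- `b(a^n)^n = b(a)`. -/
theorem partner_pow (hs : IsSpecialRankOnePair A B) (hab : HasAbelianUnipotents A B) (n : ℕ) :
    ∀ a ∈ A, a ^ n ≠ 1 → partner A B (a ^ n) ^ n = partner A B a := by
  induction n with
  | zero => intro a _ h; simp at h
  | succ n ih =>
    intro a ha hne
    have ha1 : a ≠ 1 := fun e => hne (by simp [e])
    by_cases hy1 : a ^ n = 1
    · have he : a ^ (n + 1) = a := by rw [pow_succ, hy1, one_mul]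
      rw [he, pow_succ, partner_pow_eq_one hs ha ha1 hy1, one_mul]
    · set y := a ^ n with hy
      have hyA : y ∈ A := A.pow_mem ha n
      set N := nElt A B a
      set q' := N⁻¹ * (partner A B y)⁻¹ * N with hq'
      have hq'A : q' ∈ A := inv_nElt_conj_mem hs ha ha1 (B.inv_mem (partner_mem hs.1 hyA hy1))
      have hq'n : q' ^ n = a := by
        have e : q' = MulAut.conj N⁻¹ (partner A B y)⁻¹ := by
          rw [MulAut.conj_apply, inv_inv]
        rw [e, ← map_pow, inv_pow, ih a ha hy1, MulAut.conj_apply, inv_inv]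
        rw [← nElt_conj_left hs ha ha1]
        simp only [N]
        group
      have hpow : (a * q') ^ n = a ^ (n + 1) := by
        rw [(show Commute a q' from comm_of_abelian hab.1 ha hq'A).mul_pow, hq'n, ← pow_succ]
      have hq : a * q' ≠ 1 := fun e => hne (by rw [← hpow, e, one_pow])
      have hmul := partner_mul hs ha ha1 hyA hy1 (by rwa [hy, ← pow_succ]) hq
      rw [hy, ← pow_succ] at hmul
      have hih := ih (a * q') (A.mul_mem ha hq'A) (by rw [hpow]; exact hne)
      rw [hpow] at hih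
      rw [← hih, eq_inv_mul_iff_mul_eq] at hmul
      rw [pow_succ]
      exact hmul

theorem exists_pow_eq (hs : IsSpecialRankOnePair A B) (hab : HasAbelianUnipotents A B) {n : ℕ}
    {a : G} (ha : a ∈ A) (hne : a ^ n ≠ 1) : ∃ x ∈ A, x ^ n = a := by
  have ha1 : a ≠ 1 := fun e => hne (by simp [e])
  have hb := partner_mem hs.1 ha ha1
  have hbn : partner A B a ^ n ≠ 1 := fun e => hne (pow_eq_one_of_partner hs ha ha1 e)
  exact ⟨_, partner_mem (RankOnePair_symm hs.1) (B.pow_mem hb n) hbn,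
    (partner_pow (special_symm hs) ⟨hab.2, hab.1⟩ n _ hb hbn).trans (partner_partner hs.1 ha ha1)⟩

theorem pow_mul_self_ne_one (hs : IsSpecialRankOnePair A B) (hab : HasAbelianUnipotents A B)
    {n : ℕ} {u : G} (hu : u ∈ A) (hne : u ^ n ≠ 1) : u ^ (n * n) ≠ 1 := by
  intro e
  have hu1 : u ≠ 1 := fun e => hne (by simp [e])
  rw [pow_mul] at e
  have h := partner_pow_eq_one hs (A.pow_mem hu n) hne e
  rw [partner_pow hs hab n u hu hne] at h
  exact partner_ne_one hs.1 hu hu1 h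

/-- The unipotent subgroups are elementary abelian or torsion-free and divisible. -/
theorem elementary_or_divisible (hs : IsSpecialRankOnePair A B) (hab : HasAbelianUnipotents A B) :
    (∃ p : ℕ, p.Prime ∧ IsElementaryAbelian p A) ∨
    ((∀ a ∈ A, a ≠ 1 → ¬ IsOfFinOrder a) ∧ ∀ a ∈ A, ∀ n : ℕ, 0 < n → ∃ c ∈ A, c ^ n = a) := by
  by_cases htf : ∀ a ∈ A, a ≠ 1 → ¬ IsOfFinOrder a
  · refine Or.inr ⟨htf, fun a ha n hn => ?_⟩
    rcases eq_or_ne a 1 with rfl | ha1
    · exact ⟨1, A.one_mem, one_pow n⟩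
    · exact exists_pow_eq hs hab ha fun e => htf a ha ha1 (isOfFinOrder_iff_pow_eq_one.2 ⟨n, hn, e⟩)
  · push Not at htf
    obtain ⟨a, ha, ha1, hfin⟩ := htf
    obtain ⟨p, hp, hdvd⟩ := Nat.exists_prime_and_dvd (orderOf_eq_one_iff.not.2 ha1)
    refine Or.inl ⟨p, hp, hab.1, ?_⟩
    obtain ⟨t, ht, ht1, htp⟩ : ∃ t ∈ A, t ≠ 1 ∧ t ^ p = 1 := by
      obtain ⟨m, hm⟩ := hdvd
      have hpos := hfin.orderOf_pos
      refine ⟨a ^ m, A.pow_mem ha m, fun e => ?_, by rw [← pow_mul, mul_comm, ← hm, pow_orderOf_eq_one]⟩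
      have hdvd' := orderOf_dvd_of_pow_eq_one e
      have hmpos : 0 < m := Nat.pos_of_ne_zero fun e0 => by rw [e0, mul_zero] at hm; omega
      have := Nat.le_of_dvd hmpos hdvd'
      have := hp.two_le
      nlinarith
    intro x hx
    by_contra hxp
    have htx : (t * x) ^ p ≠ 1 := by
      rwa [(show Commute t x from comm_of_abelian hab.1 ht hx).mul_pow, htp, one_mul]
    obtain ⟨w, hw, hwp⟩ := exists_pow_eq hs hab (A.mul_mem ht hx) htx
    obtain ⟨v, hv, hvp⟩ := exists_pow_eq hs hab hx hxp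
    have hu : (w * v⁻¹) ^ p = t := by
      rw [(show Commute w v⁻¹ from comm_of_abelian hab.1 hw (A.inv_mem hv)).mul_pow, hwp, inv_pow,
        hvp, mul_inv_cancel_right]
    refine pow_mul_self_ne_one hs hab (A.mul_mem hw (A.inv_mem hv)) ?_ ?_ (n := p)
    · rwa [hu]
    · rw [pow_mul, hu, htp]

end Cfsg.Agent.RankOne
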