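import Cfsg.Agent.Lib.RankOne.RootSet
import Cfsg.Agent.Lib.RankOne.Special
/-!
Degenerate sets of abstract root subgroups: a triple `A, C, P` with `⁅A, C⁆ = 1` and `(A, P)`,
`(C, P)` rank one pairs forces the pair `(A, P)` to be special.

* `Rel A P a d` : `a P a⁻¹ = d A d⁻¹`.
* `special_of_inv` : a pair is special as soon as `Rel a d → Rel a⁻¹ d⁻¹`.
* `Triple.commute`, `Triple.transport`, `Triple.special`.
-/

set_option autoImplicit false

namespace Cfsg.Agent.RankOne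

open Cfsg

variable {G : Type*} [Group G] {S : Set (Subgroup G)} {A C P : Subgroup G}

/-- `a P a⁻¹ = d A d⁻¹`. -/
def Rel (A P : Subgroup G) (a d : G) : Prop := conjBy P a = conjBy A d

theorem rel_exists (h : IsRankOnePair A P) {a : G} (ha : a ∈ A) (ha1 : a ≠ 1) :
    ∃ d ∈ P, d ≠ 1 ∧ Rel A P a d := by
  obtain ⟨b, hb, hb1, he⟩ := h.cond_left a⁻¹ (A.inv_mem ha) (inv_ne_one.2 ha1)
  rw [inv_inv] at he
  exact ⟨b⁻¹, P.inv_mem hb, inv_ne_one.2 hb1, he.symm⟩

theorem rel_exists' (h : IsRankOnePair A P) {d : G} (hd : d ∈ P) (hd1 : d ≠ 1) :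
    ∃ a ∈ A, a ≠ 1 ∧ Rel A P a d := by
  obtain ⟨a, ha, ha1, he⟩ := exists_conjBy_eq h hd hd1
  exact ⟨a, ha, ha1, he.symm⟩

theorem rel_ne_one (h : IsRankOnePair A P) {a d : G} (ha : a ∈ A) (hr : Rel A P a d) : d ≠ 1 := by
  rintro rfl
  rw [Rel, conjBy_one] at hr
  exact conjBy_right_ne_left h ha hr

theorem commute_conjBy {X Y : Subgroup G} (h : ⁅X, Y⁆ = ⊥) (g : G) :
    ⁅conjBy X g, conjBy Y g⁆ = ⊥ := by
  rw [← conjBy_commutator, h, conjBy_bot]

theorem conjBy_mul_of_fix {X : Subgroup G} {g x : G} (h : conjBy X g = X) :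
    conjBy X (x * g) = conjBy X x := by
  rw [← conjBy_conjBy, h]

/-- Speciality is the inverse property. -/
theorem special_of_inv (h : IsRankOnePair A P)
    (hinv : ∀ a ∈ A, a ≠ 1 → ∀ d ∈ P, Rel A P a d → Rel A P a⁻¹ d⁻¹) :
    IsSpecialRankOnePair A P := by
  refine ⟨h, fun a ha ha1 b hb hb1 he => ?_⟩
  have hr : conjBy P a = conjBy A b := by
    have := hinv a⁻¹ (A.inv_mem ha) (inv_ne_one.2 ha1) b⁻¹ (P.inv_mem hb) he.symm
    rw [inv_inv, inv_inv] at this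
    exact this
  have hD : conjBy A b⁻¹ ∈ unipotentSubgroups A P :=
    conjBy_mem_unipotents (left_mem_unipotents A P) (Subgroup.mem_sup_right (P.inv_mem hb))
  have hne : conjBy A b⁻¹ ≠ P := conjBy_right_ne_left (RankOnePair_symm h) (P.inv_mem hb)
  have hDP := (isRankOnePair_of_mem h hD (right_mem_unipotents h) hne).1
  refine eq_of_conjBy_eq hDP ?_ ?_ ?_
  · have := conj_mem_conjBy b⁻¹ ha
    rwa [inv_inv] at this
  · rw [he]
    have := conj_mem_conjBy a⁻¹ (P.inv_mem hb)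
    rwa [inv_inv] at this
  · rw [conjBy_mul_of_fix (conjBy_of_mem hb), ← conjBy_conjBy P a b⁻¹, hr, conjBy_inv_conjBy,
      ← conjBy_conjBy P a (a⁻¹ * b⁻¹), hr, conjBy_conjBy,
      show a⁻¹ * b⁻¹ * b = a⁻¹ by group, conjBy_of_mem (A.inv_mem ha)]

/-- Two commuting members with a common rank one partner. -/
structure Triple (S : Set (Subgroup G)) (A C P : Subgroup G) : Prop where
  root : IsRootSubgroupSet S
  memA : A ∈ S
  memC : C ∈ S
  memP : P ∈ S
  ne : A ≠ C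
  comm : ⁅A, C⁆ = ⊥
  pairA : IsRankOnePair A P
  pairC : IsRankOnePair C P

namespace Triple

variable (T : Triple S A C P) {a c d : G}
include T

theorem fixA (ha : a ∈ A) (hc : c ∈ C) : conjBy A (a * c) = A := by
  rw [← conjBy_conjBy,
    conjBy_of_commute fun x hx => (elem_commute T.comm hx hc).symm.eq, conjBy_of_mem ha]

theorem fixC (ha : a ∈ A) (hc : c ∈ C) : conjBy C (a * c) = C := by
  rw [← conjBy_conjBy, conjBy_of_mem hc,
    conjBy_of_commute fun x hx => (elem_commute T.comm ha hx).eq]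

/-- `P` commutes with its conjugate by `a⁻¹ c`. -/
theorem commute (hr : Rel A P a d) (hr' : Rel C P c d) :
    ⁅P, conjBy P (a⁻¹ * c)⁆ = ⊥ := by
  have h := commute_conjBy (commute_conjBy T.comm d) a⁻¹
  rw [← hr, ← hr', conjBy_inv_conjBy, conjBy_conjBy] at h
  exact h

theorem translate_ne (hr : Rel A P a d) (hr' : Rel C P c d) :
    conjBy P (a⁻¹ * c) ≠ P := by
  intro he
  apply T.ne
  have h1 : conjBy P c = conjBy P a := by
    have := congrArg (fun X => conjBy X a) he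
    simp only [conjBy_conjBy, mul_inv_cancel_left] at this
    exact this
  rw [hr, hr', conjBy_inj] at h1
  exact h1.symm

theorem rel_of_commute (ha : a ∈ A) (hc : c ∈ C) (hd : d ∈ P) (ha1 : a ≠ 1) (hr : Rel A P a d)
    (h : ⁅P, conjBy P (a⁻¹ * c)⁆ = ⊥) : Rel C P c d := by
  rcases eq_or_ne c 1 with rfl | hc1
  · exfalso
    rw [mul_one] at h
    obtain ⟨d', -, -, hr'⟩ := rel_exists T.pairA (A.inv_mem ha) (inv_ne_one.2 ha1)
    have hmem : conjBy P a⁻¹ ∈ unipotentSubgroups A P :=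
      conjBy_mem_unipotents (right_mem_unipotents T.pairA) (Subgroup.mem_sup_left (A.inv_mem ha))
    have hne : P ≠ conjBy P a⁻¹ := fun e => ha1 (inv_eq_one.1
      (eq_one_of_mem_of_conjBy_eq T.pairA (A.inv_mem ha) e.symm))
    exact commutator_ne_bot
      (isRankOnePair_of_mem T.pairA (right_mem_unipotents T.pairA) hmem hne).1 h
  obtain ⟨d', hd', -, hr'⟩ := rel_exists T.pairC hc hc1
  have h2 := commute_conjBy (commute_conjBy h a) d⁻¹
  rw [conjBy_conjBy P (a⁻¹ * c) a, mul_inv_cancel_left, hr, hr', conjBy_inv_conjBy,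
    conjBy_conjBy] at h2
  -- `A` commutes with `C` and with a conjugate of `C` by an element of `P`
  rcases eq_or_ne (d⁻¹ * d') 1 with he | he
  · rw [inv_mul_eq_one] at he
    rw [he]
    exact hr'
  exfalso
  obtain ⟨c', hc', -, hr''⟩ := rel_exists' T.pairC (P.mul_mem (P.inv_mem hd) hd') he
  rw [← hr''] at h2
  have h3 := commute_conjBy h2 c'⁻¹
  rw [conjBy_inv_conjBy,
    conjBy_of_commute fun x hx => (elem_commute T.comm hx (C.inv_mem hc')).symm.eq] at h3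
  exact commutator_ne_bot T.pairA h3

theorem rel_right_exists (hd : d ∈ P) (hd1 : d ≠ 1) : ∃ c ∈ C, c ≠ 1 ∧ Rel C P c d :=
  rel_exists' T.pairC hd hd1

/-- The element of `C(P)` carrying `A` to `C`. -/
theorem transport_eq (ha : a ∈ A) (hc : c ∈ C) (hr : Rel A P a d) (hr' : Rel C P c d) :
    C = conjBy A (d⁻¹ * (a⁻¹ * c * d * (a⁻¹ * c)⁻¹)) := by
  set u := a⁻¹ * c with hu
  have hcu : c = u * a := by
    rw [hu, mul_assoc, (elem_commute T.comm ha hc).eq.symm, inv_mul_cancel_left]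
  have h1 : conjBy C d = conjBy A (u * d) := by
    rw [← hr', hcu, ← conjBy_conjBy, hr, conjBy_conjBy]
  have hfix : conjBy A u⁻¹ = A := conjBy_inv_eq_self_iff.2 (T.fixA (A.inv_mem ha) hc)
  rw [conjBy_eq_iff, conjBy_conjBy] at h1
  rw [← mul_assoc d⁻¹ (u * d) u⁻¹, conjBy_mul_of_fix hfix]
  exact h1

theorem exists_transport : ∃ v : G, (∀ x ∈ P, Commute v x) ∧ conjBy A v = C := by
  obtain ⟨a, ha, ha1⟩ := exists_ne_one T.pairA
  obtain ⟨d, hd, hd1, hr⟩ := rel_exists T.pairA ha ha1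
  obtain ⟨c, hc, -, hr'⟩ := T.rel_right_exists hd hd1
  refine ⟨_, fun x hx => Commute.mul_left ?_ ?_, (T.transport_eq ha hc hr hr').symm⟩
  · exact ((member_comm T.root T.memP hd hx)).inv_left
  · exact (elem_commute (T.commute hr hr') hx (conj_mem_conjBy _ hd)).symm

/-- The inverse property. -/
theorem rel_inv (ha : a ∈ A) (ha1 : a ≠ 1) (hd : d ∈ P) (hr : Rel A P a d) :
    Rel A P a⁻¹ d⁻¹ := by
  have hd1 := rel_ne_one T.pairA ha hr
  obtain ⟨c, hc, -, hr'⟩ := T.rel_right_exists hd hd1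
  obtain ⟨d₂, hd₂, -, hr₂⟩ := rel_exists T.pairA (A.inv_mem ha) (inv_ne_one.2 ha1)
  set u := a⁻¹ * c with hu
  have hu' : a⁻¹⁻¹ * c⁻¹ = u⁻¹ := by
    rw [hu, mul_inv_rev, inv_inv, (elem_commute T.comm ha (C.inv_mem hc)).eq]
  have hPE : ⁅P, conjBy P u⁻¹⁆ = ⊥ := by
    have h := commute_conjBy (T.commute hr hr') u⁻¹
    rw [conjBy_inv_conjBy] at h
    rwa [Subgroup.commutator_comm]
  have hr₂' : Rel C P c⁻¹ d₂ :=
    T.rel_of_commute (A.inv_mem ha) (C.inv_mem hc) hd₂ (inv_ne_one.2 ha1) hr₂ (by rwa [hu'])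
  have hx := T.transport_eq (A.inv_mem ha) (C.inv_mem hc) hr₂ hr₂'
  rw [hu', inv_inv] at hx
  have hfixA : conjBy A u = A := T.fixA (A.inv_mem ha) hc
  have hy : C = conjBy A (u⁻¹ * d⁻¹ * u * d) := by
    have h := congrArg (fun X => conjBy X u⁻¹) (T.transport_eq ha hc hr hr')
    simp only [← hu] at h
    rw [conjBy_inv_eq_self_iff.2 (T.fixC (A.inv_mem ha) hc), conjBy_conjBy,
      show u⁻¹ * (d⁻¹ * (u * d * u⁻¹)) = u⁻¹ * d⁻¹ * u * d * u⁻¹ by group,
      conjBy_mul_of_fix (conjBy_inv_eq_self_iff.2 hfixA)] at h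
    exact h
  have hmem : ∀ x ∈ P, u⁻¹ * x * u ∈ conjBy P u⁻¹ := fun x hx => by
    simpa using conj_mem_conjBy u⁻¹ hx
  have hcd : Commute d₂ (u⁻¹ * d * u) := elem_commute hPE hd₂ (hmem d hd)
  have heq := congrArg (fun X => conjBy X (d₂ * (u⁻¹ * d * u))) (hy.symm.trans hx)
  simp only [conjBy_conjBy] at heq
  rw [show d₂ * (u⁻¹ * d * u) * (u⁻¹ * d⁻¹ * u * d) = d₂ * d by group,
    show d₂ * (u⁻¹ * d * u) * (d₂⁻¹ * (u⁻¹ * d₂ * u)) = u⁻¹ * (d * d₂) * u by
      rw [hcd.eq]; group] at heq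
  rw [(member_comm T.root T.memP hd₂ hd).eq, conjBy_mul_of_fix hfixA] at heq
  by_cases hs : d * d₂ = 1
  · rwa [eq_inv_of_mul_eq_one_right hs] at hr₂
  exfalso
  obtain ⟨a', ha', -, hra⟩ := rel_exists' T.pairA (P.mul_mem hd hd₂) hs
  rw [← conjBy_conjBy A (d * d₂) u⁻¹, ← hra, conjBy_conjBy] at heq
  have hcu : u⁻¹ * a' = a' * u⁻¹ := by
    have h1 : Commute a' u :=
      ((member_comm T.root T.memA ha' (A.inv_mem ha))).mul_right (elem_commute T.comm ha' hc)
    exact h1.inv_right.symm.eq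
  rw [hcu, ← conjBy_conjBy P u⁻¹ a', conjBy_inj] at heq
  exact T.translate_ne hr hr' (conjBy_inv_eq_self_iff.1 heq.symm)

theorem special : IsSpecialRankOnePair A P :=
  special_of_inv T.pairA fun _ ha ha1 _ hd hr => T.rel_inv ha ha1 hd hr

end Triple

end Cfsg.Agent.RankOne
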