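import Cfsg.Agent.Lib.QuadPair.SLRing

/-!
`genPairR_eq_top_of_infinite` : `genPairR k α` contains all unitriangular matrices of `SL₂(k[α])` for an infinite
field `k` of characteristic not `2`, `k[α]` a finite dimensional algebra and `α` a unit; `genPair_eq_top_of_infinite`
is the case of a field. A word mapping `e₂` into the line of `e₁` is found by a three term recurrence of
orthogonal elements for a form `(x, y) ↦ τ (u x y)`; varying `u` gives enough diagonal elements.
-/

set_option autoImplicit false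

namespace Cfsg.Agent.RankOne.Dickson

open Matrix
open scoped MatrixGroups

open Cfsg.Agent.QuadPair

variable {k L : Type*} [Field k] [CommRing L] [Nontrivial L] [Algebra k L] (pb : PowerBasis k L)

/-- The last coordinate. -/
noncomputable def tau (x : L) : k :=
  pb.basis.repr x ⟨pb.dim - 1, Nat.sub_lt pb.dim_pos Nat.one_pos⟩

theorem tau_add (x y : L) : tau pb (x + y) = tau pb x + tau pb y := by simp [tau]

theorem tau_sub (x y : L) : tau pb (x - y) = tau pb x - tau pb y := by simp [tau]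

theorem tau_smul (c : k) (x : L) : tau pb (c • x) = c * tau pb x := by simp [tau]

theorem tau_zero : tau pb 0 = 0 := by simp [tau]

theorem tau_sum {ι : Type*} (s : Finset ι) (f : ι → L) : tau pb (∑ i ∈ s, f i) = ∑ i ∈ s, tau pb (f i) := by
  simp [tau, map_sum, Finset.sum_apply']

theorem tau_gen_pow {i : ℕ} (h : i < pb.dim) :
    tau pb (pb.gen ^ i) = if i = pb.dim - 1 then 1 else 0 := by
  rw [show pb.gen ^ i = pb.basis ⟨i, h⟩ by simp [pb.coe_basis], tau, Module.Basis.repr_self,
    Finsupp.single_apply]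
  simp [Fin.ext_iff]

/-- The Gram matrix of `(x, y) ↦ τ (u x y)` on the first `m` powers. -/
noncomputable def han (u : L) (m : ℕ) : Matrix (Fin m) (Fin m) k :=
  Matrix.of fun i j => tau pb (u * (pb.gen ^ (i : ℕ) * pb.gen ^ (j : ℕ)))

/-- The span of the first `m` powers. -/
noncomputable def W (m : ℕ) : Submodule k L :=
  Submodule.span k (Set.range fun i : Fin m => pb.gen ^ (i : ℕ))

theorem W_dim : W pb pb.dim = ⊤ := by
  rw [W, ← pb.coe_basis]; exact pb.basis.span_eq

theorem pow_mem_W {i m : ℕ} (h : i < m) : pb.gen ^ i ∈ W pb m := Submodule.subset_span ⟨⟨i, h⟩, rfl⟩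

theorem W_mono {m m' : ℕ} (h : m ≤ m') : W pb m ≤ W pb m' := by
  rw [W, Submodule.span_le]
  rintro _ ⟨i, rfl⟩
  exact pow_mem_W pb (i.2.trans_le h)

theorem gen_mul_mem_W {m : ℕ} {x : L} (hx : x ∈ W pb m) : pb.gen * x ∈ W pb (m + 1) := by
  have : W pb m ≤ (W pb (m + 1)).comap (LinearMap.mulLeft k pb.gen) := by
    rw [W, Submodule.span_le]
    rintro _ ⟨i, rfl⟩
    show pb.gen * pb.gen ^ (i : ℕ) ∈ W pb (m + 1)
    rw [← pow_succ']
    exact pow_mem_W pb (by omega)
  exact this hx

theorem W_split {m : ℕ} {x : L} (hx : x ∈ W pb (m + 1)) : ∃ a : k, x - a • pb.gen ^ m ∈ W pb m := by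
  have : W pb (m + 1) ≤ W pb m ⊔ Submodule.span k {pb.gen ^ m} := by
    rw [W, Submodule.span_le]
    rintro _ ⟨i, rfl⟩
    rcases Nat.lt_succ_iff_lt_or_eq.1 i.2 with h | h
    · exact Submodule.mem_sup_left (pow_mem_W pb h)
    · exact Submodule.mem_sup_right (Submodule.mem_span_singleton.2 ⟨1, by simp [h]⟩)
  obtain ⟨w, hw, v, hv, rfl⟩ := Submodule.mem_sup.1 (this hx)
  obtain ⟨a, rfl⟩ := Submodule.mem_span_singleton.1 hv
  exact ⟨a, by simpa using hw⟩

theorem eq_zero_of_orth {u : L} {m : ℕ} (hu : (han pb u m).det ≠ 0) {z : L} (hz : z ∈ W pb m)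
    (h : ∀ j < m, tau pb (u * (z * pb.gen ^ j)) = 0) : z = 0 := by
  obtain ⟨c, rfl⟩ := (Submodule.mem_span_range_iff_exists_fun k).1 hz
  have hc : c = 0 := by
    refine Matrix.eq_zero_of_mulVec_eq_zero hu (funext fun j => ?_)
    have := h j j.2
    simp only [Finset.sum_mul, Finset.mul_sum, tau_sum, smul_mul_assoc, mul_smul_comm, tau_smul] at this
    simp only [Matrix.mulVec, dotProduct, han, Matrix.of_apply, Pi.zero_apply]
    rw [← this]
    exact Finset.sum_congr rfl fun i _ => by rw [mul_comm (c i), mul_comm (pb.gen ^ (j : ℕ))]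
  simp [hc]

/-- The orthogonal element with leading term `α ^ m`. -/
structure IsOrth (u : L) (m : ℕ) (x : L) : Prop where
  lead : x - pb.gen ^ m ∈ W pb m
  orth : ∀ j < m, tau pb (u * (x * pb.gen ^ j)) = 0

theorem exists_orth {u : L} {m : ℕ} (hu : (han pb u m).det ≠ 0) : ∃ x, IsOrth pb u m x := by
  set b : Fin m → k := fun j => tau pb (u * (pb.gen ^ m * pb.gen ^ (j : ℕ)))
  set c : Fin m → k := (han pb u m)⁻¹ *ᵥ b
  refine ⟨pb.gen ^ m - ∑ i, c i • pb.gen ^ (i : ℕ), ?_, fun j hj => ?_⟩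
  · rw [sub_sub_cancel_left]
    exact neg_mem (Submodule.sum_mem _ fun i _ => Submodule.smul_mem _ _ (pow_mem_W pb i.2))
  · have hc : han pb u m *ᵥ c = b := by
      rw [Matrix.mulVec_mulVec, Matrix.mul_nonsing_inv _ (Ne.isUnit hu), Matrix.one_mulVec]
    have := congrFun hc ⟨j, hj⟩
    simp only [Matrix.mulVec, dotProduct, han, Matrix.of_apply, b] at this
    simp only [sub_mul, mul_sub, tau_sub, Finset.sum_mul, Finset.mul_sum, tau_sum, smul_mul_assoc,
      mul_smul_comm, tau_smul]
    rw [sub_eq_zero, ← this]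
    exact Finset.sum_congr rfl fun i _ => by rw [mul_comm (c i), mul_comm (pb.gen ^ j)]

theorem pow_notMem_W {m : ℕ} (h : m < pb.dim) : pb.gen ^ m ∉ W pb m := fun hm => by
  have hli := pb.basis.linearIndependent
  refine hli.notMem_span_image (s := {i : Fin pb.dim | (i : ℕ) < m}) (x := ⟨m, h⟩) (by simp) ?_
  rw [pb.coe_basis]
  refine (Submodule.span_le.2 ?_) hm
  rintro _ ⟨i, rfl⟩
  exact Submodule.subset_span ⟨⟨i, i.2.trans h⟩, i.2, rfl⟩

theorem IsOrth.ne_zero {u : L} {m : ℕ} {x : L} (h : IsOrth pb u m x) (hm : m < pb.dim) : x ≠ 0 := by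
  intro e
  have := h.lead
  rw [e, zero_sub, Submodule.neg_mem_iff] at this
  exact pow_notMem_W pb hm this

theorem IsOrth.mem {u : L} {m : ℕ} {x : L} (h : IsOrth pb u m x) : x ∈ W pb (m + 1) := by
  have := add_mem (W_mono pb (Nat.le_succ m) h.lead) (pow_mem_W pb (Nat.lt_succ_self m))
  simpa using this

/-- All leading minors of the forms of `u` and `u α` are non-zero. -/
def Good (u : L) : Prop :=
  ∀ m ≤ pb.dim, (han pb u m).det ≠ 0 ∧ (han pb (u * pb.gen) m).det ≠ 0

theorem eq_smul_of_orth {v : L} {m : ℕ} (hv : (han pb v m).det ≠ 0) {x D : L} (hx : IsOrth pb v m x)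
    (hD : D ∈ W pb (m + 1)) (h : ∀ j < m, tau pb (v * (D * pb.gen ^ j)) = 0) : ∃ a : k, D = a • x := by
  obtain ⟨a, ha⟩ := W_split pb hD
  refine ⟨a, sub_eq_zero.1 (eq_zero_of_orth pb hv ?_ fun j hj => ?_)⟩
  · have := sub_mem ha (Submodule.smul_mem _ a hx.lead)
    rwa [smul_sub, sub_sub_sub_cancel_right] at this
  · rw [sub_mul, mul_sub, tau_sub, h j hj, smul_mul_assoc, mul_smul_comm, tau_smul, hx.orth j hj,
      mul_zero, sub_zero]

theorem step_x {u : L} (hu : Good pb u) {m : ℕ} (hm : m < pb.dim) {x y x' : L} (hx : IsOrth pb u m x)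
    (hy : IsOrth pb (u * pb.gen) m y) (hx' : IsOrth pb u (m + 1) x') :
    ∃ a : k, a ≠ 0 ∧ x' = pb.gen * y + a • x := by
  have hD : x' - pb.gen * y ∈ W pb (m + 1) := by
    have := sub_mem hx'.lead (gen_mul_mem_W pb hy.lead)
    rw [mul_sub, ← pow_succ'] at this
    simpa using this
  have hy' : ∀ j < m, tau pb (u * (pb.gen * y * pb.gen ^ j)) = 0 := fun j hj => by
    have := hy.orth j hj
    rw [show u * (pb.gen * y * pb.gen ^ j) = u * pb.gen * (y * pb.gen ^ j) by ring]
    exact this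
  obtain ⟨a, ha⟩ := eq_smul_of_orth pb (hu m hm.le).1 hx hD fun j hj => by
    rw [sub_mul, mul_sub, tau_sub, hx'.orth j (by omega), hy' j hj, sub_zero]
  refine ⟨a, fun e => hy.ne_zero pb hm ?_, by rw [← ha]; ring⟩
  rw [e, zero_smul, sub_eq_zero] at ha
  refine eq_zero_of_orth pb (hu (m + 1) hm).2 (hy.mem pb) fun j hj => ?_
  rw [show u * pb.gen * (y * pb.gen ^ j) = u * (pb.gen * y * pb.gen ^ j) by ring, ← ha]
  exact hx'.orth j hj

theorem step_y {u : L} (hu : Good pb u) {m : ℕ} (hm : m + 1 < pb.dim) {y x' y' : L}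
    (hy : IsOrth pb (u * pb.gen) m y) (hx' : IsOrth pb u (m + 1) x')
    (hy' : IsOrth pb (u * pb.gen) (m + 1) y') : ∃ b : k, b ≠ 0 ∧ y' = x' + b • y := by
  have hD : y' - x' ∈ W pb (m + 1) := by simpa using sub_mem hy'.lead hx'.lead
  have hx'' : ∀ j < m, tau pb (u * pb.gen * (x' * pb.gen ^ j)) = 0 := fun j hj => by
    rw [show u * pb.gen * (x' * pb.gen ^ j) = u * (x' * pb.gen ^ (j + 1)) by ring]
    exact hx'.orth _ (by omega)
  obtain ⟨b, hb⟩ := eq_smul_of_orth pb (hu m (by omega)).2 hy hD fun j hj => by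
    rw [sub_mul, mul_sub, tau_sub, hy'.orth j (by omega), hx'' j hj, sub_zero]
  refine ⟨b, fun e => hx'.ne_zero pb hm ?_, by rw [← hb]; ring⟩
  rw [e, zero_smul, sub_eq_zero] at hb
  refine eq_zero_of_orth pb (hu (m + 2) (by omega)).1 (hx'.mem pb) fun j hj => ?_
  rcases Nat.lt_succ_iff_lt_or_eq.1 hj with h | h
  · exact hx'.orth j h
  · rw [h, show u * (x' * pb.gen ^ (m + 1)) = u * pb.gen * (x' * pb.gen ^ m) by ring, ← hb]
    exact hy'.orth m (Nat.lt_succ_self m)

theorem orbit {u : L} (hu : Good pb u) : ∀ m < pb.dim, ∀ x y, IsOrth pb u m x →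
    IsOrth pb (u * pb.gen) m y → ∃ g ∈ genPairR k pb.gen, ∃ c d : k, c ≠ 0 ∧ d ≠ 0 ∧
      (g : Matrix (Fin 2) (Fin 2) L) *ᵥ ![0, 1] = ![d • y, c • x] := by
  intro m
  induction m with
  | zero =>
    intro _ x y hx hy
    refine ⟨upR (algebraMap k L 1), upR_mem_genPair _ _, 1, 1, one_ne_zero, one_ne_zero, ?_⟩
    have h0 : W pb 0 = ⊥ := by simp [W]
    have ex : x = 1 := by simpa [h0, sub_eq_zero] using hx.lead
    have ey : y = 1 := by simpa [h0, sub_eq_zero] using hy.lead
    funext i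
    fin_cases i <;> simp [coe_upR, ex, ey, Matrix.mulVec, Matrix.vecHead, Matrix.vecTail]
  | succ m ih =>
    intro hm x' y' hx' hy'
    obtain ⟨x, hx⟩ := exists_orth pb (hu m (by omega)).1
    obtain ⟨y, hy⟩ := exists_orth pb (hu m (by omega)).2
    obtain ⟨g, hg, c, d, hc, hd, hv⟩ := ih (by omega) x y hx hy
    obtain ⟨a, ha, ex⟩ := step_x pb hu (by omega) hx hy hx'
    obtain ⟨b, hb, ey⟩ := step_y pb hu hm hy hx' hy'
    refine ⟨upR (algebraMap k L (d * a / (b * c))) * (loR (algebraMap k L (c / (a * d)) * pb.gen) * g),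
      mul_mem (upR_mem_genPair _ _) (mul_mem (loR_mem_genPair _ _) hg), c / a, d / b,
      div_ne_zero hc ha, div_ne_zero hd hb, ?_⟩
    have hl : ∀ Y X : L, (loR (algebraMap k L (c / (a * d)) * pb.gen)).1 *ᵥ ![Y, X] =
        ![Y, (c / (a * d)) • (pb.gen * Y) + X] := fun Y X => by
      funext i
      fin_cases i <;> simp [coe_loR, Algebra.smul_def, Matrix.vecHead, Matrix.vecTail] <;> ring
    have hup : ∀ Y X : L, (upR (algebraMap k L (d * a / (b * c)))).1 *ᵥ ![Y, X] =
        ![Y + (d * a / (b * c)) • X, X] := fun Y X => by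
      funext i
      fin_cases i <;> simp [coe_upR, Algebra.smul_def, Matrix.vecHead, Matrix.vecTail] <;> ring
    rw [Matrix.SpecialLinearGroup.coe_mul, Matrix.SpecialLinearGroup.coe_mul, ← Matrix.mulVec_mulVec,
      ← Matrix.mulVec_mulVec, hv, hl, hup, ey, ex]
    funext i
    fin_cases i <;> simp only [mul_smul_comm] <;>
      simp only [Fin.mk_zero, Fin.mk_one, Fin.zero_eta, Matrix.cons_val_zero, Matrix.cons_val_one, Matrix.cons_val_fin_one] <;>
      match_scalars <;> field_simp

theorem isUnit_of_det {u : L} (hu : (han pb u pb.dim).det ≠ 0) : IsUnit u := by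
  haveI := pb.finite
  have hinj : Function.Injective (LinearMap.mulLeft k u) := by
    rw [← LinearMap.ker_eq_bot, LinearMap.ker_eq_bot']
    intro z hz
    refine eq_zero_of_orth pb hu (by rw [W_dim]; trivial) fun j _ => ?_
    rw [LinearMap.mulLeft_apply] at hz
    rw [← mul_assoc, hz, zero_mul, tau_zero]
  obtain ⟨w, hw⟩ := LinearMap.injective_iff_surjective.1 hinj 1
  exact IsUnit.of_mul_eq_one w hw

theorem det_one : (han pb 1 pb.dim).det ≠ 0 := by
  intro e
  obtain ⟨v, hv0, hv⟩ := Matrix.exists_mulVec_eq_zero_iff.2 e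
  refine hv0 (funext fun i => ?_)
  induction hi : pb.dim - 1 - (i : ℕ) using Nat.strong_induction_on generalizing i with
  | _ t ih =>
    have := congrFun hv ⟨t, by omega⟩
    simp only [Matrix.mulVec, dotProduct, han, Matrix.of_apply, one_mul, Pi.zero_apply] at this
    rw [Finset.sum_eq_single i] at this
    · rwa [← pow_add, tau_gen_pow pb (by omega), if_pos (by omega), one_mul] at this
    · intro j _ hj
      rcases lt_or_gt_of_ne (fun e => hj (Fin.ext e)) with h | h
      · rw [← pow_add, tau_gen_pow pb (by omega), if_neg (by omega), zero_mul]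
      · rw [ih (pb.dim - 1 - (j : ℕ)) (by omega) j rfl, Pi.zero_apply, mul_zero]
    · intro h; exact absurd (Finset.mem_univ i) h

theorem exists_last {u : L} (hu : Good pb u) :
    ∃ g ∈ genPairR k pb.gen, ∃ (c : k) (z : L), c ≠ 0 ∧ u * pb.gen * z = 1 ∧
      (g : Matrix (Fin 2) (Fin 2) L) *ᵥ ![0, 1] = ![c • z, 0] := by
  obtain ⟨m, hm⟩ := Nat.exists_eq_succ_of_ne_zero pb.dim_pos.ne'
  obtain ⟨x, hx⟩ := exists_orth pb (hu m (by omega)).1
  obtain ⟨y, hy⟩ := exists_orth pb (hu m (by omega)).2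
  obtain ⟨x', hx'⟩ := exists_orth pb (hu (m + 1) (by omega)).1
  have h0 : x' = 0 := eq_zero_of_orth pb (hu (m + 1) (by omega)).1
    (by rw [show m + 1 = pb.dim from hm.symm, W_dim]; trivial) hx'.orth
  obtain ⟨g, hg, c, d, hc, hd, hv⟩ := orbit pb hu m (by omega) x y hx hy
  obtain ⟨a, ha, ex⟩ := step_x pb hu (by omega) hx hy hx'
  set w := u * pb.gen * y with hw
  have hwe : w = tau pb (w * pb.gen ^ m) • (1 : L) := by
    rw [← sub_eq_zero]
    refine eq_zero_of_orth pb (det_one pb) (by rw [W_dim]; trivial) fun j hj => ?_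
    rw [one_mul, sub_mul, tau_sub, smul_mul_assoc, one_mul, tau_smul, tau_gen_pow pb hj]
    rcases Nat.lt_succ_iff_lt_or_eq.1 (hm ▸ hj : j < m.succ) with h | h
    · rw [if_neg (by omega), mul_zero, sub_zero, hw, mul_assoc]
      exact hy.orth j h
    · rw [if_pos (by omega), mul_one, h, sub_self]
  set e := tau pb (w * pb.gen ^ m)
  have hy0 := hy.ne_zero pb (by omega : m < pb.dim)
  obtain ⟨q, hq⟩ := (isUnit_of_det pb (hu pb.dim le_rfl).2).exists_right_inv
  have he : e ≠ 0 := fun h => hy0 <| by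
    have h' : u * pb.gen * y = 0 := by rw [← hw, hwe, h, zero_smul]
    calc y = u * pb.gen * q * y := by rw [hq, one_mul]
      _ = q * (u * pb.gen * y) := by ring
      _ = 0 := by rw [h', mul_zero]
  refine ⟨loR (algebraMap k L (c / (a * d)) * pb.gen) * g, mul_mem (loR_mem_genPair _ _) hg, d * e,
    e⁻¹ • y, mul_ne_zero hd he, ?_, ?_⟩
  · rw [mul_smul_comm, ← hw, hwe, inv_smul_smul₀ he]
  rw [Matrix.SpecialLinearGroup.coe_mul, ← Matrix.mulVec_mulVec, hv, smul_smul, mul_inv_cancel_right₀ he]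
  funext i
  fin_cases i
  · simp [coe_loR, Matrix.vecHead, Matrix.vecTail]
  · have key : (c / (a * d)) • (pb.gen * (d • y)) + c • x = (c / a) • x' := by
      rw [ex, mul_smul_comm]
      match_scalars <;> field_simp
    have hlo : ∀ Y X : L, ((loR (algebraMap k L (c / (a * d)) * pb.gen)).1 *ᵥ ![Y, X]) 1 =
        (c / (a * d)) • (pb.gen * Y) + X := fun Y X => by
      simp [coe_loR, Algebra.smul_def, Matrix.vecHead, Matrix.vecTail]; ring
    exact (hlo _ _).trans (by rw [key, h0, smul_zero]; rfl)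

/-- A function that is polynomial on every line. -/
def LinePoly (f : L → k) : Prop :=
  ∀ u w : L, ∃ P : Polynomial k, ∀ t : k, f (u + t • w) = P.eval t

theorem linePoly_det (v : L) (m : ℕ) : LinePoly fun u => (han pb (u * v) m).det := by
  intro u w
  refine ⟨((han pb (u * v) m).map Polynomial.C +
    (Polynomial.X : Polynomial k) • (han pb (w * v) m).map Polynomial.C).det, fun t => ?_⟩
  rw [← Polynomial.coe_evalRingHom, RingHom.map_det]
  refine congrArg Matrix.det ?_
  ext i j
  simp [han, add_mul, tau_add, tau_smul]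
  ring

theorem LinePoly.mul {f g : L → k} (hf : LinePoly f) (hg : LinePoly g) :
    LinePoly fun u => f u * g u := fun u w => by
  obtain ⟨P, hP⟩ := hf u w
  obtain ⟨R, hR⟩ := hg u w
  exact ⟨P * R, fun t => by simp [hP, hR]⟩

theorem LinePoly.finite {f : L → k} (hf : LinePoly f) {u : L} (hu : f u ≠ 0) (w : L) :
    {t : k | f (u + t • w) = 0}.Finite := by
  obtain ⟨P, hP⟩ := hf u w
  have hP0 : P ≠ 0 := fun e => hu (by simpa [e] using hP 0)
  refine (P.finite_setOf_isRoot hP0).subset fun t ht => ?_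
  simpa [Polynomial.IsRoot, ← hP] using ht

theorem exists_all_ne [Infinite k] {ι : Type*} (s : Finset ι) (f : ι → L → k) (hp : ∀ i ∈ s, LinePoly (f i))
    (hne : ∀ i ∈ s, ∃ u, f i u ≠ 0) : ∃ u, ∀ i ∈ s, f i u ≠ 0 := by
  classical
  induction s using Finset.induction_on with
  | empty => exact ⟨0, by simp⟩
  | @insert a s _ ih =>
    obtain ⟨u1, h1⟩ := ih (fun i hi => hp i (Finset.mem_insert_of_mem hi))
      (fun i hi => hne i (Finset.mem_insert_of_mem hi))
    obtain ⟨u2, h2⟩ := hne a (Finset.mem_insert_self a s)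
    have hA : ∀ᶠ t : k in Filter.cofinite, ∀ i ∈ s, f i (u1 + t • (u2 - u1)) ≠ 0 := by
      rw [Filter.eventually_all_finset]
      intro i hi
      rw [Filter.eventually_cofinite]
      simpa using (hp i (Finset.mem_insert_of_mem hi)).finite (h1 i hi) (u2 - u1)
    have hB : ∀ᶠ t : k in Filter.cofinite, f a (u1 + t • (u2 - u1)) ≠ 0 := by
      obtain ⟨P, hP⟩ := hp a (Finset.mem_insert_self a s) u1 (u2 - u1)
      have hP0 : P ≠ 0 := fun e => h2 (by simpa [e] using hP 1)
      rw [Filter.eventually_cofinite]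
      refine (P.finite_setOf_isRoot hP0).subset fun t ht => ?_
      simpa [Polynomial.IsRoot, ← hP] using ht
    obtain ⟨t, ht1, ht2⟩ := (hA.and hB).exists
    exact ⟨_, fun i hi => (Finset.mem_insert.1 hi).elim (fun e => e ▸ ht2) (ht1 i)⟩

theorem exists_det_ne {m : ℕ} (hm : m ≤ pb.dim) : ∃ u, (han pb u m).det ≠ 0 := by
  haveI := pb.finite
  let Φ : L →ₗ[k] (Fin pb.dim → k) :=
    { toFun := fun u l => tau pb (u * pb.gen ^ (l : ℕ))
      map_add' := fun u v => funext fun l => by simp [add_mul, tau_add]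
      map_smul' := fun c u => funext fun l => by simp [smul_mul_assoc, tau_smul] }
  have hinj : Function.Injective Φ := by
    rw [← LinearMap.ker_eq_bot, LinearMap.ker_eq_bot']
    intro u hu
    refine eq_zero_of_orth pb (det_one pb) (by rw [W_dim]; trivial) fun j hj => ?_
    rw [one_mul]; exact congrFun hu ⟨j, hj⟩
  have hsur : Function.Surjective Φ := by
    rwa [← LinearMap.injective_iff_surjective_of_finrank_eq_finrank]
    rw [pb.finrank, Module.finrank_fin_fun]
  obtain ⟨u, hu⟩ := hsur fun l => if (l : ℕ) = m - 1 then 1 else 0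
  refine ⟨u, fun e => ?_⟩
  obtain ⟨v, hv0, hv⟩ := Matrix.exists_mulVec_eq_zero_iff.2 e
  refine hv0 (funext fun i => ?_)
  induction hi : m - 1 - (i : ℕ) using Nat.strong_induction_on generalizing i with
  | _ t ih =>
    have := congrFun hv ⟨t, by omega⟩
    simp only [Matrix.mulVec, dotProduct, han, Matrix.of_apply, Pi.zero_apply] at this
    have key : ∀ l, (h : l < pb.dim) → tau pb (u * pb.gen ^ l) = if l = m - 1 then 1 else 0 :=
      fun l h => congrFun hu ⟨l, h⟩
    rw [Finset.sum_eq_single i] at this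
    · rwa [← pow_add, key _ (by omega), if_pos (by omega), one_mul] at this
    · intro j _ hj
      rcases lt_or_gt_of_ne (fun e => hj (Fin.ext e)) with h | h
      · rw [← pow_add, key _ (by omega), if_neg (by omega), zero_mul]
      · rw [ih (m - 1 - (j : ℕ)) (by omega) j rfl, Pi.zero_apply, mul_zero]
    · intro h; exact absurd (Finset.mem_univ i) h

theorem exists_good [Infinite k] (h0 : IsUnit pb.gen) : ∃ u, Good pb u := by
  obtain ⟨q, hq⟩ := h0.exists_left_inv
  have hwit : ∀ m ∈ Finset.range (pb.dim + 1),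
      ∃ u, (han pb (u * 1) m).det * (han pb (u * pb.gen) m).det ≠ 0 := by
    intro m hm
    obtain ⟨u', hu'⟩ := exists_det_ne pb (Nat.lt_succ_iff.1 (Finset.mem_range.1 hm))
    obtain ⟨w, hw⟩ := exists_all_ne (Finset.univ : Finset Bool)
      (fun b u => (han pb (u * if b then 1 else pb.gen) m).det) (fun b _ => linePoly_det pb _ m)
      (fun b _ => by
        cases b
        · exact ⟨u' * q, by simpa [mul_assoc, hq] using hu'⟩
        · exact ⟨u', by simpa using hu'⟩)
    exact ⟨w, mul_ne_zero (by simpa using hw true (Finset.mem_univ _))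
      (by simpa using hw false (Finset.mem_univ _))⟩
  obtain ⟨v, hv⟩ := exists_all_ne (Finset.range (pb.dim + 1))
    (fun m u => (han pb (u * 1) m).det * (han pb (u * pb.gen) m).det)
    (fun m _ => (linePoly_det pb 1 m).mul (linePoly_det pb pb.gen m)) hwit
  exact ⟨v, fun m hm => by
    have := hv m (Finset.mem_range.2 (Nat.lt_succ_of_le hm))
    simpa [mul_ne_zero_iff] using this⟩

theorem good_line {u : L} (hu : Good pb u) (w : L) :
    ∀ᶠ t : k in Filter.cofinite, Good pb (u + t • w) := by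
  have : ∀ᶠ t : k in Filter.cofinite, ∀ m ∈ Finset.range (pb.dim + 1),
      (han pb ((u + t • w) * 1) m).det * (han pb ((u + t • w) * pb.gen) m).det ≠ 0 := by
    rw [Filter.eventually_all_finset]
    intro m hm
    rw [Filter.eventually_cofinite]
    have h := hu m (Nat.lt_succ_iff.1 (Finset.mem_range.1 hm))
    simp only [ne_eq, not_not]
    exact ((linePoly_det pb 1 m).mul (linePoly_det pb pb.gen m)).finite (u := u)
      (by simpa using mul_ne_zero h.1 h.2) w
  exact this.mono fun t ht m hm => by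
    simpa [mul_ne_zero_iff] using ht m (Finset.mem_range.2 (Nat.lt_succ_of_le hm))

theorem genPairR_unipotents_of_infinite [Infinite k] (h2 : (2 : k) ≠ 0) (h0 : IsUnit pb.gen) :
    (∀ x : L, upR x ∈ genPairR k pb.gen) ∧ ∀ x : L, loR x ∈ genPairR k pb.gen := by
  haveI := pb.finite
  set H := genPairR k pb.gen with hH
  obtain ⟨u0, hu0⟩ := exists_good pb h0
  have hunit : ∀ u, Good pb u → IsUnit u := fun u hu => isUnit_of_det pb (hu pb.dim le_rfl).1
  obtain ⟨v0, hv0⟩ := (hunit u0 hu0).exists_right_inv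
  obtain ⟨g0, hg0, c0, z0, hc0, hz0, hgv0⟩ := exists_last pb hu0
  let S : Submodule k L :=
    { carrier := {m | ∀ c : k, upR (c • m) ∈ H}
      add_mem' := fun {a b} ha hb c => by
        rw [smul_add, ← upR_mul]; exact mul_mem (ha c) (hb c)
      zero_mem' := fun c => by rw [smul_zero, upR_zero]; exact one_mem _
      smul_mem' := fun d m hm c => by rw [smul_smul]; exact hm _ }
  have h1 : (1 : L) ∈ S := fun c => by
    rw [← Algebra.algebraMap_eq_smul_one]; exact upR_mem_genPair _ c
  let T : Subalgebra k L :=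
    { carrier := {t | ∀ m ∈ S, t * m ∈ S}
      mul_mem' := fun {a b} ha hb m hm => by rw [mul_assoc]; exact ha _ (hb m hm)
      one_mem' := fun m hm => by rwa [one_mul]
      add_mem' := fun {a b} ha hb m hm => by rw [add_mul]; exact add_mem (ha m hm) (hb m hm)
      zero_mem' := fun m _ => by rw [zero_mul]; exact zero_mem _
      algebraMap_mem' := fun c m hm => by rw [← Algebra.smul_def]; exact Submodule.smul_mem _ c hm }
  have hρ : ∀ u, Good pb u → (u * v0) ^ 2 ∈ T := by
    intro u hu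
    obtain ⟨g, hg, c, z, hc, hz, hgv⟩ := exists_last pb hu
    set h := g0 * g⁻¹ with hh
    have hgi : (g⁻¹ : SL(2, L)).1 *ᵥ ![c • z, 0] = ![0, 1] := by
      rw [← hgv, Matrix.mulVec_mulVec, ← Matrix.SpecialLinearGroup.coe_mul, inv_mul_cancel,
        Matrix.SpecialLinearGroup.coe_one, Matrix.one_mulVec]
    have hv : h.1 *ᵥ ![c • z, 0] = ![c0 • z0, 0] := by
      rw [hh, Matrix.SpecialLinearGroup.coe_mul, ← Matrix.mulVec_mulVec, hgi]; exact hgv0
    have e0 : h.1 0 0 * (c • z) = c0 • z0 := by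
      simpa [Matrix.mulVec, dotProduct, Fin.sum_univ_two] using congrFun hv 0
    have e1' : h.1 1 0 * (c • z) = 0 := by
      simpa [Matrix.mulVec, dotProduct, Fin.sum_univ_two] using congrFun hv 1
    have e1 : h.1 1 0 = 0 := by
      rw [mul_smul_comm, smul_eq_zero, or_iff_right hc] at e1'
      calc h.1 1 0 = h.1 1 0 * (u * pb.gen * z) := by rw [hz, mul_one]
        _ = h.1 1 0 * z * (u * pb.gen) := by ring
        _ = 0 := by rw [e1', zero_mul]
    have hdet : h.1 0 0 * h.1 1 1 = 1 := by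
      have := h.2; rw [Matrix.det_fin_two, e1, mul_zero, sub_zero] at this; exact this
    have hz0' : z0 * (u * pb.gen) = u * v0 := by
      calc z0 * (u * pb.gen) = (u0 * v0) * (z0 * (u * pb.gen)) := by rw [hv0, one_mul]
        _ = u * v0 * (u0 * pb.gen * z0) := by ring
        _ = u * v0 := by rw [hz0, mul_one]
    have hr : h.1 0 0 = (c0 / c) • (u * v0) := by
      rw [mul_smul_comm] at e0
      have := congrArg (fun x => c⁻¹ • (x * (u * pb.gen))) e0
      simp only [smul_mul_assoc, smul_smul, inv_mul_cancel₀ hc, one_smul] at this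
      rw [mul_assoc, show z * (u * pb.gen) = u * pb.gen * z by ring, hz, mul_one, hz0'] at this
      rw [this, div_eq_inv_mul]
    intro m hm d
    have hconj : ∀ n : L, upR (h.1 0 0 ^ 2 * n) = h * upR n * h⁻¹ := by
      intro n
      rw [eq_mul_inv_iff_mul_eq]
      apply Subtype.ext
      ext i j
      fin_cases i <;> fin_cases j <;>
        simp [coe_upR, Matrix.mul_apply, Fin.sum_univ_two, e1] <;>
        first
          | ring1
          | linear_combination (h.1 0 0 * n) * hdet
    have : upR (d • ((u * v0) ^ 2 * m)) = upR (h.1 0 0 ^ 2 * ((d * c ^ 2 / c0 ^ 2) • m)) := by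
      congr 1
      rw [hr, smul_pow, smul_mul_smul_comm]
      congr 1
      field_simp
    rw [this, hconj]
    exact mul_mem (mul_mem (mul_mem hg0 (inv_mem hg)) (hm _)) (inv_mem (mul_mem hg0 (inv_mem hg)))
  have hT : ∀ v, v ∈ T := by
    intro v
    obtain ⟨t1, ht1, ht10⟩ := ((good_line pb hu0 (u0 * v)).and
      (Set.finite_singleton (0 : k)).eventually_cofinite_notMem).exists
    obtain ⟨t2, ht2, ht20⟩ := ((good_line pb hu0 (u0 * v)).and
      ((Set.finite_singleton (0 : k)).insert t1).eventually_cofinite_notMem).exists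
    simp only [Set.mem_insert_iff, Set.mem_singleton_iff, not_or] at ht10 ht20
    have key : ∀ t : k, t ≠ 0 → Good pb (u0 + t • (u0 * v)) → (2 : k) • v + t • v ^ 2 ∈ T := by
      intro t ht hg
      have h := Subalgebra.smul_mem T (sub_mem (hρ _ hg) (one_mem T)) t⁻¹
      have e : (u0 + t • (u0 * v)) * v0 = 1 + t • v := by
        rw [add_mul, hv0, smul_mul_assoc, show u0 * v * v0 = u0 * v0 * v by ring, hv0, one_mul]
      convert h using 1
      rw [e, eq_inv_smul_iff₀ ht]
      simp only [Algebra.smul_def, map_ofNat]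
      ring
    have h12 := sub_mem (key t1 ht10 ht1) (key t2 ht20.2 ht2)
    rw [add_sub_add_left_eq_sub, ← sub_smul] at h12
    have hsq : v ^ 2 ∈ T := by
      have := Subalgebra.smul_mem T h12 (t1 - t2)⁻¹
      rwa [inv_smul_smul₀ (sub_ne_zero.2 (Ne.symm ht20.1))] at this
    have := Subalgebra.smul_mem T (sub_mem (key t1 ht10 ht1) (Subalgebra.smul_mem T hsq t1)) (2 : k)⁻¹
    rwa [add_sub_cancel_right, inv_smul_smul₀ h2] at this
  have hU : ∀ x : L, upR x ∈ H := fun x => by
    simpa using hT x 1 h1 1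
  refine ⟨hU, fun t => ?_⟩
  set z := c0 • z0
  have e0 : g0.1 0 1 = z := by
    simpa [Matrix.mulVec, dotProduct, Fin.sum_univ_two] using congrFun hgv0 0
  have e1 : g0.1 1 1 = 0 := by
    simpa [Matrix.mulVec, dotProduct, Fin.sum_univ_two] using congrFun hgv0 1
  have hdet : -(z * g0.1 1 0) = 1 := by
    have := g0.2; rw [Matrix.det_fin_two, e0, e1, mul_zero, zero_sub] at this; exact this
  have : loR t = g0⁻¹ * upR (-(z ^ 2 * t)) * g0 := by
    rw [eq_comm, mul_assoc, inv_mul_eq_iff_eq_mul]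
    apply Subtype.ext
    ext i j
    fin_cases i <;> fin_cases j <;>
      simp [coe_upR, coe_loR, Matrix.mul_apply, Fin.sum_univ_two, e0, e1] <;>
      linear_combination (z * t) * hdet
  rw [this]
  exact mul_mem (mul_mem (inv_mem hg0) (hU _)) hg0

theorem genPair_eq_top_of_infinite {K : Type*} [Field K] [Algebra k K] [Infinite k] (pb : PowerBasis k K)
    (h2 : (2 : k) ≠ 0) (h0 : pb.gen ≠ 0) : genPair k pb.gen = ⊤ := by
  obtain ⟨hU, hL⟩ := genPairR_unipotents_of_infinite pb h2 (isUnit_iff_ne_zero.2 h0)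
  rw [eq_top_iff, ← lower_sup_upper, sup_le_iff]
  refine ⟨fun y hy => ?_, fun y hy => ?_⟩
  · obtain ⟨t, rfl⟩ := mem_lowerUnipotentSL2.1 hy
    exact hL t
  · obtain ⟨t, rfl⟩ := mem_upperUnipotentSL2.1 hy
    exact hU t

end Cfsg.Agent.RankOne.Dickson
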