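import Cfsg.Agent.Lib.RankOne.Basic
/-!
Sets of abstract root subgroups: the commutator case (surjectivity, symmetry), the three cases,
`eq_of_translate` (a central translate of a root element is a root element only trivially),
members inside a rank one group, `push`, `rankOne_translate`, `commutator_eq_of_line`.
-/

set_option autoImplicit false

namespace Cfsg.Agent.RankOne

open Cfsg
open scoped commutatorElement

variable {G : Type*} [Group G] {S : Set (Subgroup G)} {A B C D E P : Subgroup G}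

/-! ### Elementwise commutation -/

theorem elem_commute (h : ⁅A, B⁆ = ⊥) {a b : G} (ha : a ∈ A) (hb : b ∈ B) : Commute a b := by
  have := Subgroup.commutator_mem_commutator ha hb
  rw [h, Subgroup.mem_bot] at this
  exact commutatorElement_eq_one_iff_mul_comm.1 this

theorem commutator_eq_bot_of (h : ∀ a ∈ A, ∀ b ∈ B, a * b = b * a) : ⁅A, B⁆ = ⊥ := by
  rw [eq_bot_iff, Subgroup.commutator_le]
  intro a ha b hb
  exact Subgroup.mem_bot.2 (commutatorElement_eq_one_iff_mul_comm.2 (h a ha b hb))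

theorem self_commutator (hA : IsMulCommutative A) : ⁅A, A⁆ = ⊥ :=
  commutator_eq_bot_of fun a ha b hb => congrArg Subtype.val (hA.is_comm.comm (⟨a, ha⟩ : A) ⟨b, hb⟩)

theorem mem_normalizer_of_commute {g : G} (h : ∀ a ∈ A, g * a = a * g) :
    g ∈ Subgroup.normalizer (A : Set G) :=
  Subgroup.centralizer_le_normalizer _ (fun a ha => (h a ha).symm)

theorem conjBy_of_commute {g : G} (h : ∀ a ∈ A, g * a = a * g) : conjBy A g = A :=
  conjBy_of_mem_normalizer (mem_normalizer_of_commute h)

/-! ### Rank one pairs -/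

theorem commutator_ne_bot (h : IsRankOnePair A B) : ⁅A, B⁆ ≠ ⊥ := by
  intro hb
  obtain ⟨a, ha, ha1⟩ := exists_ne_one h
  exact ha1 (eq_one_of_mem_of_conjBy_eq h ha
    (conjBy_of_commute fun b hb' => (elem_commute hb ha hb').eq))

theorem not_commute (h : IsRankOnePair A B) {a : G} (ha : a ∈ A) (ha1 : a ≠ 1) :
    ¬ ∀ b ∈ B, a * b = b * a := fun hc => ha1 (eq_one_of_mem_of_conjBy_eq h ha (conjBy_of_commute hc))

/-- A conjugate `a d a⁻¹` never normalises `D`. -/
theorem conjBy_conj_ne (h : IsRankOnePair A D) {a d : G} (ha : a ∈ A) (ha1 : a ≠ 1) (hd : d ∈ D)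
    (hd1 : d ≠ 1) : conjBy D (a * d * a⁻¹) ≠ D := by
  intro he
  have hne : conjBy D a ≠ D := fun e => ha1 (eq_one_of_mem_of_conjBy_eq h ha e)
  have hpair := (isRankOnePair_of_mem h
    (conjBy_mem_unipotents (right_mem_unipotents h) (Subgroup.mem_sup_left ha))
    (right_mem_unipotents h) hne).1
  exact hd1 (conj_eq_one_iff.1 (eq_one_of_mem_of_conjBy_eq hpair (conj_mem_conjBy a hd) he))

theorem conjBy_commutatorElement_ne (h : IsRankOnePair A D) {a d : G} (ha : a ∈ A) (ha1 : a ≠ 1)
    (hd : d ∈ D) (hd1 : d ≠ 1) : conjBy D (a * d * a⁻¹ * d⁻¹) ≠ D := by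
  rw [← conjBy_conjBy, conjBy_of_mem (D.inv_mem hd)]
  exact conjBy_conj_ne h ha ha1 hd hd1

/-! ### The commutator case -/

theorem central_of_case (h : RootCommutatorCase S A B) {c x : G} (hc : c ∈ ⁅A, B⁆)
    (hx : x ∈ A ⊔ B) : Commute c x := h.2.1 c hc x hx

theorem central_left (h : RootCommutatorCase S A B) : ⁅⁅A, B⁆, A⁆ = ⊥ :=
  commutator_eq_bot_of fun c hc a ha => (central_of_case h hc (Subgroup.mem_sup_left ha)).eq

theorem central_right (h : RootCommutatorCase S A B) : ⁅⁅A, B⁆, B⁆ = ⊥ :=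
  commutator_eq_bot_of fun c hc b hb => (central_of_case h hc (Subgroup.mem_sup_right hb)).eq

theorem case_mem (h : RootCommutatorCase S A B) : ⁅A, B⁆ ∈ S := h.1

theorem case_symm (h : RootCommutatorCase S A B) : RootCommutatorCase S B A := by
  obtain ⟨h1, h2, h3, h4⟩ := h
  have key : ∀ (s : Set G) (f g : G → G), (∀ x, g x = (f x)⁻¹) →
      Subgroup.closure (g '' s) = Subgroup.closure (f '' s) := by
    intro s f g hfg
    rw [show g '' s = (f '' s)⁻¹ by
      rw [← Set.image_inv_eq_inv, Set.image_image]; exact Set.image_congr fun x _ => hfg x,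
      Subgroup.closure_inv]
  refine ⟨Subgroup.commutator_comm A B ▸ h1, fun c hc x hx => ?_, fun b hb hb1 => ?_, fun a ha ha1 => ?_⟩
  · exact h2 c (Subgroup.commutator_comm A B ▸ hc) x (sup_comm A B ▸ hx)
  · rw [Subgroup.commutator_comm, ← h4 b hb hb1]
    exact key _ _ _ fun x => by group
  · rw [Subgroup.commutator_comm, ← h3 a ha ha1]
    exact key _ _ _ fun x => by group

/-- For fixed non-identity `a` every element of `⁅A, B⁆` is `[a, b]`. -/
theorem exists_commutator_eq (h : RootCommutatorCase S A B) {a : G} (ha : a ∈ A) (ha1 : a ≠ 1)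
    {c : G} (hc : c ∈ ⁅A, B⁆) : ∃ b ∈ B, a * b * a⁻¹ * b⁻¹ = c := by
  rw [← h.2.2.1 a ha ha1] at hc
  induction hc using Subgroup.closure_induction with
  | mem x hx => exact hx
  | one => exact ⟨1, B.one_mem, by group⟩
  | mul x y _ _ hx hy =>
    obtain ⟨b, hb, rfl⟩ := hx
    obtain ⟨b', hb', rfl⟩ := hy
    refine ⟨b * b', B.mul_mem hb hb', ?_⟩
    have hc' : a * b' * a⁻¹ * b'⁻¹ ∈ ⁅A, B⁆ := Subgroup.commutator_mem_commutator ha hb'
    calc a * (b * b') * a⁻¹ * (b * b')⁻¹
        = (a * b * a⁻¹) * (a * b' * a⁻¹ * b'⁻¹) * b⁻¹ := by group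
      _ = (a * b * a⁻¹) * (b⁻¹ * (a * b' * a⁻¹ * b'⁻¹)) := by
          rw [← (central_of_case h hc' (Subgroup.inv_mem _ (Subgroup.mem_sup_right hb))).eq]
          group
      _ = _ := by group
  | inv x _ hx =>
    obtain ⟨b, hb, rfl⟩ := hx
    refine ⟨b⁻¹, B.inv_mem hb, ?_⟩
    have hc' : a * b * a⁻¹ * b⁻¹ ∈ ⁅A, B⁆ := Subgroup.commutator_mem_commutator ha hb
    have hcm := (central_of_case h hc' (Subgroup.mem_sup_right hb)).inv_left.eq
    calc a * b⁻¹ * a⁻¹ * b⁻¹⁻¹ = b⁻¹ * (a * b * a⁻¹ * b⁻¹)⁻¹ * b := by group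
      _ = _ := by rw [mul_assoc, hcm, inv_mul_cancel_left]

theorem exists_commutator_eq' (h : RootCommutatorCase S A B) {b : G} (hb : b ∈ B) (hb1 : b ≠ 1)
    {c : G} (hc : c ∈ ⁅A, B⁆) : ∃ a ∈ A, a * b * a⁻¹ * b⁻¹ = c := by
  obtain ⟨a, ha, he⟩ := exists_commutator_eq (case_symm h) hb hb1
    (Subgroup.inv_mem _ (Subgroup.commutator_comm A B ▸ hc) : c⁻¹ ∈ ⁅B, A⁆)
  exact ⟨a, ha, by rw [← inv_inv c, ← he]; group⟩

section RootSet

variable (hS : IsRootSubgroupSet S)
include hS

theorem member_comm (hA : A ∈ S) {a a' : G} (ha : a ∈ A) (ha' : a' ∈ A) : Commute a a' :=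
  elem_commute (self_commutator (hS.commutative A hA)) ha ha'

theorem member_exists_ne_one (hA : A ∈ S) : ∃ a ∈ A, a ≠ 1 := by
  obtain ⟨⟨a, ha⟩, ha1⟩ := Subgroup.ne_bot_iff_exists_ne_one.1 (hS.ne_bot A hA)
  exact ⟨a, ha, fun e => ha1 (Subtype.ext e)⟩

theorem case_ne_bot (h : RootCommutatorCase S A B) : ⁅A, B⁆ ≠ ⊥ := hS.ne_bot _ h.1

theorem case_not_commute_left (h : RootCommutatorCase S A B) {a : G} (ha : a ∈ A) (ha1 : a ≠ 1) :
    ¬ ∀ b ∈ B, a * b = b * a := by
  intro hc
  obtain ⟨c, hc', hc1⟩ := member_exists_ne_one hS h.1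
  obtain ⟨b, hb, rfl⟩ := exists_commutator_eq h ha ha1 hc'
  exact hc1 (by rw [hc b hb]; group)

theorem exists_commutator_ne_one (h : RootCommutatorCase S A B) {a : G} (ha : a ∈ A) (ha1 : a ≠ 1) :
    ∃ b ∈ B, b ≠ 1 ∧ a * b * a⁻¹ * b⁻¹ ≠ 1 := by
  obtain ⟨c, hc', hc1⟩ := member_exists_ne_one hS h.1
  obtain ⟨b, hb, rfl⟩ := exists_commutator_eq h ha ha1 hc'
  exact ⟨b, hb, fun e => hc1 (by rw [e]; group), hc1⟩

/-- If a central translate of a root element of a member with a partner is a root element of `D`,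
then `D` is that member and the translate is trivial. -/
theorem eq_of_translate (h : IsRankOnePair A B) (hB : B ∈ S) {z a : G}
    (hz : z ∈ Subgroup.centralizer ((A ⊔ B : Subgroup G) : Set G)) (ha : a ∈ A) (ha1 : a ≠ 1)
    (hD : D ∈ S) (hza : z * a ∈ D) : z = 1 ∧ D = A := by
  have hzc : ∀ x ∈ A ⊔ B, z * x = x * z := fun x hx => (hz x hx).symm
  have hzA : conjBy A z = A := conjBy_of_commute fun x hx => hzc x (Subgroup.mem_sup_left hx)
  have hzB : conjBy B z = B := conjBy_of_commute fun x hx => hzc x (Subgroup.mem_sup_right hx)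
  have hne : z * a ≠ 1 := fun e => ha1 (eq_one_of_mem_of_conjBy_eq h ha (by
    rw [eq_inv_of_mul_eq_one_right e, conjBy_inv_eq_self_iff, hzB]))
  rcases hS.pair D hD B hB with hc | hc | hc
  · exfalso
    refine not_commute h ha ha1 fun b hb => ?_
    have := (elem_commute hc hza hb).eq
    rw [mul_assoc, ← mul_assoc b, ← hzc b (Subgroup.mem_sup_right hb), mul_assoc] at this
    exact mul_left_cancel this
  · obtain ⟨b', hb', -, he'⟩ := hc.cond_left _ hza hne
    obtain ⟨b, hb, -, he⟩ := h.cond_left a ha ha1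
    have hD' : D ∈ unipotentSubgroups A B := by
      rw [mul_inv_rev, ← conjBy_conjBy B z⁻¹, conjBy_inv_eq_self_iff.2 hzB, ← he,
        conjBy_eq_conjBy_iff, inv_inv, conjBy_eq_iff] at he'
      rw [he']
      refine conjBy_mem_unipotents (left_mem_unipotents A B) (Subgroup.mem_sup_right ?_)
      exact B.inv_mem (B.mul_mem hb (B.inv_mem hb'))
    have hDA : D = A := by
      by_contra hne'
      refine hne (eq_one_of_mem_of_conjBy_eq
        (isRankOnePair_of_mem h hD' (left_mem_unipotents A B) hne').1 hza ?_)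
      rw [← conjBy_conjBy, conjBy_of_mem ha, hzA]
    refine ⟨?_, hDA⟩
    subst hDA
    exact eq_one_of_mem_of_conjBy_eq h ((D.mul_mem_cancel_right ha).1 hza) hzB
  · exfalso
    obtain ⟨b, hb, hb1⟩ := member_exists_ne_one hS hB
    apply conjBy_commutatorElement_ne h ha ha1 hb hb1
    have e : a * b * a⁻¹ * b⁻¹ = z * a * b * (z * a)⁻¹ * b⁻¹ := by
      have hw : z * (a * b * a⁻¹) = a * b * a⁻¹ * z := hzc _ (Subgroup.mul_mem _
        (Subgroup.mul_mem _ (Subgroup.mem_sup_left ha) (Subgroup.mem_sup_right hb))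
        (Subgroup.inv_mem _ (Subgroup.mem_sup_left ha)))
      calc a * b * a⁻¹ * b⁻¹ = a * b * a⁻¹ * z * z⁻¹ * b⁻¹ := by group
        _ = _ := by rw [← hw]; group
    rw [e]
    exact conjBy_of_commute fun b' hb' =>
      (central_of_case hc (Subgroup.commutator_mem_commutator hza hb)
        (Subgroup.mem_sup_right hb')).eq

/-- A member with a rank one partner meets every other member trivially. -/
theorem eq_of_mem (h : IsRankOnePair A B) (hB : B ∈ S) {x : G} (hxA : x ∈ A) (hx1 : x ≠ 1)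
    (hD : D ∈ S) (hxD : x ∈ D) : D = A :=
  (eq_of_translate hS h hB (Subgroup.one_mem _) hxA hx1 hD (by rwa [one_mul])).2

/-- A member inside a rank one group is one of its unipotent subgroups or centralises it. -/
theorem member_le_sup (h : IsRankOnePair A B) (hA : A ∈ S) (hB : B ∈ S) (hP : P ∈ S)
    (hle : P ≤ A ⊔ B) :
    P ∈ unipotentSubgroups A B ∨ P ≤ Subgroup.centralizer ((A ⊔ B : Subgroup G) : Set G) := by
  have hcomm : ∀ Q ∈ S, Q ≤ A ⊔ B → ⁅Q, A⁆ = ⊥ →
      Q = A ∨ Q ≤ Subgroup.centralizer ((A ⊔ B : Subgroup G) : Set G) := by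
    intro Q hQ hQle hQA
    by_cases hQc : Q ≤ Subgroup.centralizer ((A ⊔ B : Subgroup G) : Set G)
    · exact Or.inr hQc
    left
    obtain ⟨q, hq, hqc⟩ := SetLike.not_le_iff_exists.1 hQc
    have hfix : conjBy A q = A := conjBy_of_commute fun a ha => (elem_commute hQA hq ha).eq
    have hne : conjBy B q ≠ A := fun e => h.ne (conjBy_inj.1 (hfix.trans e.symm))
    obtain ⟨a, ha, he⟩ := exists_eq_conjBy_right h
      (conjBy_mem_unipotents (right_mem_unipotents h) (hQle hq)) hne
    -- `z = a⁻¹ q` centralises the rank one group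
    have hzB : conjBy B (a⁻¹ * q) = B := by rw [← conjBy_conjBy, he, conjBy_inv_conjBy]
    have hzA : ∀ a' ∈ A, a⁻¹ * q * a' = a' * (a⁻¹ * q) := by
      intro a' ha'
      rw [mul_assoc, (elem_commute hQA hq ha').eq, ← mul_assoc,
        ((member_comm hS hA ha ha').inv_left).eq, mul_assoc]
    have hzB' : ∀ b ∈ B, a⁻¹ * q * b = b * (a⁻¹ * q) := by
      intro b hb
      set z := a⁻¹ * q
      rcases eq_or_ne b 1 with rfl | hb1
      · simp
      obtain ⟨a', ha', -, he'⟩ := h.cond_right b hb hb1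
      have hconj := congrArg (fun X => conjBy X z) he'
      simp only [conjBy_conjBy] at hconj
      rw [((show Commute z a' from hzA a' ha').inv_right).eq, ← conjBy_conjBy B z, hzB] at hconj
      have e2 : z * b⁻¹ = (z * b * z⁻¹)⁻¹ * z := by group
      rw [e2, ← conjBy_conjBy A z, conjBy_of_commute hzA] at hconj
      have hzb : z * b * z⁻¹ ∈ B := by
        have := conj_mem_conjBy z hb
        rwa [hzB] at this
      have := partner_unique_right h hb hzb he'.symm hconj.symm
      exact mul_inv_eq_iff_eq_mul.1 this.symm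
    have hzc : a⁻¹ * q ∈ Subgroup.centralizer ((A ⊔ B : Subgroup G) : Set G) := by
      rw [Subgroup.sup_eq_closure, Subgroup.centralizer_closure]
      rintro x (hx | hx)
      · exact (hzA x hx).symm
      · exact (hzB' x hx).symm
    rcases eq_or_ne a 1 with rfl | ha1
    · rw [inv_one, one_mul] at hzc
      exact absurd hzc hqc
    · have e : q = a⁻¹ * q * a := by
        rw [hzA a ha]; group
      exact (eq_of_translate hS h hB hzc ha ha1 hQ (e ▸ hq)).2
  rcases hS.pair P hP A hA with hc | hc | hc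
  · exact (hcomm P hP hle hc).imp_left (by rintro rfl; exact left_mem_unipotents _ B)
  · left
    obtain ⟨p, hp, hp1⟩ := member_exists_ne_one hS hP
    obtain ⟨c, hc', -, he⟩ := hc.cond_left p hp hp1
    rw [conjBy_eq_iff, inv_inv, conjBy_conjBy] at he
    rw [he]
    exact conjBy_mem_unipotents (left_mem_unipotents A B)
      (Subgroup.mul_mem _ (Subgroup.mem_sup_left hc') (Subgroup.inv_mem _ (hle hp)))
  · exfalso
    have hZle : ⁅P, A⁆ ≤ A ⊔ B :=
      Subgroup.commutator_le.2 fun p hp a ha => by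
        rw [commutatorElement_def]
        exact Subgroup.mul_mem _ (Subgroup.mul_mem _ (Subgroup.mul_mem _ (hle hp)
          (Subgroup.mem_sup_left ha)) (Subgroup.inv_mem _ (hle hp)))
          (Subgroup.inv_mem _ (Subgroup.mem_sup_left ha))
    rcases hcomm _ hc.1 hZle (central_right hc) with he | he
    · apply case_ne_bot hS hc
      rw [Subgroup.commutator_comm P A]
      nth_rewrite 1 [← he]
      exact central_left hc
    · obtain ⟨p, hp, hp1⟩ := member_exists_ne_one hS hP
      obtain ⟨a, ha, ha1, hne⟩ := exists_commutator_ne_one hS hc hp hp1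
      have hcm : p * a * p⁻¹ * a⁻¹ ∈ ⁅P, A⁆ := Subgroup.commutator_mem_commutator hp ha
      have hz := he hcm
      have h1 : p * a * p⁻¹ ∈ conjBy A p := conj_mem_conjBy p ha
      have hfixA : conjBy A (p * a * p⁻¹) = A := by
        rw [show p * a * p⁻¹ = (p * a * p⁻¹ * a⁻¹) * a by group, ← conjBy_conjBy, conjBy_of_mem ha,
          conjBy_of_commute fun x hx => (hz x (Subgroup.mem_sup_left hx)).symm]
      have hsame : conjBy A p = A := by
        by_contra hne'
        exact ha1 (conj_eq_one_iff.1 (eq_one_of_mem_of_conjBy_eq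
          (isRankOnePair_of_mem h (conjBy_mem_unipotents (left_mem_unipotents A B) (hle hp))
            (left_mem_unipotents A B) hne').1 h1 hfixA))
      rw [hsame] at h1
      exact hne (eq_one_of_mem_of_conjBy_eq h (A.mul_mem h1 (A.inv_mem ha))
        (conjBy_of_commute fun x hx => (hz x (Subgroup.mem_sup_right hx)).symm))

/-- If `⁅A, B⁆ ∈ S` then `A, B` are in the commutator case. -/
theorem case_of_commutator_mem (hA : A ∈ S) (hB : B ∈ S) (hC : ⁅A, B⁆ ∈ S) :
    RootCommutatorCase S A B := by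
  rcases hS.pair A hA B hB with hc | hc | hc
  · exact absurd hc (hS.ne_bot _ hC)
  · exfalso
    have hnor : A ⊔ B ≤ Subgroup.normalizer ((⁅A, B⁆ : Subgroup G) : Set G) :=
      sup_le (Subgroup.normalizer_commutator_ge_left A B) (Subgroup.normalizer_commutator_ge_right A B)
    rcases member_le_sup hS hc hA hB hC (Subgroup.commutator_le_sup A B) with h' | h'
    · obtain ⟨C₁, h1, C₂, h2, C₃, h3, h12, -, -⟩ := three_unipotents hc
      apply h12
      have hall : ∀ D ∈ unipotentSubgroups A B, D = ⁅A, B⁆ := by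
        intro D hD
        by_contra hne
        obtain ⟨x, hx, hx1, -⟩ := exists_conjBy_pair_pair hc h' hD hD h' (Ne.symm hne) hne
        rw [conjBy_of_mem_normalizer (hnor hx)] at hx1
        exact hne hx1.symm
      rw [hall _ h1, hall _ h2]
    · obtain ⟨a, ha, ha1⟩ := exists_ne_one hc
      obtain ⟨b, hb, hb1⟩ := exists_ne_one (RankOnePair_symm hc)
      exact conjBy_commutatorElement_ne hc ha ha1 hb hb1 (conjBy_of_commute fun y hy =>
        ((h' (Subgroup.commutator_mem_commutator ha hb)) y (Subgroup.mem_sup_right hy)).symm)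
  · exact hc

end RootSet

end Cfsg.Agent.RankOne
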