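import Cfsg.Agent.Lib.RankOne.SL2
import Cfsg.Agent.Lib.RankOne.RootSet
import Cfsg.Agent.Lib.SLGen.Cycle
/-!
Transvection root groups of `SL_ι(k)`, `|ι| ≥ 3`: a class of `k`-root subgroups with connected
graph of rank one pairs.
-/

set_option autoImplicit false

namespace Cfsg.Agent.RankOne

open Cfsg Matrix
open scoped MatrixGroups

theorem isRankOnePair_map_injective {G H : Type*} [Group G] [Group H] {A B : Subgroup G}
    (f : G →* H) (hf : Function.Injective f) (h : IsRankOnePair A B) :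
    IsRankOnePair (A.map f) (B.map f) := by
  have key : ∀ {A B : Subgroup G}, RankOneCondition A B → RankOneCondition (A.map f) (B.map f) := by
    rintro A B hc _ ⟨a, ha, rfl⟩ hne
    obtain ⟨b, hb, hb1, hab⟩ := hc a ha fun e => hne (by rw [e, map_one])
    refine ⟨f b, ⟨b, hb, rfl⟩, fun e => hb1 (hf (by rw [e, map_one])), ?_⟩
    rw [← map_inv, ← map_inv, ← map_conjBy, ← map_conjBy, hab]
  refine ⟨fun e => h.ne (Subgroup.map_injective hf e), ?_, ?_, key h.cond_left, key h.cond_right⟩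
  · have := h.nilpotent_left
    exact Group.nilpotent_of_surjective (f.subgroupMap A) (f.subgroupMap_surjective A)
  · have := h.nilpotent_right
    exact Group.nilpotent_of_surjective (f.subgroupMap B) (f.subgroupMap_surjective B)

/-- Two non-zero additive conditions can be met simultaneously. -/
theorem exists_both {V R : Type*} [AddCommGroup V] [AddCommGroup R] (P : V → Prop)
    (hP : ∀ a b, P a → P b → P (a + b)) (f g : V → R) (hf : ∀ a b, f (a + b) = f a + f b)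
    (hg : ∀ a b, g (a + b) = g a + g b) {x y : V} (hx : P x) (hfx : f x ≠ 0) (hy : P y)
    (hgy : g y ≠ 0) : ∃ z, P z ∧ f z ≠ 0 ∧ g z ≠ 0 := by
  by_cases h1 : g x = 0
  · by_cases h2 : f y = 0
    · exact ⟨x + y, hP x y hx hy, by rwa [hf, h2, add_zero], by rwa [hg, h1, zero_add]⟩
    · exact ⟨y, hy, h2, hgy⟩
  · exact ⟨x, hx, hfx, h1⟩

namespace Transv

variable {k : Type*} [Field k] {ι : Type*} [Fintype ι] [DecidableEq ι]
variable {v w φ ψ : ι → k}

local notation "SLι" => Matrix.SpecialLinearGroup ι k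

theorem det_tv (h : φ ⬝ᵥ v = 0) (c : k) : (1 + c • vecMulVec v φ).det = 1 := by
  rw [← smul_vecMulVec, vecMulVec_eq Unit, det_one_add_replicateCol_mul_replicateRow,
    dotProduct_smul, h, smul_zero, add_zero]

/-- The transvection `1 + c v φᵀ`. -/
def tv (h : φ ⬝ᵥ v = 0) (c : k) : SLι := ⟨1 + c • vecMulVec v φ, det_tv h c⟩

theorem coe_tv (h : φ ⬝ᵥ v = 0) (c : k) : (tv h c : Matrix ι ι k) = 1 + c • vecMulVec v φ := rfl

theorem tv_add (h : φ ⬝ᵥ v = 0) (c d : k) : tv h (c + d) = tv h c * tv h d := by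
  apply Subtype.ext
  simp only [Matrix.SpecialLinearGroup.coe_mul, coe_tv, mul_add, add_mul, one_mul, mul_one,
    smul_mul_assoc, mul_smul_comm, vecMulVec_mul_vecMulVec, h, zero_smul, vecMulVec_zero, smul_zero,
    add_zero, add_smul]
  abel

theorem tv_zero (h : φ ⬝ᵥ v = 0) : tv h 0 = 1 := by
  apply Subtype.ext; simp [coe_tv]

theorem vecMulVec_ne_zero (hv : v ≠ 0) (hφ : φ ≠ 0) : vecMulVec v φ ≠ 0 := by
  obtain ⟨i, hi⟩ := Function.ne_iff.1 hv
  obtain ⟨j, hj⟩ := Function.ne_iff.1 hφ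
  exact fun e => mul_ne_zero hi hj (congrFun (congrFun e i) j)

theorem tv_eq_one_iff (h : φ ⬝ᵥ v = 0) (hv : v ≠ 0) (hφ : φ ≠ 0) {c : k} : tv h c = 1 ↔ c = 0 := by
  refine ⟨fun e => ?_, fun e => by rw [e, tv_zero]⟩
  have := congrArg (Subtype.val) e
  simpa [coe_tv, vecMulVec_ne_zero hv hφ] using this

/-- The root group of the pair `(v, φ)`. -/
def root (v φ : ι → k) : Subgroup SLι :=
  Subgroup.closure {g | ∃ c : k, (g : Matrix ι ι k) = 1 + c • vecMulVec v φ}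

/-- `c ↦ 1 + c v φᵀ` as a homomorphism. -/
def tvHom (h : φ ⬝ᵥ v = 0) : Multiplicative k →* SLι where
  toFun c := tv h c.toAdd
  map_one' := tv_zero h
  map_mul' c d := tv_add h c.toAdd d.toAdd

theorem mem_root (h : φ ⬝ᵥ v = 0) {g : SLι} : g ∈ root v φ ↔ ∃ c, g = tv h c := by
  have e : root v φ = (tvHom h).range := by
    refine le_antisymm ?_ ?_
    · rw [root, Subgroup.closure_le]
      rintro x ⟨c, hc⟩
      exact ⟨Multiplicative.ofAdd c, Subtype.ext hc.symm⟩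
    · rintro _ ⟨c, rfl⟩
      exact Subgroup.subset_closure ⟨c.toAdd, rfl⟩
  rw [e]
  exact ⟨fun ⟨c, hc⟩ => ⟨c.toAdd, hc.symm⟩, fun ⟨c, hc⟩ => ⟨Multiplicative.ofAdd c, hc.symm⟩⟩

theorem tv_mem (h : φ ⬝ᵥ v = 0) (c : k) : tv h c ∈ root v φ := (mem_root h).2 ⟨c, rfl⟩

theorem root_smul {a : k} (ha : a ≠ 0) : root (a • v) φ = root v φ := by
  unfold root; congr 1; ext g; constructor
  · rintro ⟨c, hc⟩; exact ⟨c * a, by rw [hc, smul_vecMulVec, smul_smul]⟩
  · rintro ⟨c, hc⟩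
    exact ⟨c / a, by rw [hc, smul_vecMulVec, smul_smul, div_mul_cancel₀ c ha]⟩

theorem root_ne_bot (h : φ ⬝ᵥ v = 0) (hv : v ≠ 0) (hφ : φ ≠ 0) : root v φ ≠ ⊥ := fun e =>
  one_ne_zero ((tv_eq_one_iff h hv hφ).1 (Subgroup.mem_bot.1 (e ▸ tv_mem h (1 : k))))

theorem root_comm (h : φ ⬝ᵥ v = 0) : IsMulCommutative (root v φ) := by
  refine ⟨⟨fun a b => Subtype.ext ?_⟩⟩
  obtain ⟨c, hc⟩ := (mem_root h).1 a.2
  obtain ⟨d, hd⟩ := (mem_root h).1 b.2
  simp only [Subgroup.coe_mul, hc, hd, ← tv_add, add_comm]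

theorem dot_conj (g : SLι) (v φ : ι → k) :
    (φ ᵥ* (g⁻¹ : SLι).1) ⬝ᵥ ((g : Matrix ι ι k) *ᵥ v) = φ ⬝ᵥ v := by
  rw [dotProduct_mulVec, vecMul_vecMul, ← Matrix.SpecialLinearGroup.coe_mul, inv_mul_cancel,
    Matrix.SpecialLinearGroup.coe_one, vecMul_one]

theorem conj_tv (h : φ ⬝ᵥ v = 0) (g : SLι) (c : k) :
    g * tv h c * g⁻¹ = tv ((dot_conj g v φ).trans h) c := by
  apply Subtype.ext
  simp only [Matrix.SpecialLinearGroup.coe_mul, coe_tv, mul_add, add_mul, mul_one, mul_smul_comm,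
    smul_mul_assoc, mul_vecMulVec, vecMulVec_mul]
  rw [← Matrix.SpecialLinearGroup.coe_mul, mul_inv_cancel, Matrix.SpecialLinearGroup.coe_one]

theorem conjBy_root (h : φ ⬝ᵥ v = 0) (g : SLι) :
    conjBy (root v φ) g = root ((g : Matrix ι ι k) *ᵥ v) (φ ᵥ* (g⁻¹ : SLι).1) := by
  ext x
  rw [mem_conjBy, mem_root h, mem_root ((dot_conj g v φ).trans h)]
  refine exists_congr fun c => ?_
  rw [← conj_tv h g c]
  constructor
  · intro e; rw [← e]; group
  · intro e; rw [e]; group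

theorem tv_commute (hv : φ ⬝ᵥ v = 0) (hw : ψ ⬝ᵥ w = 0) (ha : φ ⬝ᵥ w = 0) (hb : ψ ⬝ᵥ v = 0)
    (c d : k) : tv hv c * tv hw d = tv hw d * tv hv c := by
  apply Subtype.ext
  simp only [Matrix.SpecialLinearGroup.coe_mul, coe_tv, mul_add, add_mul, one_mul, mul_one,
    smul_mul_assoc, mul_smul_comm, vecMulVec_mul_vecMulVec, ha, hb, zero_smul, vecMulVec_zero,
    smul_zero, add_zero]
  abel

theorem commutator_root_eq_bot (hv : φ ⬝ᵥ v = 0) (hw : ψ ⬝ᵥ w = 0) (ha : φ ⬝ᵥ w = 0)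
    (hb : ψ ⬝ᵥ v = 0) : ⁅root v φ, root w ψ⁆ = ⊥ := by
  refine commutator_eq_bot_of fun a hma b hmb => ?_
  obtain ⟨c, rfl⟩ := (mem_root hv).1 hma
  obtain ⟨d, rfl⟩ := (mem_root hw).1 hmb
  exact tv_commute hv hw ha hb c d

theorem tv_commutator (hv : φ ⬝ᵥ v = 0) (hw : ψ ⬝ᵥ w = 0) (hb : ψ ⬝ᵥ v = 0) (c d : k) :
    tv hv c * tv hw d * (tv hv c)⁻¹ * (tv hw d)⁻¹ = tv hb (c * d * (φ ⬝ᵥ w)) := by
  have key : tv hv c * tv hw d = tv hb (c * d * (φ ⬝ᵥ w)) * (tv hw d * tv hv c) := by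
    apply Subtype.ext
    simp only [Matrix.SpecialLinearGroup.coe_mul, coe_tv, mul_add, add_mul, one_mul, mul_one,
      smul_mul_assoc, mul_smul_comm, vecMulVec_mul_vecMulVec, hw, hb, zero_smul, vecMulVec_zero,
      smul_zero, add_zero, vecMulVec_smul, smul_smul, smul_add, mul_assoc, mul_left_comm c d]
    abel
  rw [key]; group

/-! ### The rank one groups -/

theorem exists_embedding (hv : φ ⬝ᵥ v = 0) (hw : ψ ⬝ᵥ w = 0) (ha : φ ⬝ᵥ w ≠ 0) (hb : ψ ⬝ᵥ v ≠ 0) :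
    ∃ f : SL(2, k) →* SLι, Function.Injective f ∧
      (upperUnipotentSL2 k).map f = root v φ ∧ (lowerUnipotentSL2 k).map f = root w ψ ∧
      (∀ t, f (upSL t) = tv hv (t / (φ ⬝ᵥ w))) ∧ ∀ t, f (loSL t) = tv hw (t / (ψ ⬝ᵥ v)) := by
  set a := φ ⬝ᵥ w with hadef
  set b := ψ ⬝ᵥ v with hbdef
  set Q : Matrix ι (Fin 2) k := Matrix.of fun i j => ![v i, w i] j
  set P : Matrix (Fin 2) ι k := Matrix.of fun i j => ![b⁻¹ * ψ j, a⁻¹ * φ j] i
  have hPQ : P * Q = 1 := by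
    ext i j
    have e : ∀ (s : k) (x y : ι → k), ∑ l, s * x l * y l = s * (x ⬝ᵥ y) := fun s x y => by
      rw [dotProduct, Finset.mul_sum]; exact Finset.sum_congr rfl fun l _ => by ring
    fin_cases i <;> fin_cases j <;> simp [P, Q, Matrix.mul_apply, e, hv, hw, ← hadef, ← hbdef, ha, hb]
  have hdet : ∀ M : SL(2, k), (1 + Q * ((M : Matrix (Fin 2) (Fin 2) k) - 1) * P).det = 1 :=
    fun M => by
      rw [det_one_add_mul_comm, ← Matrix.mul_assoc, hPQ, Matrix.one_mul, add_sub_cancel, M.2]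
  let f : SL(2, k) →* SLι :=
    MonoidHom.mk' (fun M => ⟨1 + Q * ((M : Matrix (Fin 2) (Fin 2) k) - 1) * P, hdet M⟩) fun M N =>
      Subtype.ext (by
        change 1 + Q * ((M : Matrix (Fin 2) (Fin 2) k) * (N : Matrix (Fin 2) (Fin 2) k) - 1) * P =
          (1 + Q * ((M : Matrix (Fin 2) (Fin 2) k) - 1) * P) *
            (1 + Q * ((N : Matrix (Fin 2) (Fin 2) k) - 1) * P)
        rw [show (M : Matrix (Fin 2) (Fin 2) k) * (N : Matrix (Fin 2) (Fin 2) k) - 1 =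
          ((M : Matrix (Fin 2) (Fin 2) k) - 1) + ((N : Matrix (Fin 2) (Fin 2) k) - 1) +
            ((M : Matrix (Fin 2) (Fin 2) k) - 1) * (P * Q) * ((N : Matrix (Fin 2) (Fin 2) k) - 1) by
          rw [hPQ, mul_one]; noncomm_ring]
        generalize (M : Matrix (Fin 2) (Fin 2) k) - 1 = A
        generalize (N : Matrix (Fin 2) (Fin 2) k) - 1 = B
        simp only [Matrix.mul_add, Matrix.add_mul, Matrix.mul_assoc, Matrix.one_mul, Matrix.mul_one]
        abel)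
  have hfM : ∀ M, (f M : Matrix ι ι k) = 1 + Q * ((M : Matrix (Fin 2) (Fin 2) k) - 1) * P :=
    fun _ => rfl
  have hf : Function.Injective f := fun M N e => Subtype.ext (by
    have e' : 1 + Q * ((M : Matrix (Fin 2) (Fin 2) k) - 1) * P =
        1 + Q * ((N : Matrix (Fin 2) (Fin 2) k) - 1) * P := congrArg Subtype.val e
    have := congrArg (fun X => P * X * Q) (add_left_cancel e')
    simp only [← Matrix.mul_assoc, hPQ, Matrix.one_mul] at this
    simp only [Matrix.mul_assoc, hPQ, Matrix.mul_one] at this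
    exact sub_left_inj.1 this)
  have hup : ∀ t, f (upSL t) = tv hv (t / a) := fun t => by
    apply Subtype.ext
    rw [hfM, coe_tv, coe_upSL]
    ext i j
    simp [Q, P, Matrix.mul_apply, Fin.sum_univ_two, vecMulVec_apply]
    ring
  have hlo : ∀ t, f (loSL t) = tv hw (t / b) := fun t => by
    apply Subtype.ext
    rw [hfM, coe_tv, coe_loSL]
    ext i j
    simp [Q, P, Matrix.mul_apply, Fin.sum_univ_two, vecMulVec_apply]
    ring
  have hA : (upperUnipotentSL2 k).map f = root v φ := by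
    ext x
    rw [mem_root hv]
    constructor
    · rintro ⟨y, hy, rfl⟩
      obtain ⟨t, rfl⟩ := mem_upperUnipotentSL2.1 hy
      exact ⟨t / a, hup t⟩
    · rintro ⟨c, rfl⟩
      exact ⟨upSL (c * a), upSL_mem _, by rw [hup, mul_div_cancel_right₀ c ha]⟩
  have hB : (lowerUnipotentSL2 k).map f = root w ψ := by
    ext x
    rw [mem_root hw]
    constructor
    · rintro ⟨y, hy, rfl⟩
      obtain ⟨t, rfl⟩ := mem_lowerUnipotentSL2.1 hy
      exact ⟨t / b, hlo t⟩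
    · rintro ⟨c, rfl⟩
      exact ⟨loSL (c * b), loSL_mem _, by rw [hlo, mul_div_cancel_right₀ c hb]⟩
  exact ⟨f, hf, hA, hB, hup, hlo⟩

theorem psl2Pair (hv : φ ⬝ᵥ v = 0) (hw : ψ ⬝ᵥ w = 0) (ha : φ ⬝ᵥ w ≠ 0) (hb : ψ ⬝ᵥ v ≠ 0) :
    IsRankOnePair (root v φ) (root w ψ) ∧ IsPSL2PairOver k (root v φ) (root w ψ) := by
  obtain ⟨f, hf, hA, hB, -, -⟩ := exists_embedding hv hw ha hb
  refine ⟨hA ▸ hB ▸ isRankOnePair_map_injective f hf (RankOnePair_symm isRankOnePair_SL2),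
    f, ?_, ?_, hA, hB⟩
  · rw [MonoidHom.range_eq_map, ← lower_sup_upper, Subgroup.map_sup, hA, hB, sup_comm]
  · rw [(MonoidHom.ker_eq_bot_iff f).2 hf]; exact bot_le

/-! ### The class -/

/-- All transvection root groups. -/
def roots (k : Type*) [Field k] (ι : Type*) [Fintype ι] [DecidableEq ι] :
    Set (Subgroup (Matrix.SpecialLinearGroup ι k)) :=
  {A | ∃ v φ : ι → k, v ≠ 0 ∧ φ ≠ 0 ∧ φ ⬝ᵥ v = 0 ∧ A = root v φ}

theorem root_mem (hv0 : v ≠ 0) (hφ0 : φ ≠ 0) (h : φ ⬝ᵥ v = 0) : root v φ ∈ roots k ι :=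
  ⟨v, φ, hv0, hφ0, h, rfl⟩

theorem case_root (hv : φ ⬝ᵥ v = 0) (hw : ψ ⬝ᵥ w = 0) (ha : φ ⬝ᵥ w ≠ 0) (hb : ψ ⬝ᵥ v = 0)
    (hv0 : v ≠ 0) (hφ0 : φ ≠ 0) (hw0 : w ≠ 0) (hψ0 : ψ ≠ 0) :
    RootCommutatorCase (roots k ι) (root v φ) (root w ψ) := by
  have hcomm : ⁅root v φ, root w ψ⁆ = root v ψ := by
    refine le_antisymm (Subgroup.commutator_le.2 fun a hma b hmb => ?_) fun x hx => ?_
    · obtain ⟨c, rfl⟩ := (mem_root hv).1 hma
      obtain ⟨d, rfl⟩ := (mem_root hw).1 hmb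
      rw [commutatorElement_def, tv_commutator hv hw hb]
      exact tv_mem _ _
    · obtain ⟨e, rfl⟩ := (mem_root hb).1 hx
      have := Subgroup.commutator_mem_commutator (tv_mem hv (1 : k))
        (tv_mem hw (e / (φ ⬝ᵥ w)))
      rwa [commutatorElement_def, tv_commutator hv hw hb, one_mul, div_mul_cancel₀ e ha] at this
  have hcl : ∀ (F : k → SLι), (∀ e, ∃ d, F d = tv hb e) → ∀ T : Set SLι,
      (∀ d, F d ∈ T) → T ⊆ (root v ψ : Set SLι) → Subgroup.closure T = root v ψ := by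
    intro F hF T hT hsub
    refine le_antisymm ((Subgroup.closure_le _).2 hsub) fun x hx => ?_
    obtain ⟨e, rfl⟩ := (mem_root hb).1 hx
    obtain ⟨d, hd⟩ := hF e
    exact Subgroup.subset_closure (hd ▸ hT d)
  refine ⟨hcomm ▸ root_mem hv0 hψ0 hb, ?_, ?_, ?_⟩
  · rw [hcomm]
    intro x hx y hy
    obtain ⟨e, rfl⟩ := (mem_root hb).1 hx
    have hle : root v φ ⊔ root w ψ ≤ Subgroup.centralizer {tv hb e} := by
      refine sup_le (fun z hz => ?_) fun z hz => ?_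
      · obtain ⟨c, rfl⟩ := (mem_root hv).1 hz
        rw [Subgroup.mem_centralizer_singleton_iff]
        exact tv_commute hv hb hv hb c e
      · obtain ⟨d, rfl⟩ := (mem_root hw).1 hz
        rw [Subgroup.mem_centralizer_singleton_iff]
        exact tv_commute hw hb hb hw d e
    exact (Subgroup.mem_centralizer_singleton_iff.1 (hle hy)).symm
  · intro a hma ha1
    obtain ⟨c, rfl⟩ := (mem_root hv).1 hma
    rw [ne_eq, tv_eq_one_iff hv hv0 hφ0] at ha1
    rw [hcomm]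
    refine hcl (fun d => tv hb (c * d * (φ ⬝ᵥ w))) (fun e => ⟨e / (c * (φ ⬝ᵥ w)), ?_⟩) _
      (fun d => ⟨tv hw d, tv_mem hw d, tv_commutator hv hw hb c d⟩) ?_
    · congr 1; field_simp
    · rintro _ ⟨b, hmb, rfl⟩
      obtain ⟨d, rfl⟩ := (mem_root hw).1 hmb
      simp only [tv_commutator hv hw hb]
      exact tv_mem _ _
  · intro b hmb hb1
    obtain ⟨d, rfl⟩ := (mem_root hw).1 hmb
    rw [ne_eq, tv_eq_one_iff hw hw0 hψ0] at hb1
    rw [hcomm]
    refine hcl (fun c => tv hb (c * d * (φ ⬝ᵥ w))) (fun e => ⟨e / (d * (φ ⬝ᵥ w)), ?_⟩) _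
      (fun c => ⟨tv hv c, tv_mem hv c, tv_commutator hv hw hb c d⟩) ?_
    · congr 1; field_simp
    · rintro _ ⟨a, hma, rfl⟩
      obtain ⟨c, rfl⟩ := (mem_root hv).1 hma
      simp only [tv_commutator hv hw hb]
      exact tv_mem _ _

theorem trichotomy (hv : φ ⬝ᵥ v = 0) (hw : ψ ⬝ᵥ w = 0) (hv0 : v ≠ 0) (hφ0 : φ ≠ 0) (hw0 : w ≠ 0)
    (hψ0 : ψ ≠ 0) :
    ⁅root v φ, root w ψ⁆ = ⊥ ∨
      (IsRankOnePair (root v φ) (root w ψ) ∧ IsPSL2PairOver k (root v φ) (root w ψ)) ∨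
      RootCommutatorCase (roots k ι) (root v φ) (root w ψ) := by
  by_cases ha : φ ⬝ᵥ w = 0 <;> by_cases hb : ψ ⬝ᵥ v = 0
  · exact Or.inl (commutator_root_eq_bot hv hw ha hb)
  · exact Or.inr (Or.inr (case_symm (case_root hw hv hb ha hw0 hψ0 hv0 hφ0)))
  · exact Or.inr (Or.inr (case_root hv hw ha hb hv0 hφ0 hw0 hψ0))
  · exact Or.inr (Or.inl (psl2Pair hv hw ha hb))

theorem conj_mem (A : Subgroup SLι) (hA : A ∈ roots k ι) (g : SLι) : conjBy A g ∈ roots k ι := by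
  obtain ⟨v, φ, hv0, hφ0, h, rfl⟩ := hA
  rw [conjBy_root h]
  refine root_mem (fun e => hv0 ?_) (fun e => hφ0 ?_) ((dot_conj g v φ).trans h)
  · have := congrArg (fun x => (g⁻¹ : SLι).1 *ᵥ x) e
    rwa [mulVec_mulVec, ← Matrix.SpecialLinearGroup.coe_mul, inv_mul_cancel,
      Matrix.SpecialLinearGroup.coe_one, one_mulVec, mulVec_zero] at this
  · have := congrArg (fun x => x ᵥ* (g : Matrix ι ι k)) e
    rwa [vecMul_vecMul, ← Matrix.SpecialLinearGroup.coe_mul, inv_mul_cancel,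
      Matrix.SpecialLinearGroup.coe_one, vecMul_one, zero_vecMul] at this

theorem single_ne (i : ι) : (Pi.single i 1 : ι → k) ≠ 0 := fun e => by
  simpa using congrFun e i

theorem single_dot (i j : ι) : (Pi.single j 1 : ι → k) ⬝ᵥ Pi.single i 1 = if j = i then 1 else 0 := by
  simp [Pi.single_apply, eq_comm]

theorem transvection_eq (i j : ι) (c : k) :
    Matrix.transvection i j c = 1 + c • vecMulVec (Pi.single i 1) (Pi.single j 1) := by
  ext a b
  simp [Matrix.transvection, Matrix.single_apply, vecMulVec_apply, Pi.single_apply, ite_and, eq_comm]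
  split_ifs <;> simp_all

theorem generates [Nontrivial ι] : (⨆ A ∈ roots k ι, A) = ⊤ := by
  rw [eq_top_iff]
  intro g _
  refine SLGen.mem_of_all_transvections _ (fun i j hij c => ?_) g
  have hd : (Pi.single j 1 : ι → k) ⬝ᵥ Pi.single i 1 = 0 := by rw [single_dot, if_neg hij.symm]
  refine Subgroup.mem_iSup_of_mem _ (Subgroup.mem_iSup_of_mem (root_mem (single_ne i) (single_ne j) hd)
    ((mem_root hd).2 ⟨c, Subtype.ext ?_⟩))
  rw [SLGen.tv_coe, transvection_eq]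
  rfl

/-- `SL` is transitive on incident point-hyperplane pairs. -/
theorem exists_sl {p q r : ι} (hpq : p ≠ q) (hpr : p ≠ r) (hqr : q ≠ r) (hv0 : v ≠ 0) (hφ0 : φ ≠ 0)
    (h : φ ⬝ᵥ v = 0) :
    ∃ g : SLι, (g : Matrix ι ι k) *ᵥ Pi.single p 1 = v ∧ φ ᵥ* (g : Matrix ι ι k) = Pi.single q 1 := by
  obtain ⟨i, hi⟩ := Function.ne_iff.1 hv0
  obtain ⟨j, hji, hj⟩ : ∃ j, j ≠ i ∧ φ j ≠ 0 := by
    by_contra hcon
    push Not at hcon
    refine hφ0 (funext fun l => ?_)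
    rcases eq_or_ne l i with rfl | hl
    · rw [dotProduct, Finset.sum_eq_single l (fun m _ hm => by rw [hcon m hm, zero_mul])
        (fun hl => absurd (Finset.mem_univ l) hl)] at h
      exact (mul_eq_zero.1 h).resolve_right hi
    · exact hcon l hl
  obtain ⟨σ, hσp, hσq⟩ : ∃ σ : Equiv.Perm ι, σ p = i ∧ σ q = j := by
    refine ⟨Equiv.swap (Equiv.swap p i q) j * Equiv.swap p i, ?_, ?_⟩
    · rw [Equiv.Perm.mul_apply, Equiv.swap_apply_left, Equiv.swap_apply_of_ne_of_ne ?_ hji.symm]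
      intro e
      exact hpq ((Equiv.swap p i).injective (by rw [Equiv.swap_apply_left]; exact e))
    · rw [Equiv.Perm.mul_apply, Equiv.swap_apply_left]
  let y : (ι → k) → ι → k := fun x =>
    (fun l => if l = i ∨ l = j then 0 else x (σ.symm l)) + x p • v
  let L : (ι → k) →ₗ[k] ι → k :=
    { toFun := fun x => y x + ((x q - φ ⬝ᵥ y x) / φ j) • Pi.single j 1
      map_add' := fun a b => by
        have e : y (a + b) = y a + y b := by
          ext l; simp only [y, Pi.add_apply, Pi.smul_apply, smul_eq_mul]; split_ifs <;> ring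
        ext l
        simp only [e, dotProduct_add, Pi.add_apply, Pi.smul_apply, smul_eq_mul]; ring
      map_smul' := fun c a => by
        have e : y (c • a) = c • y a := by
          ext l; simp only [y, Pi.add_apply, Pi.smul_apply, smul_eq_mul]; split_ifs <;> ring
        ext l
        simp only [e, dotProduct_smul, RingHom.id_apply, Pi.add_apply, Pi.smul_apply, smul_eq_mul]
        ring }
  have hL : ∀ x, L x = y x + ((x q - φ ⬝ᵥ y x) / φ j) • Pi.single j 1 := fun _ => rfl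
  have hφL : ∀ x, φ ⬝ᵥ L x = x q := fun x => by
    rw [hL, dotProduct_add, dotProduct_smul, dotProduct_single, mul_one, smul_eq_mul,
      div_mul_cancel₀ _ hj, add_sub_cancel]
  have hinj : Function.Injective L := by
    rw [← LinearMap.ker_eq_bot, Submodule.eq_bot_iff]
    intro x hx
    rw [LinearMap.mem_ker] at hx
    have hxq : x q = 0 := by rw [← hφL x, hx, dotProduct_zero]
    have hxp : x p = 0 := by
      have := congrFun hx i
      rw [hL] at this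
      simp only [y, Pi.add_apply, Pi.smul_apply, smul_eq_mul, true_or, if_true, Pi.zero_apply,
        Pi.single_eq_of_ne hji.symm, mul_zero, add_zero, zero_add] at this
      exact (mul_eq_zero.1 this).resolve_right hi
    ext m
    rcases eq_or_ne m p with rfl | hmp
    · exact hxp
    rcases eq_or_ne m q with rfl | hmq
    · exact hxq
    have h1 : σ m ≠ i := fun e => hmp (σ.injective (e.trans hσp.symm))
    have h2 : σ m ≠ j := fun e => hmq (σ.injective (e.trans hσq.symm))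
    have := congrFun hx (σ m)
    rw [hL] at this
    simpa [y, h1, h2, hxp, Pi.single_eq_of_ne h2] using this
  set g₀ : Matrix ι ι k := LinearMap.toMatrix' L with hg₀
  have hmul : ∀ x, g₀ *ᵥ x = L x := fun x => by rw [hg₀, LinearMap.toMatrix'_mulVec]
  have hd : g₀.det ≠ 0 := by
    refine IsUnit.ne_zero ((Matrix.isUnit_iff_isUnit_det _).1 ?_)
    refine Matrix.mulVec_injective_iff_isUnit.1 fun a b e => hinj ?_
    simpa only [hmul] using e
  have hgp : g₀ *ᵥ Pi.single p 1 = v := by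
    have hy : y (Pi.single p 1) = v := by
      ext l
      simp only [y, Pi.add_apply, Pi.smul_apply, Pi.single_eq_same, one_smul]
      split_ifs with hl
      · exact zero_add _
      · push Not at hl
        rw [Pi.single_eq_of_ne, zero_add]
        intro e
        exact hl.1 (by rw [← hσp, ← e, Equiv.apply_symm_apply])
    rw [hmul, hL, hy, Pi.single_eq_of_ne hpq.symm, h, sub_zero, zero_div, zero_smul, add_zero]
  have hgq : φ ᵥ* g₀ = Pi.single q 1 := funext fun m => by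
    have := hφL (Pi.single m 1)
    rw [← hmul, dotProduct_mulVec, dotProduct_single, mul_one] at this
    rw [this]; simp [Pi.single_apply, eq_comm]
  have hdd : (g₀ * diagonal (Function.update (1 : ι → k) r g₀.det⁻¹)).det = 1 := by
    rw [det_mul, det_diagonal, Finset.prod_update_of_mem (Finset.mem_univ r)]
    simp [hd]
  refine ⟨⟨_, hdd⟩, ?_, ?_⟩
  · change (g₀ * _) *ᵥ _ = _
    rw [← mulVec_mulVec, show diagonal (Function.update (1 : ι → k) r g₀.det⁻¹) *ᵥ Pi.single p 1 =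
      Pi.single p 1 by ext l; by_cases hl : l = p <;> simp [mulVec_diagonal, hl, hpr], hgp]
  · change φ ᵥ* (g₀ * _) = _
    rw [← vecMul_vecMul, hgq]
    ext l; by_cases hl : l = q <;> simp [vecMul_diagonal, hl, hqr]

theorem exists_conjBy {p q r : ι} (hpq : p ≠ q) (hpr : p ≠ r) (hqr : q ≠ r) {A : Subgroup SLι}
    (hA : A ∈ roots k ι) :
    ∃ g : SLι, A = conjBy (root (Pi.single p 1) (Pi.single q 1)) g := by
  obtain ⟨v, φ, hv0, hφ0, h, rfl⟩ := hA
  obtain ⟨g, hgp, hgq⟩ := exists_sl hpq hpr hqr hv0 hφ0 h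
  refine ⟨g, ?_⟩
  rw [conjBy_root (by rw [single_dot, if_neg hpq.symm]), hgp, ← hgq, vecMul_vecMul,
    ← Matrix.SpecialLinearGroup.coe_mul, mul_inv_cancel, Matrix.SpecialLinearGroup.coe_one,
    vecMul_one]

theorem fAdj_common {A B : Subgroup SLι} (hA : A ∈ roots k ι) (hB : B ∈ roots k ι) :
    ∃ C, FAdj (roots k ι) A C ∧ FAdj (roots k ι) C B := by
  obtain ⟨v, φ, hv0, hφ0, hv, rfl⟩ := hA
  obtain ⟨w, ψ, hw0, hψ0, hw, rfl⟩ := hB
  obtain ⟨i, hi⟩ := Function.ne_iff.1 hφ0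
  obtain ⟨j, hj⟩ := Function.ne_iff.1 hψ0
  obtain ⟨u, -, hu1, hu2⟩ := exists_both (fun _ => True) (fun _ _ _ _ => trivial) (φ ⬝ᵥ ·) (ψ ⬝ᵥ ·)
    (fun a b => dotProduct_add φ a b) (fun a b => dotProduct_add ψ a b) (x := Pi.single i 1)
    (y := Pi.single j 1) trivial (by simpa using hi) trivial (by simpa using hj)
  have key : ∀ {v φ : ι → k}, v ≠ 0 → φ ⬝ᵥ v = 0 → φ ⬝ᵥ u ≠ 0 →
      ∃ χ : ι → k, χ ⬝ᵥ u = 0 ∧ χ ⬝ᵥ v ≠ 0 := by
    intro v φ hv0 hv hu
    obtain ⟨l, hl⟩ := Function.ne_iff.1 hv0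
    refine ⟨Pi.single l 1 - (u l / (φ ⬝ᵥ u)) • φ, ?_, ?_⟩
    · rw [sub_dotProduct, smul_dotProduct, single_dotProduct, one_mul, smul_eq_mul,
        div_mul_cancel₀ _ hu, sub_self]
    · rw [sub_dotProduct, smul_dotProduct, hv, smul_zero, sub_zero, single_dotProduct, one_mul]
      exact hl
  obtain ⟨x, hx, hxv⟩ := key hv0 hv hu1
  obtain ⟨y, hy, hyw⟩ := key hw0 hw hu2
  obtain ⟨χ, hχ, hχv, hχw⟩ := exists_both (fun z => z ⬝ᵥ u = 0)
    (fun a b ha hb => by rw [add_dotProduct, ha, hb, add_zero]) (· ⬝ᵥ v) (· ⬝ᵥ w)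
    (fun a b => add_dotProduct a b v) (fun a b => add_dotProduct a b w) hx hxv hy hyw
  have hu0 : u ≠ 0 := fun e => hu1 (by simp [e])
  have hχ0 : χ ≠ 0 := fun e => hχv (by simp [e])
  exact ⟨root u χ,
    ⟨root_mem hv0 hφ0 hv, root_mem hu0 hχ0 hχ, (psl2Pair hv hχ hu1 hχv).1⟩,
    ⟨root_mem hu0 hχ0 hχ, root_mem hw0 hψ0 hw, (psl2Pair hχ hw hχw hu2).1⟩⟩

theorem root_ne_root {p q r : ι} (hqr : q ≠ r) (hpq : p ≠ q) (hpr : p ≠ r) :
    root (k := k) (Pi.single p 1) (Pi.single q 1) ≠ root (Pi.single p 1) (Pi.single r 1) := by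
  intro e
  have h1 : (Pi.single q 1 : ι → k) ⬝ᵥ Pi.single p 1 = 0 := by rw [single_dot, if_neg hpq.symm]
  have h2 : (Pi.single r 1 : ι → k) ⬝ᵥ Pi.single p 1 = 0 := by rw [single_dot, if_neg hpr.symm]
  obtain ⟨c, hc⟩ := (mem_root h2).1 (e ▸ tv_mem h1 (1 : k))
  have := congrFun (congrFun (congrArg Subtype.val hc) p) q
  simp [coe_tv, vecMulVec_apply, hqr, hpq] at this

theorem roots_spec [Nontrivial ι] {p q r : ι} (hpq : p ≠ q) (hpr : p ≠ r) (hqr : q ≠ r) :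
    IsRootSubgroupClass (roots k ι) ∧ IsNondegenerateRootSet (roots k ι) ∧
      IsKRootSubgroupSet k (roots k ι) ∧ IsConnectedFamily (FAdj (roots k ι)) (roots k ι) := by
  have hset : IsRootSubgroupSet (roots k ι) := by
    refine ⟨?_, ?_, generates, conj_mem, ?_⟩
    · rintro _ ⟨v, φ, -, -, h, rfl⟩; exact root_comm h
    · rintro _ ⟨v, φ, hv0, hφ0, h, rfl⟩; exact root_ne_bot h hv0 hφ0
    · rintro _ ⟨v, φ, hv0, hφ0, hv, rfl⟩ _ ⟨w, ψ, hw0, hψ0, hw, rfl⟩
      exact (trichotomy hv hw hv0 hφ0 hw0 hψ0).imp_right (Or.imp_left And.left)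
  have hd : ∀ {i j : ι}, i ≠ j → (Pi.single j 1 : ι → k) ⬝ᵥ Pi.single i 1 = 0 := fun hij => by
    rw [single_dot, if_neg hij.symm]
  have hm : ∀ {i j : ι}, i ≠ j → root (Pi.single i 1) (Pi.single j 1) ∈ roots k ι :=
    fun hij => root_mem (single_ne _) (single_ne _) (hd hij)
  have h11 : ∀ i : ι, (Pi.single i 1 : ι → k) ⬝ᵥ Pi.single i 1 ≠ 0 := fun i => by
    rw [single_dot, if_pos rfl]; exact one_ne_zero
  refine ⟨⟨hset, ⟨_, hm hpq⟩, fun A hA B hB => ?_⟩, ⟨?_, ?_, ?_⟩, ⟨hset, ?_⟩, fun A hA B hB => ?_⟩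
  · obtain ⟨g, rfl⟩ := exists_conjBy hpq hpr hqr hA
    obtain ⟨g', rfl⟩ := exists_conjBy hpq hpr hqr hB
    exact ⟨g' * g⁻¹, by rw [conjBy_conjBy, inv_mul_cancel_right]⟩
  · exact ⟨_, hm hpq, _, hm hpr, root_ne_root hqr hpq hpr,
      commutator_root_eq_bot (hd hpq) (hd hpr) (hd hpq) (hd hpr)⟩
  · exact ⟨_, hm hpq, _, hm hpq.symm, (psl2Pair (hd hpq) (hd hpq.symm) (h11 q) (h11 p)).1⟩
  · exact ⟨_, hm hpq, _, hm hqr, case_root (hd hpq) (hd hqr) (h11 q) (hd hpr) (single_ne _)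
      (single_ne _) (single_ne _) (single_ne _)⟩
  · rintro _ ⟨v, φ, hv0, hφ0, hv, rfl⟩ _ ⟨w, ψ, hw0, hψ0, hw, rfl⟩ hp
    rcases trichotomy hv hw hv0 hφ0 hw0 hψ0 with h | h | h
    · exact absurd h (commutator_ne_bot hp)
    · exact h.2
    · exfalso
      obtain ⟨a, ha, ha1⟩ := exists_ne_one hp
      obtain ⟨b, hb, hb1⟩ := exists_ne_one (RankOnePair_symm hp)
      exact conjBy_commutatorElement_ne hp ha ha1 hb hb1 (conjBy_of_commute fun y hy =>
        (central_of_case h (Subgroup.commutator_mem_commutator ha hb) (Subgroup.mem_sup_right hy)).eq)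
  · obtain ⟨C, h1, h2⟩ := fAdj_common hA hB
    exact (Relation.ReflTransGen.single h1).tail h2

end Transv

end Cfsg.Agent.RankOne
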