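import Cfsg.Agent.Lib.RankOne.SL2
import Cfsg.Agent.Lib.RankOne.RootSet
import Cfsg.Agent.Lib.RankOne.Transv
/-!
Degenerate sets of `k`-root subgroups given by injective copies of `SL₂(k)`: `degenerate_spec`.
-/

set_option autoImplicit false

namespace Cfsg.Agent.RankOne

open Cfsg
open scoped MatrixGroups

variable {G : Type*} [Group G]

/-- `A`, `B` are the unitriangular subgroups of an embedded `SL₂(k)`. -/
def SL2Pair (k : Type*) [Field k] (A B : Subgroup G) : Prop :=
  ∃ f : SL(2, k) →* G, Function.Injective f ∧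
    (upperUnipotentSL2 k).map f = A ∧ (lowerUnipotentSL2 k).map f = B

theorem SL2Pair.rankOne {k : Type*} [Field k] {A B : Subgroup G} (h : SL2Pair k A B) :
    IsRankOnePair A B := by
  obtain ⟨f, hf, hA, hB⟩ := h
  exact hA ▸ hB ▸ isRankOnePair_map_injective f hf (RankOnePair_symm isRankOnePair_SL2)

theorem SL2Pair.psl2 {k : Type*} [Field k] {A B : Subgroup G} (h : SL2Pair k A B) :
    IsPSL2PairOver k A B := by
  obtain ⟨f, hf, hA, hB⟩ := h
  refine ⟨f, ?_, ?_, hA, hB⟩
  · rw [MonoidHom.range_eq_map, ← lower_sup_upper, Subgroup.map_sup, hA, hB, sup_comm]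
  · rw [(MonoidHom.ker_eq_bot_iff f).2 hf]; exact bot_le

theorem degenerate_spec (k : Type*) [Field k] {S : Set (Subgroup G)} (hne : S.Nonempty)
    (hcomm : ∀ A ∈ S, IsMulCommutative A) (hbot : ∀ A ∈ S, A ≠ ⊥) (hgen : (⨆ A ∈ S, A) = ⊤)
    (hconj : ∀ A ∈ S, ∀ g : G, conjBy A g ∈ S)
    (hpair : ∀ A ∈ S, ∀ B ∈ S, ⁅A, B⁆ = ⊥ ∨ SL2Pair k A B)
    (hconn : IsConnectedFamily (FAdj S) S) :
    IsRootSubgroupClass S ∧ IsDegenerateRootSet S ∧ IsKRootSubgroupSet k S := by
  have hS : IsRootSubgroupSet S := ⟨hcomm, hbot, hgen, hconj, fun A hA B hB =>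
    (hpair A hA B hB).imp_right fun h => Or.inl h.rankOne⟩
  refine ⟨⟨hS, hne, fun A hA B hB => ?_⟩, fun A hA B hB hc => ?_, hS, fun A hA B hB h => ?_⟩
  · have := hconn A hA B hB
    clear hB
    induction this with
    | refl => exact ⟨1, (conjBy_one A).symm⟩
    | @tail X Y _ e ih =>
      obtain ⟨g, rfl⟩ := ih
      obtain ⟨x, -, hx⟩ := exists_conjBy_swap e.2.2
      exact ⟨x * g, by rw [← hx, conjBy_conjBy]⟩
  · rcases hpair A hA B hB with h | h
    · exact case_ne_bot hS hc h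
    · obtain ⟨a, ha, ha1⟩ := exists_ne_one h.rankOne
      obtain ⟨b, hb, hb1⟩ := exists_ne_one (RankOnePair_symm h.rankOne)
      exact conjBy_commutatorElement_ne h.rankOne ha ha1 hb hb1 (conjBy_of_commute fun y hy =>
        (central_of_case hc (Subgroup.commutator_mem_commutator ha hb) (Subgroup.mem_sup_right hy)).eq)
  · exact ((hpair A hA B hB).resolve_left (commutator_ne_bot h)).psl2

end Cfsg.Agent.RankOne
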