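import Cfsg.Agent.Lib.RankOne.PairSpec
import Cfsg.Agent.Lib.Orth.Eichler

/-!
Siegel transvection groups of singular lines in an orthogonal group.
* `T Q p r`, `mem_T` : the group of the line spanned by `p, r` is `{eich Q p (c • r)}`
* `line_trichotomy` : commute / embedded `SL₂` / commutator case
* `line_connected` : the graph of rank one pairs is connected
-/

set_option autoImplicit false
set_option linter.unusedSectionVars false

namespace Cfsg.Agent.RankOne.Siegel

open Cfsg Matrix Module Cfsg.Agent.Orth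
open QuadraticMap (polar)
open scoped MatrixGroups commutatorElement

variable {ι : Type} [Fintype ι] [DecidableEq ι] {F : Type*} [Field F]
variable {Q : QuadraticForm F (ι → F)}

/-- A pair spanning a singular line. -/
structure Line (Q : QuadraticForm F (ι → F)) (p r : ι → F) : Prop where
  qp : Q p = 0
  qr : Q r = 0
  pr : polar ⇑Q p r = 0
  ind : LinearIndependent F ![p, r]

/-- The group of the line spanned by `p` and `r`. -/
def T (Q : QuadraticForm F (ι → F)) (p r : ι → F) : Subgroup (IsoGrp Q) :=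
  Subgroup.closure {σ : IsoGrp Q | ∀ v : ι → F, polar ⇑Q v p = 0 → polar ⇑Q v r = 0 → ap σ v = v}

theorem rp {p r : ι → F} (h : Line Q p r) : polar ⇑Q r p = 0 := by rw [pl_comm]; exact h.pr

theorem ne_left {p r : ι → F} (h : Line Q p r) : p ≠ 0 := fun e => h.ind.ne_zero 0 (by simpa using e)

theorem ne_right {p r : ι → F} (h : Line Q p r) : r ≠ 0 := fun e => h.ind.ne_zero 1 (by simpa using e)

theorem symm {p r : ι → F} (h : Line Q p r) : Line Q r p := by
  refine ⟨h.qr, h.qp, rp h, ?_⟩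
  have := h.ind
  rw [LinearIndependent.pair_iff] at this ⊢
  intro s t e
  exact (this t s (by rw [add_comm]; exact e)).symm

theorem ind_iff {p r : ι → F} (hp : p ≠ 0) : LinearIndependent F ![p, r] ↔ r ∉ (F ∙ p) := by
  rw [LinearIndependent.pair_iff' hp, Submodule.mem_span_singleton, not_exists]

theorem exists_dual (hQ : Q.polarBilin.Nondegenerate) {p r : ι → F} (h : Line Q p r) :
    ∃ a b, polar ⇑Q p a = 1 ∧ polar ⇑Q r a = 0 ∧ polar ⇑Q p b = 0 ∧ polar ⇑Q r b = 1 := by
  have hW : ∀ x ∈ (⊤ : Submodule F (ι → F)), x ≠ 0 → ∃ y ∈ (⊤ : Submodule F (ι → F)), polar ⇑Q x y ≠ 0 :=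
    fun x _ hx => by obtain ⟨y, hy⟩ := exists_polar_ne hQ hx; exact ⟨y, trivial, hy⟩
  obtain ⟨a, -, ha1, ha2⟩ := exists_sep hW (z := p) (z2 := r) trivial trivial (ne_right h)
    ((ind_iff (ne_right h)).1 (symm h).ind)
  obtain ⟨b, -, hb1, hb2⟩ := exists_sep hW (z := r) (z2 := p) trivial trivial (ne_left h)
    ((ind_iff (ne_left h)).1 h.ind)
  exact ⟨(polar ⇑Q p a)⁻¹ • a, (polar ⇑Q r b)⁻¹ • b, by simp [pl_smul_right, ha2],
    by simp [pl_smul_right, ha1], by simp [pl_smul_right, hb1], by simp [pl_smul_right, hb2]⟩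

theorem x_hyp {p r : ι → F} (h : Line Q p r) (c : F) : polar ⇑Q p (c • r) = 0 := by
  rw [pl_smul_right, h.pr, mul_zero]

theorem x_ap {p r : ι → F} (h : Line Q p r) (c : F) (v : ι → F) :
    ap (eich Q p (c • r)) v = v + c • (polar ⇑Q p v • r - polar ⇑Q r v • p) := by
  rw [eich_ap h.qp (x_hyp h c), Q_smul, h.qr, pl_smul_left]
  module

theorem gen_iff (hQ : Q.polarBilin.Nondegenerate) {p r : ι → F} (h : Line Q p r) (σ : IsoGrp Q) :
    (∀ v : ι → F, polar ⇑Q v p = 0 → polar ⇑Q v r = 0 → ap σ v = v) ↔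
      ∃ c : F, σ = eich Q p (c • r) := by
  constructor
  · intro hσ
    obtain ⟨a, b, hpa, hra, hpb, hrb⟩ := exists_dual hQ h
    have hfix : ∀ v, ap σ v - v =
        polar ⇑Q p v • (ap σ a - a) + polar ⇑Q r v • (ap σ b - b) := by
      intro v
      have e := hσ (v - polar ⇑Q p v • a - polar ⇑Q r v • b)
        (by rw [pl_comm]; simp only [pl_sub_right, pl_smul_right, hpa, hpb]; ring)
        (by rw [pl_comm]; simp only [pl_sub_right, pl_smul_right, hra, hrb]; ring)
      rw [map_sub, map_sub, map_smul, map_smul] at e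
      have e2 := sub_eq_zero.2 e
      rw [← sub_eq_zero, ← e2]
      module
    have hline : ∀ z, (∀ v, polar ⇑Q v p = 0 → polar ⇑Q v r = 0 → polar ⇑Q z v = 0) →
        z = polar ⇑Q z a • p + polar ⇑Q z b • r := by
      intro z hz
      refine sub_eq_zero.1 (hQ.1 _ fun v => ?_)
      show polar ⇑Q (z - (polar ⇑Q z a • p + polar ⇑Q z b • r)) v = 0
      have e := hz (v - polar ⇑Q p v • a - polar ⇑Q r v • b)
        (by rw [pl_comm]; simp only [pl_sub_right, pl_smul_right, hpa, hpb]; ring)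
        (by rw [pl_comm]; simp only [pl_sub_right, pl_smul_right, hra, hrb]; ring)
      simp only [pl_sub_right, pl_smul_right] at e
      simp only [pl_sub_left, pl_add_left, pl_smul_left]
      linear_combination e
    have hperp : ∀ z v, polar ⇑Q v p = 0 → polar ⇑Q v r = 0 → polar ⇑Q (ap σ z - z) v = 0 := by
      intro z v h1 h2
      rw [pl_sub_left]
      conv_lhs => arg 1; rw [← hσ v h1 h2, polar_ap]
      exact sub_self _
    obtain ⟨a1, a2, ea⟩ : ∃ s t : F, ap σ a = a + (s • p + t • r) :=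
      ⟨_, _, sub_eq_iff_eq_add'.1 (hline _ (hperp a))⟩
    obtain ⟨b1, b2, eb⟩ : ∃ s t : F, ap σ b = b + (s • p + t • r) :=
      ⟨_, _, sub_eq_iff_eq_add'.1 (hline _ (hperp b))⟩
    have qa := Q_ap σ a
    rw [ea] at qa
    simp only [Q_add, Q_smul, h.qp, h.qr, h.pr, pl_add_right, pl_smul_right, pl_smul_left,
      pl_comm Q a p, pl_comm Q a r, hpa, hra] at qa
    have ha1 : a1 = 0 := by linear_combination qa
    have qb := Q_ap σ b
    rw [eb] at qb
    simp only [Q_add, Q_smul, h.qp, h.qr, h.pr, pl_add_right, pl_smul_right, pl_smul_left,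
      pl_comm Q b p, pl_comm Q b r, hpb, hrb] at qb
    have hb2 : b2 = 0 := by linear_combination qb
    have qab := polar_ap σ a b
    rw [ea, eb] at qab
    simp only [pl_add_right, pl_add_left, pl_smul_right, pl_smul_left, pl_self, h.qp, h.qr, h.pr, rp h,
      pl_comm Q a p, pl_comm Q a r, hpa, hra, hpb, hrb] at qab
    have hab : b1 = -a2 := by linear_combination qab
    refine ⟨a2, ext_ap fun v => ?_⟩
    rw [x_ap h, eq_add_of_sub_eq' (hfix v), ea, eb, ha1, hb2, hab]
    module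
  · rintro ⟨c, rfl⟩ v h1 h2
    rw [x_ap h, pl_comm Q p v, pl_comm Q r v, h1, h2]
    simp

theorem x_add {p r : ι → F} (h : Line Q p r) (c d : F) :
    eich Q p ((c + d) • r) = eich Q p (c • r) * eich Q p (d • r) := by
  rw [eich_add h.qp (x_hyp h c) (x_hyp h d), add_smul]

/-- `c ↦ eich Q p (c • r)` as a homomorphism. -/
noncomputable def xHom {p r : ι → F} (h : Line Q p r) : Multiplicative F →* IsoGrp Q where
  toFun c := eich Q p (c.toAdd • r)
  map_one' := by simp [eich_zero]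
  map_mul' c d := x_add h c.toAdd d.toAdd

theorem mem_T (hQ : Q.polarBilin.Nondegenerate) {p r : ι → F} (h : Line Q p r) {σ : IsoGrp Q} :
    σ ∈ T Q p r ↔ ∃ c : F, σ = eich Q p (c • r) := by
  have e : T Q p r = (xHom h).range := by
    refine le_antisymm ?_ ?_
    · rw [T, Subgroup.closure_le]
      intro g hg
      obtain ⟨c, rfl⟩ := (gen_iff hQ h g).1 hg
      exact ⟨Multiplicative.ofAdd c, rfl⟩
    · rintro _ ⟨c, rfl⟩
      exact Subgroup.subset_closure ((gen_iff hQ h _).2 ⟨c.toAdd, rfl⟩)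
  rw [e]
  exact ⟨fun ⟨c, hc⟩ => ⟨c.toAdd, hc.symm⟩, fun ⟨c, hc⟩ => ⟨Multiplicative.ofAdd c, hc.symm⟩⟩

theorem T_symm (p r : ι → F) : T Q r p = T Q p r := by
  unfold T; congr 1; ext σ
  exact forall_congr' fun v => ⟨fun H a b => H b a, fun H a b => H b a⟩

theorem T_basis {p r : ι → F} {a b : F} (hb : b ≠ 0) :
    T Q p (a • p + b • r) = T Q p r := by
  unfold T; congr 1; ext σ
  refine forall_congr' fun v => imp_congr_right fun h1 => imp_congr_left ?_
  rw [pl_add_right, pl_smul_right, pl_smul_right, h1, mul_zero, zero_add, mul_eq_zero, or_iff_right hb]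

theorem T_comm (hQ : Q.polarBilin.Nondegenerate) {p r : ι → F} (h : Line Q p r) :
    IsMulCommutative (T Q p r) := by
  refine ⟨⟨fun x y => Subtype.ext ?_⟩⟩
  obtain ⟨s, hs⟩ := (mem_T hQ h).1 x.2
  obtain ⟨t, ht⟩ := (mem_T hQ h).1 y.2
  simp only [Subgroup.coe_mul, hs, ht, ← x_add h, add_comm]

theorem x_eq_one (hQ : Q.polarBilin.Nondegenerate) {p r : ι → F} (h : Line Q p r) {c : F}
    (e : eich Q p (c • r) = 1) : c = 0 := by
  obtain ⟨a, b, hpa, hra, -, -⟩ := exists_dual hQ h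
  have := congrArg (fun g => ap g a) e
  simpa [x_ap h, hpa, hra, ne_right h] using this

theorem T_ne_bot (hQ : Q.polarBilin.Nondegenerate) {p r : ι → F} (h : Line Q p r) :
    T Q p r ≠ ⊥ := fun e => by
  have hm : eich Q p ((1 : F) • r) ∈ T Q p r := (mem_T hQ h).2 ⟨1, rfl⟩
  rw [e, Subgroup.mem_bot] at hm
  exact one_ne_zero (x_eq_one hQ h hm)

theorem line_map {p r : ι → F} (h : Line Q p r) (g : IsoGrp Q) : Line Q (ap g p) (ap g r) := by
  refine ⟨by rw [Q_ap, h.qp], by rw [Q_ap, h.qr], by rw [polar_ap, h.pr], ?_⟩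
  have := h.ind
  rw [LinearIndependent.pair_iff] at this ⊢
  intro s t e
  rw [← map_smul, ← map_smul, ← map_add] at e
  exact this s t (ap_inj g (e.trans (map_zero _).symm))

theorem conjBy_T (g : IsoGrp Q) (p r : ι → F) :
    conjBy (T Q p r) g = T Q (ap g p) (ap g r) := by
  have key : ∀ (g : IsoGrp Q) (p r : ι → F), conjBy (T Q p r) g ≤ T Q (ap g p) (ap g r) := by
    intro g p r
    rw [conjBy, T, MonoidHom.map_closure, Subgroup.closure_le]
    rintro _ ⟨y, hy, rfl⟩
    refine Subgroup.subset_closure fun v h1 h2 => ?_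
    show ap (g * y * g⁻¹) v = v
    rw [ap_mul, ap_mul, hy, ap_ap_inv]
    · rw [← polar_ap g, ap_ap_inv]; exact h1
    · rw [← polar_ap g, ap_ap_inv]; exact h2
  refine le_antisymm (key g p r) ?_
  have h := conjBy_mono (key g⁻¹ (ap g p) (ap g r)) g
  rwa [ap_inv_ap, ap_inv_ap, conjBy_conjBy_inv] at h

theorem commute_of_perp (hQ : Q.polarBilin.Nondegenerate) {p r w u : ι → F} (h : Line Q p r)
    (h' : Line Q w u) (h1 : polar ⇑Q p w = 0) (h2 : polar ⇑Q p u = 0) (h3 : polar ⇑Q r w = 0)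
    (h4 : polar ⇑Q r u = 0) : ⁅T Q p r, T Q w u⁆ = ⊥ := by
  refine commutator_eq_bot_of fun a ha b hb => ?_
  obtain ⟨s, rfl⟩ := (mem_T hQ h).1 ha
  obtain ⟨t, rfl⟩ := (mem_T hQ h').1 hb
  refine ext_ap fun v => ?_
  simp only [ap_mul, x_ap h, x_ap h', map_add, map_sub, map_smul, pl_add_right, pl_sub_right,
    pl_smul_right, pl_comm Q w p, pl_comm Q w r, pl_comm Q u p, pl_comm Q u r, h1, h2, h3, h4]
  module

/-! ### opposite lines -/

/-- The matrix of `M` acting on the planes `(r, w)` and `(p, -u)` and fixing their orthogonal. -/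
def gMat (Q : QuadraticForm F (ι → F)) (p r w u : ι → F) (M : Matrix (Fin 2) (Fin 2) F) :
    Matrix ι ι F :=
  1 + (M 0 0 - 1) • (vecMulVec r (polarVec ⇑Q u) + vecMulVec p (polarVec ⇑Q w))
    + M 0 1 • (vecMulVec r (polarVec ⇑Q p) - vecMulVec p (polarVec ⇑Q r))
    + M 1 0 • (vecMulVec w (polarVec ⇑Q u) - vecMulVec u (polarVec ⇑Q w))
    + (M 1 1 - 1) • (vecMulVec w (polarVec ⇑Q p) + vecMulVec u (polarVec ⇑Q r))

theorem gMat_mulVec (p r w u : ι → F) (M : Matrix (Fin 2) (Fin 2) F) (v : ι → F) :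
    gMat Q p r w u M *ᵥ v = v + (M 0 0 - 1) • (polar ⇑Q u v • r + polar ⇑Q w v • p)
      + M 0 1 • (polar ⇑Q p v • r - polar ⇑Q r v • p)
      + M 1 0 • (polar ⇑Q u v • w - polar ⇑Q w v • u)
      + (M 1 1 - 1) • (polar ⇑Q p v • w + polar ⇑Q r v • u) := by
  simp only [gMat, Matrix.add_mulVec, Matrix.sub_mulVec, Matrix.one_mulVec, Matrix.smul_mulVec,
    vecMulVec_polarVec_mulVec]

theorem sl2Pair_of_opposite (hQ : Q.polarBilin.Nondegenerate) {p r w u : ι → F} (h : Line Q p r)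
    (h' : Line Q w u) (hpw : polar ⇑Q p w = 1) (hpu : polar ⇑Q p u = 0) (hrw : polar ⇑Q r w = 0)
    (hru : polar ⇑Q r u = 1) : SL2Pair F (T Q p r) (T Q w u) := by
  have hwp : polar ⇑Q w p = 1 := by rw [pl_comm]; exact hpw
  have hup : polar ⇑Q u p = 0 := by rw [pl_comm]; exact hpu
  have hwr : polar ⇑Q w r = 0 := by rw [pl_comm]; exact hrw
  have hur : polar ⇑Q u r = 1 := by rw [pl_comm]; exact hru
  have hpp : polar ⇑Q p p = 0 := by rw [pl_self, h.qp, mul_zero]
  have hrr : polar ⇑Q r r = 0 := by rw [pl_self, h.qr, mul_zero]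
  have hww : polar ⇑Q w w = 0 := by rw [pl_self, h'.qp, mul_zero]
  have huu : polar ⇑Q u u = 0 := by rw [pl_self, h'.qr, mul_zero]
  have hmul : ∀ M N : Matrix (Fin 2) (Fin 2) F,
      gMat Q p r w u (M * N) = gMat Q p r w u M * gMat Q p r w u N := by
    intro M N
    refine Matrix.ext_of_mulVec_single fun i => ?_
    rw [← Matrix.mulVec_mulVec]
    simp only [gMat_mulVec, Matrix.mul_apply, Fin.sum_univ_two, pl_add_right, pl_sub_right,
      pl_smul_right, hpw, hwp, hpu, hup, hrw, hwr, hru, hur, hpp, hrr, hww, huu, h.pr, rp h, h'.pr,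
      rp h']
    module
  have hone : gMat Q p r w u 1 = 1 := by
    simp [gMat]
  let f₀ : SL(2, F) →* Matrix ι ι F :=
    { toFun := fun M => gMat Q p r w u (M : Matrix (Fin 2) (Fin 2) F)
      map_one' := by simpa using hone
      map_mul' := fun M N => by simpa using hmul (M : Matrix (Fin 2) (Fin 2) F) N }
  let f₁ : SL(2, F) →* GL ι F := f₀.toHomUnits
  have hu : ∀ t : F, f₁ (upSL t) = ((eich Q p (t • r) : IsoGrp Q) : GL ι F) := fun t => by
    refine Units.ext (Matrix.ext_of_mulVec_single fun i => ?_)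
    show gMat Q p r w u _ *ᵥ _ = ap (eich Q p (t • r)) _
    rw [gMat_mulVec, x_ap h]
    simp [coe_upSL]
  have hl : ∀ t : F, f₁ (loSL t) = ((eich Q w ((-t) • u) : IsoGrp Q) : GL ι F) := fun t => by
    refine Units.ext (Matrix.ext_of_mulVec_single fun i => ?_)
    show gMat Q p r w u _ *ᵥ _ = ap (eich Q w ((-t) • u)) _
    rw [gMat_mulVec, x_ap h']
    simp only [coe_loSL, Matrix.cons_val', Matrix.cons_val_zero, Matrix.cons_val_one,
      Matrix.of_apply, Matrix.cons_val_fin_one, Matrix.empty_val', sub_self, zero_smul, add_zero]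
    module
  have hrange : ∀ M, f₁ M ∈ isometryGroup F ⇑Q := by
    intro M
    have hle : lowerUnipotentSL2 F ⊔ upperUnipotentSL2 F ≤ (isometryGroup F ⇑Q).comap f₁ := by
      refine sup_le ?_ ?_
      · intro y hy
        obtain ⟨t, rfl⟩ := mem_lowerUnipotentSL2.1 hy
        rw [Subgroup.mem_comap, hl]; exact SetLike.coe_mem _
      · intro y hy
        obtain ⟨t, rfl⟩ := mem_upperUnipotentSL2.1 hy
        rw [Subgroup.mem_comap, hu]; exact SetLike.coe_mem _
    rw [lower_sup_upper] at hle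
    exact hle (Subgroup.mem_top M)
  refine ⟨f₁.codRestrict (isometryGroup F ⇑Q) hrange, fun M M' e => ?_, ?_, ?_⟩
  · have e' : gMat Q p r w u (M : Matrix (Fin 2) (Fin 2) F) = gMat Q p r w u M' :=
      congrArg Units.val (congrArg Subtype.val e)
    have er := congrArg (fun A : Matrix ι ι F => A *ᵥ r) e'
    have ew := congrArg (fun A : Matrix ι ι F => A *ᵥ w) e'
    have e00 := congrArg (polar ⇑Q u) er
    have e10 := congrArg (polar ⇑Q p) er
    have e01 := congrArg (polar ⇑Q u) ew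
    have e11 := congrArg (polar ⇑Q p) ew
    simp only [gMat_mulVec, pl_add_right, pl_sub_right, pl_smul_right, hpw, hwp, hpu, hup, hrw, hwr,
      hru, hur, hpp, hrr, hww, huu, h.pr, rp h, h'.pr, rp h'] at e00 e10 e01 e11
    refine Subtype.ext (Matrix.ext fun i j => ?_)
    fin_cases i <;> fin_cases j
    · simpa using (by linear_combination e00 : (M : Matrix (Fin 2) (Fin 2) F) 0 0 = (M' : Matrix (Fin 2) (Fin 2) F) 0 0)
    · simpa using (by linear_combination e01 : (M : Matrix (Fin 2) (Fin 2) F) 0 1 = (M' : Matrix (Fin 2) (Fin 2) F) 0 1)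
    · simpa using (by linear_combination e10 : (M : Matrix (Fin 2) (Fin 2) F) 1 0 = (M' : Matrix (Fin 2) (Fin 2) F) 1 0)
    · simpa using (by linear_combination e11 : (M : Matrix (Fin 2) (Fin 2) F) 1 1 = (M' : Matrix (Fin 2) (Fin 2) F) 1 1)
  · ext g
    constructor
    · rintro ⟨y, hy, rfl⟩
      obtain ⟨t, rfl⟩ := mem_upperUnipotentSL2.1 hy
      exact (mem_T hQ h).2 ⟨t, Subtype.ext (hu t)⟩
    · intro hg
      obtain ⟨t, rfl⟩ := (mem_T hQ h).1 hg
      exact ⟨upSL t, upSL_mem t, Subtype.ext (hu t)⟩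
  · ext g
    constructor
    · rintro ⟨y, hy, rfl⟩
      obtain ⟨t, rfl⟩ := mem_lowerUnipotentSL2.1 hy
      exact (mem_T hQ h').2 ⟨-t, Subtype.ext (hl t)⟩
    · intro hg
      obtain ⟨t, rfl⟩ := (mem_T hQ h').1 hg
      exact ⟨loSL (-t), loSL_mem _, Subtype.ext ((hl (-t)).trans (by rw [neg_neg]))⟩

/-! ### lines meeting the orthogonal of each other in a point -/

theorem x_commutator {p r w u : ι → F} (h : Line Q p r) (h' : Line Q w u)
    (hpw : polar ⇑Q p w = 0) (hpu : polar ⇑Q p u = 0) (hrw : polar ⇑Q r w = 0)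
    (hru : polar ⇑Q r u = 1) (a b : F) :
    eich Q p (a • r) * eich Q w (b • u) * (eich Q p (a • r))⁻¹ * (eich Q w (b • u))⁻¹ =
      eich Q p ((a * b) • w) := by
  set g := eich Q w (b • u) with hg
  have hp : ap g p = p := by
    rw [hg, x_ap h', pl_comm Q w p, pl_comm Q u p, hpw, hpu]; simp
  have hr : ap g r = r - b • w := by
    rw [hg, x_ap h', pl_comm Q w r, pl_comm Q u r, hrw, hru]; module
  calc eich Q p (a • r) * g * (eich Q p (a • r))⁻¹ * g⁻¹
      = eich Q p (a • r) * (g * (eich Q p (a • r))⁻¹ * g⁻¹) := by group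
    _ = _ := by
      rw [eich_inv, conj_eich, map_neg, map_smul, hp, hr, ← smul_neg, eich_add h.qp (x_hyp h a)
        (by rw [pl_smul_right, pl_neg_right, pl_sub_right, pl_smul_right, h.pr, hpw]; ring)]
      congr 1; module

theorem case_of_point (hQ : Q.polarBilin.Nondegenerate) {S : Set (Subgroup (IsoGrp Q))}
    (hS : ∀ p r, Line Q p r → T Q p r ∈ S) {p r w u : ι → F} (h : Line Q p r) (h' : Line Q w u)
    (hpw : polar ⇑Q p w = 0) (hpu : polar ⇑Q p u = 0) (hrw : polar ⇑Q r w = 0)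
    (hru : polar ⇑Q r u = 1) :
    ⁅T Q p r, T Q w u⁆ = ⊥ ∨ RootCommutatorCase S (T Q p r) (T Q w u) := by
  by_cases hi : LinearIndependent F ![p, w]
  · right
    have hl : Line Q p w := ⟨h.qp, h'.qp, hpw, hi⟩
    have hC : ⁅T Q p r, T Q w u⁆ = T Q p w := by
      refine le_antisymm (Subgroup.commutator_le.2 fun a ha b hb => ?_) fun x hx => ?_
      · obtain ⟨s, rfl⟩ := (mem_T hQ h).1 ha
        obtain ⟨t, rfl⟩ := (mem_T hQ h').1 hb
        exact (mem_T hQ hl).2 ⟨s * t, x_commutator h h' hpw hpu hrw hru s t⟩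
      · obtain ⟨c, rfl⟩ := (mem_T hQ hl).1 hx
        have := Subgroup.commutator_mem_commutator ((mem_T hQ h).2 ⟨c, rfl⟩)
          ((mem_T hQ h').2 ⟨1, rfl⟩)
        rwa [commutatorElement_def, x_commutator h h' hpw hpu hrw hru, mul_one] at this
    unfold RootCommutatorCase
    rw [hC]
    refine ⟨hS _ _ hl, fun c hc x hx => ?_, fun a ha ha1 => ?_, fun b hb hb1 => ?_⟩
    · have h1 := commute_of_perp hQ hl h (by rw [pl_self, h.qp, mul_zero]) h.pr
        (by rw [pl_comm, hpw]) (by rw [pl_comm, hrw])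
      have h2 := commute_of_perp hQ hl h' hpw hpu (by rw [pl_self, h'.qp, mul_zero]) h'.pr
      have : T Q p r ⊔ T Q w u ≤ Subgroup.centralizer {c} :=
        sup_le (fun y hy => Subgroup.mem_centralizer_singleton_iff.2 (elem_commute h1 hc hy).symm.eq)
          (fun y hy => Subgroup.mem_centralizer_singleton_iff.2 (elem_commute h2 hc hy).symm.eq)
      exact (Subgroup.mem_centralizer_singleton_iff.1 (this hx)).symm
    · obtain ⟨s, rfl⟩ := (mem_T hQ h).1 ha
      have hs : s ≠ 0 := fun e => ha1 (by rw [e, zero_smul, eich_zero])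
      refine le_antisymm ((Subgroup.closure_le _).2 ?_) fun x hx => ?_
      · rintro _ ⟨b, hb, rfl⟩
        obtain ⟨t, rfl⟩ := (mem_T hQ h').1 hb
        exact (mem_T hQ hl).2 ⟨_, x_commutator h h' hpw hpu hrw hru s t⟩
      · obtain ⟨c, rfl⟩ := (mem_T hQ hl).1 hx
        refine Subgroup.subset_closure ⟨_, (mem_T hQ h').2 ⟨c / s, rfl⟩, ?_⟩
        show eich Q p (s • r) * eich Q w ((c / s) • u) * _ * _ = _
        rw [x_commutator h h' hpw hpu hrw hru, mul_div_cancel₀ c hs]
    · obtain ⟨t, rfl⟩ := (mem_T hQ h').1 hb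
      have ht : t ≠ 0 := fun e => hb1 (by rw [e, zero_smul, eich_zero])
      refine le_antisymm ((Subgroup.closure_le _).2 ?_) fun x hx => ?_
      · rintro _ ⟨a, ha, rfl⟩
        obtain ⟨s, rfl⟩ := (mem_T hQ h).1 ha
        exact (mem_T hQ hl).2 ⟨_, x_commutator h h' hpw hpu hrw hru s t⟩
      · obtain ⟨c, rfl⟩ := (mem_T hQ hl).1 hx
        refine Subgroup.subset_closure ⟨_, (mem_T hQ h).2 ⟨c / t, rfl⟩, ?_⟩
        show eich Q p ((c / t) • r) * eich Q w (t • u) * _ * _ = _
        rw [x_commutator h h' hpw hpu hrw hru, div_mul_cancel₀ c ht]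
  · left
    rw [ind_iff (ne_left h), not_not, Submodule.mem_span_singleton] at hi
    obtain ⟨k, rfl⟩ := hi
    refine commutator_eq_bot_of fun a ha b hb => ?_
    obtain ⟨s, rfl⟩ := (mem_T hQ h).1 ha
    obtain ⟨t, rfl⟩ := (mem_T hQ h').1 hb
    have e := x_commutator h h' hpw hpu hrw hru s t
    rw [smul_smul, show ((s * t) * k) • p = 0 + ((s * t) * k) • p by rw [zero_add],
      eich_add_smul_self h.qp (pl_zero_right Q p), eich_zero, ← commutatorElement_def] at e
    exact (commutatorElement_eq_one_iff_commute.1 e).eq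

/-! ### any two lines -/

theorem line_basis {p r : ι → F} (h : Line Q p r) {a b : F} (hb : b ≠ 0) :
    Line Q p (a • p + b • r) := by
  refine ⟨h.qp, ?_, ?_, ?_⟩
  · rw [Q_add, Q_smul, Q_smul, h.qp, h.qr, pl_smul_left, pl_smul_right, h.pr]; ring
  · rw [pl_add_right, pl_smul_right, pl_smul_right, pl_self, h.qp, h.pr]; ring
  · have := h.ind
    rw [LinearIndependent.pair_iff] at this ⊢
    intro s t e
    obtain ⟨h1, h2⟩ := this (s + t * a) (t * b) (by rw [← e]; module)
    rw [mul_eq_zero, or_iff_left hb] at h2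
    subst h2
    exact ⟨by linear_combination h1, rfl⟩

theorem sl2Pair_of_triangular (hQ : Q.polarBilin.Nondegenerate) {p r w u : ι → F} (h : Line Q p r)
    (h' : Line Q w u) (hpw : polar ⇑Q p w ≠ 0) (hpu : polar ⇑Q p u = 0) (hru : polar ⇑Q r u ≠ 0) :
    SL2Pair F (T Q p r) (T Q w u) := by
  set a := polar ⇑Q p w with ha
  set r' := (-(polar ⇑Q r w / a)) • p + (1 : F) • r with hr'
  have h1 : Line Q p r' := line_basis h one_ne_zero
  set w' := a⁻¹ • w with hw'
  set u' := (polar ⇑Q r u)⁻¹ • u with hu'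
  have h2 : Line Q w u' := by
    simpa [hu'] using line_basis h' (a := 0) (inv_ne_zero hru)
  have h3 : Line Q w' u' := by
    have := line_basis (symm h2) (a := 0) (inv_ne_zero hpw)
    simpa [hw'] using symm this
  have e1 : T Q p r' = T Q p r := T_basis one_ne_zero
  have e2 : T Q w' u' = T Q w u := by
    have f1 : T Q w u' = T Q w u := by simpa [hu'] using T_basis (Q := Q) (p := w) (r := u) (a := 0) (inv_ne_zero hru)
    have f2 : T Q u' w' = T Q u' w := by simpa [hw'] using T_basis (Q := Q) (p := u') (r := w) (a := 0) (inv_ne_zero hpw)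
    rw [← T_symm, f2, T_symm, f1]
  rw [← e1, ← e2]
  refine sl2Pair_of_opposite hQ h1 h3 ?_ ?_ ?_ ?_
  · rw [hw', pl_smul_right, ← ha, inv_mul_cancel₀ hpw]
  · rw [hu', pl_smul_right, hpu, mul_zero]
  · simp only [hr', hw', pl_add_left, pl_smul_left, pl_smul_right]
    rw [← ha]; field_simp; ring
  · simp only [hr', hu', pl_add_left, pl_smul_left, pl_smul_right, hpu]
    field_simp; ring

theorem trichotomy_aux (hQ : Q.polarBilin.Nondegenerate) {S : Set (Subgroup (IsoGrp Q))}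
    (hS : ∀ p r, Line Q p r → T Q p r ∈ S) {p r w u : ι → F} (h : Line Q p r) (h' : Line Q w u)
    (hru : polar ⇑Q r u ≠ 0) :
    ⁅T Q p r, T Q w u⁆ = ⊥ ∨ SL2Pair F (T Q p r) (T Q w u) ∨
      RootCommutatorCase S (T Q p r) (T Q w u) := by
  set p' := (-(polar ⇑Q p u / polar ⇑Q r u)) • r + (1 : F) • p with hp'
  have h1 : Line Q p' r := symm (line_basis (symm h) one_ne_zero)
  have e1 : T Q p' r = T Q p r := by rw [← T_symm, T_basis one_ne_zero, T_symm]
  have hpu : polar ⇑Q p' u = 0 := by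
    simp only [hp', pl_add_left, pl_smul_left]; field_simp; ring
  rw [← e1]
  by_cases hpw : polar ⇑Q p' w = 0
  · set u' := (polar ⇑Q r u)⁻¹ • u with hu'
    set w' := (-polar ⇑Q r w) • u' + (1 : F) • w with hw'
    have h2 : Line Q w u' := by
      simpa [hu'] using line_basis h' (a := 0) (inv_ne_zero hru)
    have h3 : Line Q w' u' := symm (line_basis (symm h2) one_ne_zero)
    have e2 : T Q w' u' = T Q w u := by
      rw [← T_symm, T_basis one_ne_zero, T_symm]
      simpa [hu'] using T_basis (Q := Q) (p := w) (r := u) (a := 0) (inv_ne_zero hru)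
    rw [← e2]
    have hru' : polar ⇑Q r u' = 1 := by rw [hu', pl_smul_right, inv_mul_cancel₀ hru]
    refine (case_of_point hQ hS h1 h3 ?_ ?_ ?_ hru').imp_right Or.inr
    · simp only [hw', hu', pl_add_right, pl_smul_right, hpw, hpu]; ring
    · rw [hu', pl_smul_right, hpu, mul_zero]
    · simp only [hw', hu', pl_add_right, pl_smul_right, inv_mul_cancel₀ hru]; ring
  · exact Or.inr (Or.inl (sl2Pair_of_triangular hQ h1 h' hpw hpu hru))

theorem trichotomy (hQ : Q.polarBilin.Nondegenerate) {S : Set (Subgroup (IsoGrp Q))}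
    (hS : ∀ p r, Line Q p r → T Q p r ∈ S) {p r w u : ι → F} (h : Line Q p r) (h' : Line Q w u) :
    ⁅T Q p r, T Q w u⁆ = ⊥ ∨ SL2Pair F (T Q p r) (T Q w u) ∨
      RootCommutatorCase S (T Q p r) (T Q w u) := by
  by_cases h4 : polar ⇑Q r u = 0
  · by_cases h2 : polar ⇑Q p u = 0
    · by_cases h3 : polar ⇑Q r w = 0
      · by_cases h1 : polar ⇑Q p w = 0
        · exact Or.inl (commute_of_perp hQ h h' h1 h2 h3 h4)
        · rw [← T_symm p r, ← T_symm w u]
          exact trichotomy_aux hQ hS (symm h) (symm h') h1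
      · rw [← T_symm w u]
        exact trichotomy_aux hQ hS h (symm h') h3
    · rw [← T_symm p r]
      exact trichotomy_aux hQ hS (symm h) h' h2
  · exact trichotomy_aux hQ hS h h' h4

theorem exists_partner {e f a : ι → F} (h : HPair Q e f) (hQ : Q.polarBilin.Nondegenerate)
    (ha : a ∈ perp Q e f) (hqa : Q a = 0) (ha0 : a ≠ 0) : ∃ b ∈ perp Q e f, HPair Q a b := by
  obtain ⟨y, hy, hy'⟩ := h.perp_nondeg hQ ha ha0
  obtain ⟨y', hy'm, h1⟩ : ∃ y' ∈ perp Q e f, polar ⇑Q a y' = 1 :=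
    ⟨(polar ⇑Q a y)⁻¹ • y, Submodule.smul_mem _ _ hy, by rw [pl_smul_right, inv_mul_cancel₀ hy']⟩
  refine ⟨y' - Q y' • a, sub_mem hy'm (Submodule.smul_mem _ _ ha), hqa, ?_, ?_⟩
  · rw [Q_sub, Q_smul, pl_smul_right, hqa, pl_comm, h1]; ring
  · rw [pl_sub_right, pl_smul_right, pl_self, hqa, h1]; ring

theorem exists_singular_both (hQ : Q.polarBilin.Nondegenerate) (hn : 5 ≤ Fintype.card ι)
    {e f a b : ι → F} (h : HPair Q e f) (ha : a ∈ perp Q e f) (hqa : Q a = 0) (ha0 : a ≠ 0)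
    (hb : b ∈ perp Q e f) (hqb : Q b = 0) (hb0 : b ≠ 0) :
    ∃ u ∈ perp Q e f, Q u = 0 ∧ polar ⇑Q a u ≠ 0 ∧ polar ⇑Q b u ≠ 0 := by
  obtain ⟨fa, hfa, pa⟩ := exists_partner h hQ ha hqa ha0
  obtain ⟨fb, hfb, pb⟩ := exists_partner h hQ hb hqb hb0
  by_cases h1 : polar ⇑Q b fa = 0
  swap; · exact ⟨fa, hfa, pa.qf, by rw [pa.pf]; exact one_ne_zero, h1⟩
  by_cases h2 : polar ⇑Q a fb = 0
  swap; · exact ⟨fb, hfb, pb.qf, h2, by rw [pb.pf]; exact one_ne_zero⟩
  by_cases h3 : polar ⇑Q a b = 0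
  · refine ⟨fa + fb + (-polar ⇑Q fa fb) • a,
      add_mem (add_mem hfa hfb) (Submodule.smul_mem _ _ ha), ?_, ?_, ?_⟩
    · simp only [Q_add, Q_smul, pl_add_left, pl_smul_right, pa.qf, pb.qf, hqa, pl_comm Q fa a, pa.pf,
        pl_comm Q fb a, h2]
      ring
    · simp only [pl_add_right, pl_smul_right, pa.pf, h2, pl_self, hqa]
      ring_nf; exact one_ne_zero
    · simp only [pl_add_right, pl_smul_right, pb.pf, h1, pl_comm Q b a, h3]
      ring_nf; exact one_ne_zero
  · set b1 := (polar ⇑Q a b)⁻¹ • b with hb1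
    have hb1m : b1 ∈ perp Q e f := Submodule.smul_mem _ _ hb
    have hp : HPair Q a b1 :=
      ⟨hqa, by rw [Q_smul, hqb, mul_zero], by rw [pl_smul_right, inv_mul_cancel₀ h3]⟩
    obtain ⟨x0, hx0, hx⟩ := exists_mem_orth (Q := Q) ![e, f, a, b1] (by omega)
    have hxe : x0 ∈ perp Q e f := mem_perp.2 ⟨hx 0, hx 1⟩
    have hxa : polar ⇑Q a x0 = 0 := hx 2
    have hxb : polar ⇑Q b1 x0 = 0 := hx 3
    obtain ⟨y0, hy0, hxy⟩ := h.perp_nondeg hQ hxe hx0
    obtain ⟨y, hye, hya, hyb, hqy⟩ : ∃ y ∈ perp Q e f, polar ⇑Q a y = 0 ∧ polar ⇑Q b1 y = 0 ∧ Q y ≠ 0 := by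
      obtain ⟨g1, g2⟩ := mem_perp.1 (hp.wPart_mem y0)
      set y1 := wPart Q a b1 y0 with hy1
      have hy1e : y1 ∈ perp Q e f :=
        sub_mem (sub_mem hy0 (Submodule.smul_mem _ _ ha)) (Submodule.smul_mem _ _ hb1m)
      have hxy1 : polar ⇑Q x0 y1 ≠ 0 := by
        rw [hy1, wPart, pl_sub_right, pl_sub_right, pl_smul_right, pl_smul_right, pl_comm Q x0 a,
          pl_comm Q x0 b1, hxa, hxb]
        simpa using hxy
      by_cases c1 : Q x0 = 0
      · by_cases c2 : Q y1 = 0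
        · exact ⟨x0 + y1, add_mem hxe hy1e, by rw [pl_add_right, hxa, g1, add_zero],
            by rw [pl_add_right, hxb, g2, add_zero], by rw [Q_add, c1, c2, zero_add, zero_add]; exact hxy1⟩
        · exact ⟨y1, hy1e, g1, g2, c2⟩
      · exact ⟨x0, hxe, hxa, hxb, c1⟩
    refine ⟨(-Q y) • a + b1 + y,
      add_mem (add_mem (Submodule.smul_mem _ _ ha) hb1m) hye, ?_, ?_, ?_⟩
    · simp only [Q_add, Q_smul, pl_add_left, pl_smul_left, hqa, hp.qf, hp.pf, hya, hyb]
      ring
    · simp only [pl_add_right, pl_smul_right, pl_self, hqa, hp.pf, hya]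
      ring_nf; exact one_ne_zero
    · have hbb : polar ⇑Q b b = 0 := by rw [pl_self, hqb, mul_zero]
      have hby : polar ⇑Q b y = 0 := by
        rw [hb1, pl_smul_left, mul_eq_zero, or_iff_right (inv_ne_zero h3)] at hyb
        exact hyb
      simp only [pl_add_right, pl_smul_right, hb1, hbb, hby, pl_comm Q b a, mul_zero, add_zero]
      exact mul_ne_zero (neg_ne_zero.2 hqy) h3

theorem share_reach (hQ : Q.polarBilin.Nondegenerate) (hn : 5 ≤ Fintype.card ι)
    {S : Set (Subgroup (IsoGrp Q))} (hS : ∀ p r, Line Q p r → T Q p r ∈ S) {p r s : ι → F}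
    (h : Line Q p r) (h' : Line Q p s) : Relation.ReflTransGen (FAdj S) (T Q p r) (T Q p s) := by
  obtain ⟨p', hp⟩ := exists_hpair_left hQ h.qp (ne_left h)
  have hw : ∀ r, Line Q p r → wPart Q p p' r ∈ perp Q p p' ∧ Q (wPart Q p p' r) = 0 ∧
      wPart Q p p' r ≠ 0 ∧ ∀ u, polar ⇑Q p u = 0 → polar ⇑Q (wPart Q p p' r) u = polar ⇑Q r u := by
    intro r h
    have e : wPart Q p p' r = (-polar ⇑Q p' r) • p + (1 : F) • r := by
      simp only [wPart, h.pr]; module
    refine ⟨hp.wPart_mem r, ?_, ?_, fun u hu => ?_⟩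
    · rw [e]; exact (line_basis h one_ne_zero).qr
    · rw [e]; exact ne_right (line_basis h one_ne_zero)
    · rw [e, pl_add_left, pl_smul_left, pl_smul_left, hu]; ring
  obtain ⟨a1, a2, a3, a4⟩ := hw r h
  obtain ⟨b1, b2, b3, b4⟩ := hw s h'
  obtain ⟨u, hu, hqu, hau, hbu⟩ := exists_singular_both hQ hn hp a1 a2 a3 b1 b2 b3
  obtain ⟨hpu, hp'u⟩ := mem_perp.1 hu
  have hu0 : u ≠ 0 := fun e => hau (by rw [e, pl_zero_right])
  have hn' : Line Q p' u := by
    refine ⟨hp.qf, hqu, hp'u, ?_⟩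
    rw [LinearIndependent.pair_iff]
    intro c d e
    have := congrArg (polar ⇑Q p) e
    rw [pl_add_right, pl_smul_right, pl_smul_right, hp.pf, hpu, pl_zero_right] at this
    have hc : c = 0 := by linear_combination this
    rw [hc, zero_smul, zero_add, smul_eq_zero, or_iff_left hu0] at e
    exact ⟨hc, e⟩
  have hpp : polar ⇑Q p p' ≠ 0 := by rw [hp.pf]; exact one_ne_zero
  have A := sl2Pair_of_triangular hQ h hn' hpp hpu (by rwa [← a4 u hpu])
  have B := sl2Pair_of_triangular hQ h' hn' hpp hpu (by rwa [← b4 u hpu])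
  exact (Relation.ReflTransGen.single ⟨hS _ _ h, hS _ _ hn', A.rankOne⟩).tail
    ⟨hS _ _ hn', hS _ _ h', RankOnePair_symm B.rankOne⟩

theorem line_connected (hQ : Q.polarBilin.Nondegenerate) (hn : 5 ≤ Fintype.card ι)
    {S : Set (Subgroup (IsoGrp Q))} (hS : ∀ p r, Line Q p r → T Q p r ∈ S) {p r w u : ι → F}
    (h : Line Q p r) (h' : Line Q w u) :
    Relation.ReflTransGen (FAdj S) (T Q p r) (T Q w u) := by
  obtain ⟨z, r', hz, hzw, he⟩ : ∃ z r', Line Q z r' ∧ polar ⇑Q z w = 0 ∧ T Q z r' = T Q p r := by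
    by_cases hp : polar ⇑Q p w = 0
    · exact ⟨p, r, h, hp, rfl⟩
    · refine ⟨(-(polar ⇑Q r w / polar ⇑Q p w)) • p + (1 : F) • r, p,
        symm (line_basis h one_ne_zero), ?_, by rw [T_symm, T_basis one_ne_zero]⟩
      simp only [pl_add_left, pl_smul_left]; field_simp; ring
  rw [← he]
  by_cases hi : LinearIndependent F ![z, w]
  · have hl : Line Q z w := ⟨hz.qp, h'.qp, hzw, hi⟩
    refine (share_reach hQ hn hS hz hl).trans ?_
    rw [← T_symm z w]
    exact share_reach hQ hn hS (symm hl) h'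
  · rw [ind_iff (ne_left hz), not_not, Submodule.mem_span_singleton] at hi
    obtain ⟨k, hk⟩ := hi
    subst hk
    have hk0 : k ≠ 0 := fun e => ne_left h' (by rw [e, zero_smul])
    have e' : T Q z u = T Q (k • z) u := by
      have := T_basis (Q := Q) (p := u) (r := z) (a := 0) hk0
      rw [zero_smul, zero_add] at this
      rw [T_symm u z, T_symm u (k • z), this]
    rw [← e']
    refine share_reach hQ hn hS hz ?_
    have := symm (line_basis (symm h') (a := 0) (inv_ne_zero hk0))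
    rwa [zero_smul, zero_add, smul_smul, inv_mul_cancel₀ hk0, one_smul] at this

end Cfsg.Agent.RankOne.Siegel
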