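import Cfsg.Agent.Lib.RankOne.Special
import Cfsg.Agent.Lib.RankOne.Steinberg
/-!
In a special rank one group with abelian unipotent subgroups, `⟨a, b(a)⟩` for `a` of prime order
`p` is `SL₂(p)` or `PSL₂(p)` (`closure_pair_equiv`).
-/

set_option autoImplicit false

namespace Cfsg.Agent.RankOne

open Cfsg
open scoped MatrixGroups

variable {G : Type*} [Group G]

/-- `a ^ t` for `t : ZMod p`. -/
def zpw {p : ℕ} (a : G) (t : ZMod p) : G := a ^ t.val

theorem zpw_add {p : ℕ} [NeZero p] {a : G} (hp : a ^ p = 1) (s t : ZMod p) :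
    zpw a (s + t) = zpw a s * zpw a t := by
  rw [zpw, zpw, zpw, ← pow_add, ZMod.val_add, ← pow_eq_pow_mod _ hp]

theorem zpw_mul {p : ℕ} {a : G} (hp : a ^ p = 1) (s t : ZMod p) :
    zpw a (s * t) = zpw a s ^ t.val := by
  rw [zpw, zpw, ← pow_mul, ZMod.val_mul, ← pow_eq_pow_mod _ hp]

theorem zpw_one {p : ℕ} [Fact p.Prime] (a : G) : zpw a (1 : ZMod p) = a := by
  rw [zpw, ZMod.val_one, pow_one]

variable {A B : Subgroup G} {p : ℕ} [hp : Fact p.Prime]

theorem zpw_ne_one {a : G} (hap : a ^ p = 1) (ha1 : a ≠ 1) {t : ZMod p} (ht : t ≠ 0) :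
    zpw a t ≠ 1 := by
  intro e
  have hord : orderOf a = p := orderOf_eq_prime hap ha1
  have hd := orderOf_dvd_of_pow_eq_one e
  rw [hord] at hd
  exact ht ((ZMod.val_eq_zero t).1 (Nat.eq_zero_of_dvd_of_lt hd t.val_lt))

theorem partner_zpw (hs : IsSpecialRankOnePair A B) (hab : HasAbelianUnipotents A B) {a : G}
    (ha : a ∈ A) (ha1 : a ≠ 1) (hap : a ^ p = 1) {t : ZMod p} (ht : t ≠ 0) :
    (partner A B (zpw a t))⁻¹ = zpw (partner A B a)⁻¹ t⁻¹ := by
  have hne := zpw_ne_one hap ha1 ht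
  have hmem : zpw a t ∈ A := A.pow_mem ha _
  have h1 : (partner A B (zpw a t))⁻¹ ^ t.val = (partner A B a)⁻¹ := by
    rw [inv_pow]; exact congrArg _ (partner_pow hs hab t.val a ha hne)
  have h2 : (partner A B (zpw a t))⁻¹ ^ p = 1 := by
    rw [inv_pow, partner_pow_eq_one hs hmem hne (by rw [zpw, ← pow_mul, mul_comm, pow_mul, hap, one_pow]),
      inv_one]
  rw [zpw, zpw, ← h1, ← pow_mul, pow_eq_pow_mod _ h2, ← ZMod.val_mul, mul_inv_cancel₀ ht,
    ZMod.val_one, pow_one]
  rfl

theorem nElt_zpw (hs : IsSpecialRankOnePair A B) (hab : HasAbelianUnipotents A B) {a : G}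
    (ha : a ∈ A) (ha1 : a ≠ 1) (hap : a ^ p = 1) {t : ZMod p} (ht : t ≠ 0) :
    nElt A B (zpw a t) = zpw a t * zpw (partner A B a)⁻¹ t⁻¹ * zpw a t := by
  rw [nElt, partner_zpw hs hab ha ha1 hap ht]

/-- The Steinberg data attached to an element of prime order of a special rank one group. -/
noncomputable def specialData (hs : IsSpecialRankOnePair A B) (hab : HasAbelianUnipotents A B)
    {a : G} (ha : a ∈ A) (ha1 : a ≠ 1) (hap : a ^ p = 1) : SL2Data (ZMod p) G where
  xp := zpw a
  xm := zpw (partner A B a)⁻¹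
  xp_add := zpw_add hap
  xm_add := zpw_add (by rw [inv_pow, partner_pow_eq_one hs ha ha1 hap, inv_one])
  braid t ht := by
    have h := braid hs (A.pow_mem ha t.val) (zpw_ne_one hap ha1 ht)
    change zpw a t * (partner A B (zpw a t))⁻¹ * zpw a t = _ at h
    rwa [show a ^ t.val = zpw a t from rfl, partner_zpw hs hab ha ha1 hap ht] at h
  conj_p t ht u := by
    have hcp : (partner A B a)⁻¹ ^ p = 1 := by
      rw [inv_pow, partner_pow_eq_one hs ha ha1 hap, inv_one]
    have h := nElt_conj_left hs (A.pow_mem ha t.val) (zpw_ne_one hap ha1 ht)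
    rw [show a ^ t.val = zpw a t from rfl, partner_zpw hs hab ha ha1 hap ht,
      nElt_zpw hs hab ha ha1 hap ht, ← MulAut.conj_apply] at h
    rw [← MulAut.conj_apply, show u = t * (u / t) from (mul_div_cancel₀ u ht).symm, zpw_mul hap,
      map_pow, h, ← zpw_mul hcp]
    congr 1
    field_simp
  conj_m t ht u := by
    have hcp : (partner A B a)⁻¹ ^ p = 1 := by
      rw [inv_pow, partner_pow_eq_one hs ha ha1 hap, inv_one]
    have h := nElt_conj_right hs (A.pow_mem ha t.val) (zpw_ne_one hap ha1 ht)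
    rw [show a ^ t.val = zpw a t from rfl, partner_zpw hs hab ha ha1 hap ht,
      nElt_zpw hs hab ha ha1 hap ht, ← MulAut.conj_apply] at h
    rw [← MulAut.conj_apply, show u = t⁻¹ * (t * u) from (inv_mul_cancel_left₀ ht u).symm,
      zpw_mul hcp, map_pow, h, ← zpw_mul hap]
    congr 1
    field_simp

theorem center_SL2_two (z : SL(2, ZMod p)) (hz : z ∈ Subgroup.center SL(2, ZMod p)) :
    z = 1 ∨ (z : Matrix (Fin 2) (Fin 2) (ZMod p)) = Matrix.scalar (Fin 2) (-1) := by
  obtain ⟨r, hr, hz⟩ := Matrix.SpecialLinearGroup.mem_center_iff.1 hz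
  rw [Fintype.card_fin, sq_eq_one_iff] at hr
  rcases hr with rfl | rfl
  · exact Or.inl (Subtype.ext (by rw [← hz, map_one]; rfl))
  · exact Or.inr hz.symm

/-- `⟨a, b(a)⟩ ≅ (P)SL₂(p)` for `a` of order `p`. -/
theorem closure_pair_equiv (hs : IsSpecialRankOnePair A B) (hab : HasAbelianUnipotents A B)
    {a : G} (ha : a ∈ A) (ha1 : a ≠ 1) (hap : a ^ p = 1) :
    Nonempty (↥(Subgroup.closure ({a, partner A B a} : Set G)) ≃* SL(2, ZMod p)) ∨
    Nonempty (↥(Subgroup.closure ({a, partner A B a} : Set G)) ≃*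
      Matrix.ProjectiveSpecialLinearGroup (Fin 2) (ZMod p)) := by
  let D := specialData hs hab ha ha1 hap
  let φ := D.hom (fun q => zmod_split q)
  have hup : φ (upSL 1) = a := by
    rw [D.hom_upSL]; exact zpw_one a
  have hlo : φ (loSL (-1)) = (partner A B a)⁻¹ := by
    rw [D.hom_loSL, neg_neg]; exact zpw_one _
  have hrange : φ.range = Subgroup.closure ({a, partner A B a} : Set G) := by
    apply le_antisymm
    · rw [MonoidHom.range_eq_map, ← lower_sup_upper, Subgroup.map_le_iff_le_comap]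
      refine sup_le (fun z hz => ?_) (fun z hz => ?_)
      · obtain ⟨t, rfl⟩ := mem_lowerUnipotentSL2.1 hz
        rw [Subgroup.mem_comap, D.hom_loSL]
        exact Subgroup.pow_mem _ (Subgroup.inv_mem _ (Subgroup.subset_closure (by simp))) _
      · obtain ⟨t, rfl⟩ := mem_upperUnipotentSL2.1 hz
        rw [Subgroup.mem_comap, D.hom_upSL]
        exact Subgroup.pow_mem _ (Subgroup.subset_closure (by simp)) _
    · rw [Subgroup.closure_le]
      rintro x (rfl | rfl)
      · exact ⟨_, hup⟩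
      · exact ⟨(loSL (-1))⁻¹, by rw [map_inv, hlo, inv_inv]⟩
  have hker : φ.ker ≤ Subgroup.center SL(2, ZMod p) := by
    rcases normal_dichotomy lower_sup_upper isRankOnePair_SL2 φ.ker inferInstance with h | h
    · exfalso
      have hmap := congrArg (Subgroup.map φ) h
      rw [Subgroup.map_sup, (Subgroup.map_eq_bot_iff _).2 le_rfl, bot_sup_eq,
        ← MonoidHom.range_eq_map] at hmap
      have haB : a ∈ B := by
        obtain ⟨z, hz, hza⟩ := hmap.ge ⟨upSL 1, hup⟩
        obtain ⟨t, rfl⟩ := mem_lowerUnipotentSL2.1 hz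
        rw [D.hom_loSL] at hza
        rw [← hza]
        exact B.pow_mem (B.inv_mem (partner_mem hs.1 ha ha1)) _
      apply ha1
      have : a ∈ A ⊓ B := ⟨ha, haB⟩
      rwa [inf_eq_bot hs.1, Subgroup.mem_bot] at this
    · exact h
  let e := (MulEquiv.subgroupCongr hrange.symm).trans (QuotientGroup.quotientKerEquivRange φ).symm
  by_cases hb : φ.ker = ⊥
  · exact Or.inl ⟨e.trans ((QuotientGroup.quotientMulEquivOfEq hb).trans QuotientGroup.quotientBot)⟩
  · refine Or.inr ⟨e.trans (QuotientGroup.quotientMulEquivOfEq (le_antisymm hker fun z hz => ?_))⟩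
    obtain ⟨⟨x, hx⟩, hx1⟩ := Subgroup.ne_bot_iff_exists_ne_one.1 hb
    have hx1' : x ≠ 1 := fun e => hx1 (Subtype.ext e)
    rcases center_SL2_two z hz with rfl | hz'
    · exact φ.ker.one_mem
    · have hx' := (center_SL2_two x (hker hx)).resolve_left hx1'
      have : z = x := Subtype.ext (hz'.trans hx'.symm)
      rwa [this]

end Cfsg.Agent.RankOne
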