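import Cfsg.Agent.Lib.Zassenhaus.Basic
import Mathlib.GroupTheory.Perm.Cycle.Type

/-!
Zassenhaus groups of odd degree with an abelian 2-group regular on the points other than `a`.

* `EvenHyp` : the hypotheses
* `exists_fix_unique` : an involution fixes exactly one point
* `exists_decomp`, `mem_of_commute`, `mem_of_sq`
* `exists_conj` : the two-point stabiliser is transitive on the involutions of `U`
* `card_invs` : there are `|D|` of them
-/

set_option autoImplicit false

namespace Cfsg.Agent.RankOne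

open MulAction

/-- A Zassenhaus group and an abelian 2-group `U`, normal in `G_a` and regular off `a`. -/
structure EvenHyp (G Ω : Type*) [Group G] [MulAction G Ω] (a b : Ω) (U : Subgroup G) : Prop where
  zass : Cfsg.IsZassenhausGroup G Ω
  le : U ≤ stabilizer G a
  conj_mem : ∀ h ∈ stabilizer G a, ∀ u ∈ U, h * u * h⁻¹ ∈ U
  reg : ∀ c d : Ω, c ≠ a → d ≠ a → ∃! u : U, (u : G) • c = d
  two : IsPGroup 2 U
  comm : ∀ u ∈ U, ∀ u' ∈ U, u * u' = u' * u
  ne : b ≠ a

namespace EvenHyp

variable {G Ω : Type*} [Group G] [MulAction G Ω] {a b : Ω} {U : Subgroup G}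
variable (h : EvenHyp G Ω a b U)
include h

theorem conj_mem' {g x : G} (hg : g ∈ stabilizer G a) (hx : x ∈ U) : g⁻¹ * x * g ∈ U := by
  simpa using h.conj_mem g⁻¹ (inv_mem hg) x hx

theorem smul_ne {g : G} (hg : g • a = a) {c : Ω} (hc : c ≠ a) : g • c ≠ a := fun e =>
  hc (smul_left_cancel g (e.trans hg.symm))

theorem eq_one_of_fix {x : G} (hx : x ∈ U) {c : Ω} (hc : c ≠ a) (hxc : x • c = c) : x = 1 :=
  congrArg Subtype.val ((h.reg c c hc hc).unique (y₁ := ⟨x, hx⟩) (y₂ := 1) hxc (one_smul G c))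

theorem eq_of_fix {x : G} (hx : x ∈ U) (hx1 : x ≠ 1) {c : Ω} (hxc : x • c = c) : c = a := by
  by_contra hc
  exact hx1 (h.eq_one_of_fix hx hc hxc)

theorem exists_decomp {g : G} (hg : g ∈ stabilizer G a) :
    ∃ x ∈ U, ∃ k ∈ stabilizer G a ⊓ stabilizer G b, x * k = g := by
  obtain ⟨x, hx, -⟩ := h.reg b (g • b) h.ne (h.smul_ne hg h.ne)
  refine ⟨x, x.2, (x : G)⁻¹ * g, Subgroup.mem_inf.2 ⟨mul_mem (inv_mem (h.le x.2)) hg, ?_⟩, mul_inv_cancel_left _ _⟩
  show ((x : G)⁻¹ * g) • b = b
  rw [mul_smul, ← hx, inv_smul_smul]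

theorem eq_one_of_mem {x : G} (hx : x ∈ U) (hb : x • b = b) : x = 1 := h.eq_one_of_fix hx h.ne hb

theorem eq_one_of_commute {x k : G} (hx : x ∈ U) (hx1 : x ≠ 1)
    (hk : k ∈ stabilizer G a ⊓ stabilizer G b) (hc : k * x = x * k) : k = 1 := by
  have hne : x • b ≠ b := fun e => hx1 (h.eq_one_of_mem hx e)
  refine Zassenhaus.eq_one_of_fix3 h.zass h.ne.symm hne.symm (h.smul_ne (h.le hx) h.ne).symm hk.1 hk.2 ?_
  rw [← mul_smul, hc, mul_smul, show k • b = b from hk.2]

theorem mem_of_commute {x g : G} (hx : x ∈ U) (hx1 : x ≠ 1) (hg : g ∈ stabilizer G a)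
    (hc : g * x = x * g) : g ∈ U := by
  obtain ⟨y, hy, k, hk, rfl⟩ := h.exists_decomp hg
  have : k * x = x * k := by
    apply mul_left_cancel (a := y)
    rw [← mul_assoc, hc, ← mul_assoc, h.comm x hx y hy, mul_assoc]
  rw [h.eq_one_of_commute hx hx1 hk this, mul_one]
  exact hy

variable [Finite Ω]

theorem card_U : Nat.card U + 1 = Nat.card Ω := by
  classical
  let e : U ≃ {c : Ω // c ≠ a} := Equiv.ofBijective
    (fun x => ⟨(x : G) • b, h.smul_ne (h.le x.2) h.ne⟩)
    ⟨fun x y hxy => (h.reg b ((y : G) • b) h.ne (h.smul_ne (h.le y.2) h.ne)).unique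
      (congrArg Subtype.val hxy) rfl,
    fun c => by
      obtain ⟨x, hx, -⟩ := h.reg b c h.ne c.2
      exact ⟨x, Subtype.ext hx⟩⟩
  rw [← Nat.card_congr (Equiv.optionSubtypeNe a), Finite.card_option, Nat.card_congr e]

theorem odd_card_omega : Odd (Nat.card Ω) := by
  have h3 := Zassenhaus.three_le_card h.zass
  have hU := h.card_U
  haveI : Finite U := Nat.finite_of_card_ne_zero (by omega)
  obtain ⟨n, hn⟩ := IsPGroup.iff_card.1 h.two
  rw [← hU, hn]
  rcases Nat.eq_zero_or_pos n with rfl | hn0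
  · rw [pow_zero] at hn; omega
  exact Even.add_one ((Nat.even_pow' hn0.ne').2 even_two)

theorem exists_fix_unique {w : G} (hw : w * w = 1) (hw1 : w ≠ 1) : ∃! c : Ω, w • c = c := by
  have h2 := Zassenhaus.card_fixedBy_le_two h.zass hw1
  have h1 : Nat.card (fixedBy Ω w) = 1 := by
    have hm : Nat.card (fixedBy Ω w) % 2 = Nat.card Ω % 2 := Zassenhaus.card_fixedBy_modEq hw
    rw [Nat.odd_iff.1 h.odd_card_omega] at hm
    omega
  obtain ⟨hsub, ⟨c⟩⟩ := Nat.card_eq_one_iff_unique.1 h1
  exact ⟨c, c.2, fun d hd => congrArg Subtype.val (hsub.elim (⟨d, hd⟩ : fixedBy Ω w) c)⟩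

theorem odd_card_pair : Odd (Nat.card ↥(stabilizer G a ⊓ stabilizer G b)) := by
  refine Odd.of_dvd_nat ?_ (Zassenhaus.card_pair_dvd_sub_two h.zass h.ne.symm)
  obtain ⟨k, hk⟩ := h.odd_card_omega
  have := Zassenhaus.three_le_card h.zass
  exact ⟨k - 1, by omega⟩

variable [Finite G]

theorem three_le_card_pair : 3 ≤ Nat.card ↥(stabilizer G a ⊓ stabilizer G b) := by
  obtain ⟨k, hk1, hka, hkb⟩ := Zassenhaus.exists_fix_pair h.zass h.ne.symm
  haveI : Nontrivial ↥(stabilizer G a ⊓ stabilizer G b) :=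
    ⟨⟨k, hka, hkb⟩, 1, fun e => hk1 (congrArg Subtype.val e)⟩
  have h2 : 1 < Nat.card ↥(stabilizer G a ⊓ stabilizer G b) := Finite.one_lt_card
  obtain ⟨m, hm⟩ := h.odd_card_pair
  omega

theorem card_stab : Nat.card (stabilizer G a) = Nat.card U * Nat.card ↥(stabilizer G a ⊓ stabilizer G b) := by
  have := h.card_U
  rw [Zassenhaus.card_stab h.zass h.ne.symm, show Nat.card U = Nat.card Ω - 1 by omega]

theorem card_group : Nat.card G =
    (Nat.card U + 1) * (Nat.card U * Nat.card ↥(stabilizer G a ⊓ stabilizer G b)) := by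
  have := h.card_U
  rw [Zassenhaus.card_eq h.zass h.ne.symm, show Nat.card U = Nat.card Ω - 1 by omega,
    show Nat.card Ω - 1 + 1 = Nat.card Ω by omega]

theorem mem_of_sq {w : G} (hw : w * w = 1) (hwa : w • a = a) : w ∈ U := by
  obtain ⟨y, hy, k, hk, rfl⟩ := h.exists_decomp hwa
  have hyk : k * y * k⁻¹ ∈ U := h.conj_mem k hk.1 y hy
  have e : k * k = (y * (k * y * k⁻¹))⁻¹ := eq_inv_of_mul_eq_one_right (by rw [← hw]; group)
  have hkk : k * k = 1 := h.eq_one_of_mem (e ▸ inv_mem (mul_mem hy hyk)) (mul_mem hk hk).2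
  have hk1 : k = 1 := by
    have hdvd : orderOf (⟨k, hk⟩ : ↥(stabilizer G a ⊓ stabilizer G b)) ∣ 2 :=
      orderOf_dvd_of_pow_eq_one (Subtype.ext (by simpa [pow_two] using hkk))
    rcases (Nat.dvd_prime Nat.prime_two).1 hdvd with h1 | h2
    · exact congrArg Subtype.val (orderOf_eq_one_iff.1 h1)
    · have := Odd.of_dvd_nat h.odd_card_pair
        (orderOf_dvd_natCard (⟨k, hk⟩ : ↥(stabilizer G a ⊓ stabilizer G b)))
      rw [h2] at this
      exact absurd this (by decide)
  rw [hk1, mul_one]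
  exact hy

/-- The involutions of `U`. -/
abbrev invs (U : Subgroup G) : Set G := {w | w ∈ U ∧ w * w = 1 ∧ w ≠ 1}

omit h in
theorem invs_subset (U : Subgroup G) : invs U ⊆ (U : Set G) := fun _ hw => hw.1

theorem invs_nonempty : (invs U).Nonempty := by
  have h3 := Zassenhaus.three_le_card h.zass
  have hU := h.card_U
  obtain ⟨n, hn⟩ := IsPGroup.iff_card.1 h.two
  have hn0 : n ≠ 0 := by
    rintro rfl
    rw [pow_zero] at hn
    omega
  haveI : Fact (Nat.Prime 2) := ⟨Nat.prime_two⟩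
  obtain ⟨x, hx⟩ := exists_prime_orderOf_dvd_card' (G := U) 2 (hn ▸ dvd_pow_self 2 hn0)
  refine ⟨x, x.2, ?_, fun e => ?_⟩
  · have := pow_orderOf_eq_one x
    rw [hx, pow_two] at this
    exact congrArg Subtype.val this
  · rw [show x = 1 from Subtype.ext e, orderOf_one] at hx
    omega

theorem conj_invs {k w : G} (hk : k • a = a) (hw : w ∈ invs U) : k * w * k⁻¹ ∈ invs U :=
  ⟨h.conj_mem k hk w hw.1, by rw [show k * w * k⁻¹ * (k * w * k⁻¹) = k * (w * w) * k⁻¹ by group, hw.2.1]; group,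
    fun e => hw.2.2 (conj_eq_one_iff.1 e)⟩

theorem conj_injective {x : G} (hx : x ∈ U) (hx1 : x ≠ 1) {k k' : G}
    (hk : k ∈ stabilizer G a ⊓ stabilizer G b) (hk' : k' ∈ stabilizer G a ⊓ stabilizer G b)
    (e : k * x * k⁻¹ = k' * x * k'⁻¹) : k = k' := by
  have h1 := h.eq_one_of_commute hx hx1 (mul_mem (inv_mem hk') hk) (by
    rw [show k'⁻¹ * k * x = k'⁻¹ * (k * x * k⁻¹) * k by group, e]; group)
  exact (inv_mul_eq_one.1 h1).symm

theorem le_card_invs : Nat.card ↥(stabilizer G a ⊓ stabilizer G b) ≤ (invs U).ncard := by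
  obtain ⟨x, hx⟩ := h.invs_nonempty
  rw [← Nat.card_coe_set_eq]
  refine Nat.card_le_card_of_injective (fun k => ⟨(k : G) * x * (k : G)⁻¹, h.conj_invs k.2.1 hx⟩) ?_
  intro k k' e
  exact Subtype.ext (h.conj_injective hx.1 hx.2.2 k.2 k'.2 (congrArg Subtype.val e))

theorem card_invs : (invs U).ncard = Nat.card ↥(stabilizer G a ⊓ stabilizer G b) := by
  classical
  refine le_antisymm ?_ h.le_card_invs
  haveI := Fintype.ofFinite G
  haveI := Fintype.ofFinite Ω
  set d := Nat.card ↥(stabilizer G a ⊓ stabilizer G b) with hd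
  let I : Finset G := Finset.univ.filter fun w => w * w = 1 ∧ w ≠ 1
  -- each point is fixed by as many involutions as `a`
  have hfix : ∀ c : Ω, (I.filter fun w => w • c = c).card = (invs U).ncard := by
    intro c
    haveI := Zassenhaus.isPretransitive h.zass
    obtain ⟨g, rfl⟩ := exists_smul_eq G a c
    rw [Set.ncard_eq_toFinset_card']
    refine Finset.card_bij (fun w _ => g⁻¹ * w * g) ?_ ?_ ?_
    · intro w hw
      simp only [I, Finset.mem_filter, Finset.mem_univ, true_and] at hw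
      rw [Set.mem_toFinset]
      have h2 : g⁻¹ * w * g * (g⁻¹ * w * g) = 1 := by
        rw [show g⁻¹ * w * g * (g⁻¹ * w * g) = g⁻¹ * (w * w) * g by group, hw.1.1]; group
      refine ⟨h.mem_of_sq h2 ?_, h2, fun e => hw.1.2 ?_⟩
      · rw [mul_smul, mul_smul, hw.2, inv_smul_smul]
      · have e' := congrArg (fun z => g * z * g⁻¹) e
        simpa [mul_assoc] using e'
    · intro w _ w' _ e
      exact mul_left_cancel (mul_right_cancel e)
    · intro w hw
      rw [Set.mem_toFinset] at hw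
      refine ⟨g * w * g⁻¹, ?_, by group⟩
      simp only [I, Finset.mem_filter, Finset.mem_univ, true_and]
      refine ⟨⟨by rw [show g * w * g⁻¹ * (g * w * g⁻¹) = g * (w * w) * g⁻¹ by group, hw.2.1]; group,
        fun e => hw.2.2 (conj_eq_one_iff.1 e)⟩, ?_⟩
      rw [mul_smul, mul_smul, inv_smul_smul, show w • a = a from h.le hw.1]
  -- all involutions, sorted by their fixed point
  have htot : I.card = Fintype.card Ω * (invs U).ncard := by
    have hpick : ∀ w : G, ∃ c : Ω, w ∈ I → w • c = c := by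
      intro w
      by_cases hw : w ∈ I
      · simp only [I, Finset.mem_filter, Finset.mem_univ, true_and] at hw
        obtain ⟨c, hc, -⟩ := h.exists_fix_unique hw.1 hw.2
        exact ⟨c, fun _ => hc⟩
      · exact ⟨a, fun hh => absurd hh hw⟩
    choose p hp using hpick
    rw [Finset.card_eq_sum_card_fiberwise (f := p) (t := Finset.univ) (fun x _ => Finset.mem_univ _),
      Finset.sum_congr rfl (g := fun _ => (invs U).ncard), Finset.sum_const, Finset.card_univ, smul_eq_mul]
    intro c _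
    rw [← hfix c]
    congr 1
    ext w
    simp only [Finset.mem_filter]
    constructor
    · rintro ⟨hw, rfl⟩; exact ⟨hw, hp w hw⟩
    · rintro ⟨hw, hwc⟩
      refine ⟨hw, ?_⟩
      have hw' := hw
      simp only [I, Finset.mem_filter, Finset.mem_univ, true_and] at hw'
      exact (h.exists_fix_unique hw'.1 hw'.2).unique (hp w hw) hwc
  -- at most `d` of them carry `a` to a given point
  have hmove : (I.filter fun w => w • a ≠ a).card ≤ d * (Finset.univ.erase a).card := by
    refine Finset.card_le_mul_card_image_of_maps_to (f := fun w : G => w • a) ?_ _ ?_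
    · intro w hw
      simp only [Finset.mem_filter] at hw
      exact Finset.mem_erase.2 ⟨hw.2, Finset.mem_univ _⟩
    · intro c hc
      have hca := (Finset.mem_erase.1 hc).1
      obtain ⟨s, -, hsa, hsc⟩ := Zassenhaus.exists_involution_swap h.zass hca.symm
      rw [hd, ← Zassenhaus.card_pair_stab_eq h.zass h.ne.symm hca.symm,
        ← Zassenhaus.card_swap hsa hsc, Nat.card_eq_fintype_card, Fintype.card_subtype]
      refine Finset.card_le_card fun w hw => ?_
      simp only [I, Finset.mem_filter, Finset.mem_univ, true_and] at hw ⊢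
      exact ⟨hw.2, by rw [← hw.2, ← mul_smul, hw.1.1.1, one_smul]⟩
  have hsplit := Finset.card_filter_add_card_filter_not (s := I) (p := fun w : G => w • a = a)
  rw [hfix a, htot] at hsplit
  rw [Finset.card_erase_of_mem (Finset.mem_univ a), Finset.card_univ] at hmove
  have hn : 3 ≤ Fintype.card Ω := by
    rw [← Nat.card_eq_fintype_card]; exact Zassenhaus.three_le_card h.zass
  obtain ⟨m, hm⟩ : ∃ m, Fintype.card Ω = m + 1 := ⟨Fintype.card Ω - 1, by omega⟩
  rw [hm, Nat.add_sub_cancel] at hmove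
  rw [hm, Nat.add_mul, one_mul] at hsplit
  refine le_of_mul_le_mul_left (a := m) ?_ (by omega)
  rw [mul_comm d] at hmove
  simp only [ne_eq] at hmove hsplit
  omega

/-- The two-point stabiliser is transitive on the involutions of `U`. -/
theorem exists_conj {x y : G} (hx : x ∈ invs U) (hy : y ∈ invs U) :
    ∃ k ∈ stabilizer G a ⊓ stabilizer G b, k * x * k⁻¹ = y := by
  classical
  haveI := Fintype.ofFinite G
  let f : ↥(stabilizer G a ⊓ stabilizer G b) → invs U :=
    fun k => ⟨(k : G) * x * (k : G)⁻¹, h.conj_invs k.2.1 hx⟩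
  have hf : Function.Bijective f := (Nat.bijective_iff_injective_and_card f).2
    ⟨fun k k' e => Subtype.ext (h.conj_injective hx.1 hx.2.2 k.2 k'.2 (congrArg Subtype.val e)),
      by rw [Nat.card_coe_set_eq, h.card_invs]⟩
  obtain ⟨k, hk⟩ := hf.2 ⟨y, hy⟩
  exact ⟨k, k.2, congrArg Subtype.val hk⟩

end EvenHyp

end Cfsg.Agent.RankOne
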