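import Cfsg.Agent.Lib.RankOne.ZassEven
import Cfsg.Agent.Lib.BSW.Dual
import Cfsg.Agent.Lib.Char.Induced
import Cfsg.Agent.Lib.Char.Virtual
import Cfsg.Agent.Lib.Char.PRegular
import Cfsg.Agent.Lib.CharApp.Schur
import Cfsg.Agent.Lib.Coherence.Virtual

/-!
In a Zassenhaus group of odd degree the abelian 2-group regular off a point is elementary abelian.

* `Phi` : the function induced from a difference of linear characters of `U`
* `Phi_inner`, `Phi_invs`, `degree_bound`
* `EvenHyp.sq_eq_one` : the theorem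
-/

set_option autoImplicit false

namespace Cfsg.Agent.RankOne

open MulAction Cfsg Cfsg.Agent
open scoped ComplexConjugate

namespace EvenHyp

variable {G Ω : Type*} [Group G] [MulAction G Ω] {a b : Ω} {U : Subgroup G}
variable (h : EvenHyp G Ω a b U)
include h

/-- Conjugation by an element of the two-point stabiliser on `U`. -/
def cj (k : ↥(stabilizer G a ⊓ stabilizer G b)) : U →* U where
  toFun x := ⟨(k : G)⁻¹ * x * k, h.conj_mem' k.2.1 x.2⟩
  map_one' := Subtype.ext (by simp)
  map_mul' x y := Subtype.ext (show (k : G)⁻¹ * ((x : G) * y) * k =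
    (k : G)⁻¹ * x * k * ((k : G)⁻¹ * y * k) by group)

theorem cj_injective (k : ↥(stabilizer G a ⊓ stabilizer G b)) : Function.Injective (h.cj k) :=
  fun _ _ e => Subtype.ext (mul_left_cancel (mul_right_cancel (congrArg Subtype.val e)))

theorem cj_comp (k l : ↥(stabilizer G a ⊓ stabilizer G b)) : (h.cj k).comp (h.cj l) = h.cj (l * k) :=
  MonoidHom.ext fun x => Subtype.ext (show (k : G)⁻¹ * ((l : G)⁻¹ * x * l) * k =
    ((l : G) * k)⁻¹ * x * ((l : G) * k) by group)

theorem cj_one : h.cj 1 = MonoidHom.id U := MonoidHom.ext fun x => Subtype.ext (by simp [cj])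

/-- A character fixed by a nontrivial element of the two-point stabiliser is trivial. -/
theorem eq_one_of_comp_eq [Finite G] {lam : U →* ℂˣ} {k : ↥(stabilizer G a ⊓ stabilizer G b)}
    (hk : k ≠ 1) (e : lam.comp (h.cj k) = lam) : lam = 1 := by
  have hinj : Function.Injective (fun x : U => x⁻¹ * h.cj k x) := by
    intro x y exy
    have h1 : h.cj k (x * y⁻¹) = x * y⁻¹ := by
      have h2 : x⁻¹ * h.cj k x = y⁻¹ * h.cj k y := exy
      rw [map_mul, map_inv, show h.cj k x = x * (y⁻¹ * h.cj k y) by rw [← h2, mul_inv_cancel_left],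
        mul_assoc, mul_assoc, mul_inv_cancel, mul_one]
    by_contra hne
    refine hk (Subtype.ext (h.eq_one_of_commute (x * y⁻¹ : U).2
      (fun e => hne (mul_inv_eq_one.1 (Subtype.ext e))) k.2 ?_))
    have h3 : (k : G)⁻¹ * ((x * y⁻¹ : U) : G) * k = ((x * y⁻¹ : U) : G) := congrArg Subtype.val h1
    conv_lhs => rw [← h3]
    group
  refine MonoidHom.ext fun z => ?_
  obtain ⟨x, hx⟩ := (Finite.surjective_of_injective hinj) z
  rw [← hx]
  show lam (x⁻¹ * h.cj k x) = 1
  rw [map_mul, map_inv, show lam (h.cj k x) = lam x from DFunLike.congr_fun e x, inv_mul_cancel]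

variable [Fintype G] [Finite Ω]

open Classical in
/-- On `U` the induced function is the sum over the two-point stabiliser. -/
theorem indFun_apply_U [Fintype ↥(stabilizer G a ⊓ stabilizer G b)] (ψ : U → ℂ) (hψ : ψ 1 = 0) (x : U) :
    indFun U ψ (x : G) = ∑ k : ↥(stabilizer G a ⊓ stabilizer G b), ψ (h.cj k x) := by
  by_cases hx : x = 1
  · subst hx
    simp [Char.indFun_one_apply, hψ]
  have hx1 : (x : G) ≠ 1 := fun e => hx (Subtype.ext e)
  have : Fintype U := Fintype.ofFinite _
  let F : U × ↥(stabilizer G a ⊓ stabilizer G b) → G := fun p => (p.1 : G) * p.2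
  have hF : Function.Injective F := by
    rintro ⟨y, k⟩ ⟨y', k'⟩ e
    have e' : (y : G) * k = y' * k' := e
    have h1 : (y' : G)⁻¹ * y = k' * (k : G)⁻¹ := by
      rw [eq_mul_inv_iff_mul_eq, mul_assoc, e', inv_mul_cancel_left]
    have h2 := h.eq_one_of_mem (mul_mem (inv_mem y'.2) y.2)
      (h1 ▸ (mul_mem k'.2 (inv_mem k.2)).2)
    rw [inv_mul_eq_one] at h2
    rw [← h2] at e'
    exact Prod.ext (Subtype.ext h2.symm) (Subtype.ext (mul_left_cancel e'))
  rw [indFun]
  rw [← Finset.sum_subset (Finset.subset_univ (Finset.univ.image F))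
    (f := fun y : G => extendByZero U ψ (y⁻¹ * x * y))]
  · rw [Finset.sum_image fun p _ q _ e => hF e]
    rw [Fintype.sum_prod_type, Finset.mul_sum,
      Finset.sum_congr rfl (g := fun _ : U => (Nat.card U : ℂ)⁻¹ *
        ∑ k : ↥(stabilizer G a ⊓ stabilizer G b), ψ (h.cj k x))]
    · rw [Finset.sum_const, Finset.card_univ, nsmul_eq_mul, ← Nat.card_eq_fintype_card, ← mul_assoc,
        mul_inv_cancel₀ (Nat.cast_ne_zero.2 Nat.card_pos.ne'), one_mul]
    · intro y _
      congr 1
      refine Finset.sum_congr rfl fun k _ => ?_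
      have e : (F (y, k))⁻¹ * (x : G) * F (y, k) = ((h.cj k x : U) : G) := by
        show ((y : G) * k)⁻¹ * x * ((y : G) * k) = (k : G)⁻¹ * x * k
        rw [show ((y : G) * k)⁻¹ * x * ((y : G) * k) = (k : G)⁻¹ * ((y : G)⁻¹ * (x * y)) * k by group,
          h.comm x x.2 y y.2, inv_mul_cancel_left]
      rw [e, Char.extendByZero_coe]
  · intro y _ hy
    refine Char.extendByZero_not_mem _ _ fun hm => hy ?_
    have hya : y • a = a := by
      refine h.eq_of_fix x.2 hx1 ?_
      have := congrArg (fun z => y • z) (h.le hm : (y⁻¹ * x * y) • a = a)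
      simpa only [mul_smul, smul_inv_smul] using this
    obtain ⟨z, hz, k, hk, rfl⟩ := h.exists_decomp hya
    exact Finset.mem_image.2 ⟨(⟨z, hz⟩, ⟨k, hk⟩), Finset.mem_univ _, rfl⟩

omit h [Finite Ω] in
/-- The function induced from `lam₀ - lam`. -/
noncomputable def Phi (lam₀ lam : U →* ℂˣ) : G → ℂ :=
  indFun U (BSW.lin lam₀ - BSW.lin lam)

omit h [Finite Ω] in
theorem Phi_isGC (lam₀ lam : U →* ℂˣ) : IsGeneralizedCharacter G (indFun U (BSW.lin lam₀ - BSW.lin lam)) :=
  Char.IsGeneralizedCharacter.indFun (Char.IsGeneralizedCharacter.sub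
    (Char.isGeneralizedCharacter_of_isCharacter (Char.IsIrrCharacter.isCharacter (BSW.isIrr_lin lam₀)))
    (Char.isGeneralizedCharacter_of_isCharacter (Char.IsIrrCharacter.isCharacter (BSW.isIrr_lin lam))))

theorem Phi_one (lam₀ lam : U →* ℂˣ) : Phi lam₀ lam 1 = 0 := by
  simp [Phi, Char.indFun_one_apply, BSW.lin_apply_one]

omit h [Finite Ω] [Fintype G] in
/-- Trivial on the involutions. -/
def TrivInvs (lam : U →* ℂˣ) : Prop := ∀ x : U, (x : G) ∈ invs U → lam x = 1

theorem trivInvs_comp {lam : U →* ℂˣ} (hl : TrivInvs lam) (k : ↥(stabilizer G a ⊓ stabilizer G b)) :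
    TrivInvs (lam.comp (h.cj k)) := fun x hx => hl _ (by
  simpa [cj] using h.conj_invs ((stabilizer G a).inv_mem k.2.1) hx)

theorem trivInvs_of_comp {lam : U →* ℂˣ} (k : ↥(stabilizer G a ⊓ stabilizer G b))
    (hl : TrivInvs (lam.comp (h.cj k))) : TrivInvs lam := by
  have := h.trivInvs_comp hl k⁻¹
  rwa [MonoidHom.comp_assoc, h.cj_comp, inv_mul_cancel, h.cj_one, MonoidHom.comp_id] at this

open Classical in
theorem Phi_inner [Fintype ↥(stabilizer G a ⊓ stabilizer G b)] [Fintype U] {lam₀ lam mu : U →* ℂˣ}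
    (h0 : TrivInvs lam₀) (h01 : lam₀ ≠ 1) (hl : ¬ TrivInvs lam) (hm : ¬ TrivInvs mu) :
    classInner (Phi lam₀ lam) (Phi lam₀ mu) =
      1 + ((Finset.univ.filter fun k => lam = mu.comp (h.cj k)).card : ℂ) := by
  rw [Phi, Phi, Char.frobenius_reciprocity _ _ (Char.indFun_isClassFunction _ _)]
  have e : (fun x : U => indFun U (BSW.lin lam₀ - BSW.lin mu) (x : G)) =
      ∑ k : ↥(stabilizer G a ⊓ stabilizer G b), (BSW.lin (lam₀.comp (h.cj k)) - BSW.lin (mu.comp (h.cj k))) := by
    funext x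
    rw [h.indFun_apply_U _ (by simp [BSW.lin_apply_one]), Finset.sum_apply]
    rfl
  rw [e, Char.classInner_sum_right]
  have hterm : ∀ k : ↥(stabilizer G a ⊓ stabilizer G b),
      classInner (BSW.lin lam₀ - BSW.lin lam) (BSW.lin (lam₀.comp (h.cj k)) - BSW.lin (mu.comp (h.cj k))) =
      (if k = 1 then 1 else 0) + (if lam = mu.comp (h.cj k) then 1 else 0) := by
    intro k
    have n1 : lam₀ ≠ mu.comp (h.cj k) := fun e => hm (h.trivInvs_of_comp k (e ▸ h0))
    have n2 : lam ≠ lam₀.comp (h.cj k) := fun e => hl (e ▸ h.trivInvs_comp h0 k)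
    have n3 : lam₀ = lam₀.comp (h.cj k) ↔ k = 1 := ⟨fun e => by
      by_contra hk
      exact h01 (h.eq_one_of_comp_eq hk e.symm), fun e => by subst e; rw [h.cj_one, MonoidHom.comp_id]⟩
    simp only [Char.classInner_sub_left, Char.classInner_sub_right, BSW.classInner_lin, if_neg n1,
      if_neg n2, if_congr n3 rfl rfl]
    ring
  rw [Finset.sum_congr rfl fun k _ => hterm k, Finset.sum_add_distrib, Finset.sum_ite_eq',
    if_pos (Finset.mem_univ _), Finset.sum_boole]

theorem sum_cj {x : U} (hx : (x : G) ∈ invs U) [Fintype ↥(stabilizer G a ⊓ stabilizer G b)]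
    [Fintype U] [DecidablePred fun z : U => (z : G) ∈ invs U] (f : U → ℂ) :
    ∑ k : ↥(stabilizer G a ⊓ stabilizer G b), f (h.cj k x) =
      ∑ z ∈ Finset.univ.filter (fun z : U => (z : G) ∈ invs U), f z := by
  refine Finset.sum_bij (fun k _ => h.cj k x) ?_ ?_ ?_ fun _ _ => rfl
  · intro k _
    refine Finset.mem_filter.2 ⟨Finset.mem_univ _, ?_⟩
    simpa [cj] using h.conj_invs ((stabilizer G a).inv_mem k.2.1) hx
  · intro k _ l _ e
    have e' : (k : G)⁻¹ * x * k = (l : G)⁻¹ * x * l := congrArg Subtype.val e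
    refine inv_injective (Subtype.ext ?_)
    exact h.conj_injective hx.1 hx.2.2 (k⁻¹).2 (l⁻¹).2 (by simpa using e')
  · intro z hz
    obtain ⟨k, hk, e⟩ := h.exists_conj hx (Finset.mem_filter.1 hz).2
    refine ⟨(⟨k, hk⟩ : ↥(stabilizer G a ⊓ stabilizer G b))⁻¹, Finset.mem_univ _, Subtype.ext ?_⟩
    simpa [cj] using e

/-- The elements of `U` of square one. -/
def sqOne : Subgroup U where
  carrier := {x | x * x = 1}
  mul_mem' {x y} hx hy := by
    show x * y * (x * y) = 1
    rw [show x * y * (x * y) = x * (y * x) * y by group,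
      show y * x = x * y from Subtype.ext (h.comm y y.2 x x.2),
      show x * (x * y) * y = x * x * (y * y) by group, show x * x = 1 from hx, show y * y = 1 from hy, one_mul]
  one_mem' := one_mul 1
  inv_mem' {x} hx := by
    show x⁻¹ * x⁻¹ = 1
    rw [← mul_inv_rev, show x * x = 1 from hx, inv_one]

theorem card_sqOne : Nat.card h.sqOne = Nat.card ↥(stabilizer G a ⊓ stabilizer G b) + 1 := by
  rw [← h.card_invs, ← Nat.card_coe_set_eq, ← Finite.card_option]
  classical
  refine Nat.card_congr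
    { toFun := fun x => if hx : (x : U) = 1 then none else some ⟨((x : U) : G), (x : U).2,
        congrArg Subtype.val (show (x : U) * (x : U) = 1 from x.2), fun e => hx (Subtype.ext e)⟩
      invFun := fun o => o.elim 1 fun w => ⟨⟨w.1, w.2.1⟩, Subtype.ext w.2.2.1⟩
      left_inv := fun x => ?_
      right_inv := fun o => ?_ }
  · by_cases hx : (x : U) = 1
    · simp [hx]; exact (Subtype.ext hx).symm
    · simp [hx]
  · cases o with
    | none => simp
    | some w => simp [show (⟨w.1, w.2.1⟩ : U) ≠ 1 from fun e => w.2.2.2 (congrArg Subtype.val e)]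

theorem Phi_invs {lam₀ lam : U →* ℂˣ} (h0 : TrivInvs lam₀) (hl : ¬ TrivInvs lam) {x : G}
    (hx : x ∈ invs U) :
    Phi lam₀ lam x = (Nat.card ↥(stabilizer G a ⊓ stabilizer G b) : ℂ) + 1 := by
  classical
  have : Fintype U := Fintype.ofFinite _
  have : Fintype ↥(stabilizer G a ⊓ stabilizer G b) := Fintype.ofFinite _
  rw [Phi, show x = ((⟨x, hx.1⟩ : U) : G) from rfl, h.indFun_apply_U _ (by simp [BSW.lin_apply_one]),
    h.sum_cj (x := ⟨x, hx.1⟩) hx]
  simp only [Pi.sub_apply, Finset.sum_sub_distrib]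
  have e1 : ∑ z ∈ Finset.univ.filter (fun z : U => (z : G) ∈ invs U), BSW.lin lam₀ z =
      (Nat.card ↥(stabilizer G a ⊓ stabilizer G b) : ℂ) := by
    rw [Finset.sum_congr rfl (g := fun _ => (1 : ℂ)) fun z hz => by
      simp [BSW.lin, h0 z (Finset.mem_filter.1 hz).2], Finset.sum_const, nsmul_eq_mul, mul_one]
    congr 1
    rw [← h.card_invs, Set.ncard_eq_toFinset_card',
      ← Finset.card_image_of_injective _ Subtype.val_injective]
    congr 1
    ext w
    simp only [Finset.mem_image, Finset.mem_filter, Finset.mem_univ, true_and, Set.mem_toFinset]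
    exact ⟨fun ⟨z, hz, e⟩ => e ▸ hz, fun hw => ⟨⟨w, hw.1⟩, hw, rfl⟩⟩
  have e2 : ∑ z ∈ Finset.univ.filter (fun z : U => (z : G) ∈ invs U), BSW.lin lam z = -1 := by
    have hne : ((Units.coeHom ℂ).comp (lam.comp h.sqOne.subtype)) ≠ 1 := by
      intro e
      refine hl fun z hz => Units.ext ?_
      exact DFunLike.congr_fun e ⟨z, Subtype.ext hz.2.1⟩
    have : Fintype h.sqOne := Fintype.ofFinite _
    have hs := sum_hom_units_eq_zero _ hne
    rw [← Finset.add_sum_erase _ _ (Finset.mem_univ (1 : h.sqOne)), map_one] at hs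
    have hb : ∑ z ∈ Finset.univ.filter (fun z : U => (z : G) ∈ invs U), BSW.lin lam z =
        ∑ z ∈ (Finset.univ : Finset h.sqOne).erase 1, (Units.coeHom ℂ).comp (lam.comp h.sqOne.subtype) z := by
      refine (Finset.sum_nbij (fun z : h.sqOne => (z : U)) ?_ ?_ ?_ ?_).symm
      · intro z hz
        refine Finset.mem_filter.2 ⟨Finset.mem_univ _, (z : U).2,
          congrArg Subtype.val (show (z : U) * (z : U) = 1 from z.2),
          fun e => (Finset.mem_erase.1 hz).1 (Subtype.ext (Subtype.ext e))⟩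
      · exact fun _ _ _ _ e => Subtype.ext e
      · intro z hz
        have hz' := (Finset.mem_filter.1 (Finset.mem_coe.1 hz)).2
        exact ⟨⟨z, Subtype.ext hz'.2.1⟩, Finset.mem_coe.2 (Finset.mem_erase.2
          ⟨fun e => hz'.2.2 (congrArg (fun w : h.sqOne => ((w : U) : G)) e), Finset.mem_univ _⟩), rfl⟩
      · intro z _; rfl
    rw [hb]
    linear_combination hs
  rw [e1, e2]
  ring

/-- The values of an irreducible constituent pair. -/
theorem degree_bound {lam₀ lam : U →* ℂˣ} (h0 : TrivInvs lam₀) (hl : ¬ TrivInvs lam)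
    {A B : G → ℂ} (hA : IsIrrCharacter G A) (hB : IsIrrCharacter G B) (he : Phi lam₀ lam = A - B) :
    ∃ n : ℕ, A 1 = n ∧ B 1 = n ∧
      (Nat.card U + 1) * Nat.card ↥(stabilizer G a ⊓ stabilizer G b) ≤
        n * (Nat.card ↥(stabilizer G a ⊓ stabilizer G b) - 1) := by
  classical
  have : Fintype U := Fintype.ofFinite _
  have : Fintype ↥(stabilizer G a ⊓ stabilizer G b) := Fintype.ofFinite _
  set d := Nat.card ↥(stabilizer G a ⊓ stabilizer G b) with hd
  have hd3 : 3 ≤ d := h.three_le_card_pair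
  obtain ⟨e, he'⟩ := h.invs_nonempty
  -- off the stabiliser the function vanishes at `b e b⁻¹ e`
  have hval : ∀ g : G, Phi lam₀ lam (g * e * g⁻¹ * e) =
      if g ∈ stabilizer G a ∧ g ∉ U then (d : ℂ) + 1 else 0 := by
    intro g
    have hww : g * e * g⁻¹ * (g * e * g⁻¹) = 1 := by
      rw [show g * e * g⁻¹ * (g * e * g⁻¹) = g * (e * e) * g⁻¹ by group, he'.2.1]; group
    by_cases hga : g ∈ stabilizer G a
    · by_cases hgU : g ∈ U
      · rw [if_neg (fun hh => hh.2 hgU), h.comm g hgU e he'.1, mul_inv_cancel_right, he'.2.1, h.Phi_one]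
      · rw [if_pos ⟨hga, hgU⟩]
        have hwU := h.conj_mem g hga e he'.1
        refine h.Phi_invs h0 hl ⟨mul_mem hwU he'.1, ?_, fun h1 => hgU ?_⟩
        · rw [show g * e * g⁻¹ * e * (g * e * g⁻¹ * e) = g * e * g⁻¹ * (e * (g * e * g⁻¹)) * e by group,
            h.comm e he'.1 _ hwU, show g * e * g⁻¹ * (g * e * g⁻¹ * e) * e =
            g * (e * e) * g⁻¹ * (e * e) by group, he'.2.1]
          group
        · refine h.mem_of_commute he'.1 he'.2.2 hga ?_
          have h2 := eq_inv_of_mul_eq_one_left h1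
          rw [inv_eq_of_mul_eq_one_right he'.2.1, mul_inv_eq_iff_eq_mul] at h2
          exact h2
    · rw [if_neg (fun hh => hga hh.1), Phi, indFun, Finset.sum_eq_zero, mul_zero]
      intro y _
      by_cases hm : y⁻¹ * (g * e * g⁻¹ * e) * y ∈ U
      · rw [Char.extendByZero_mem _ _ hm]
        by_cases h1 : (⟨_, hm⟩ : U) = 1
        · simp [h1, BSW.lin_apply_one]
        · exfalso
          set z := y⁻¹ * (g * e * g⁻¹ * e) * y with hz
          have hz1 : z ≠ 1 := fun e => h1 (Subtype.ext e)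
          have hfix : ∀ p : Ω, (g * e * g⁻¹ * e) • p = p → p = y • a := by
            intro p hp
            have := h.eq_of_fix hm hz1 (c := y⁻¹ • p) (by
              rw [hz, mul_smul, mul_smul, smul_inv_smul, hp])
            rw [← this, smul_inv_smul]
          have hpa : (g * e * g⁻¹ * e) • (y • a) = y • a := by
            have h2 : z • a = a := h.le hm
            rw [hz, mul_smul, mul_smul, inv_smul_eq_iff] at h2
            exact h2
          have hep : e • (y • a) = y • a := by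
            refine hfix _ ?_
            have h3 : e * ((g * e * g⁻¹ * e) * e) = (g * e * g⁻¹ * e)⁻¹ := by
              rw [mul_assoc _ e e, he'.2.1, mul_one, eq_comm, mul_inv_rev, inv_eq_of_mul_eq_one_right he'.2.1,
                inv_eq_of_mul_eq_one_right hww]
            have h4 : (g * e * g⁻¹ * e) * e = e * (g * e * g⁻¹ * e)⁻¹ := by
              rw [← h3, ← mul_assoc e e, he'.2.1, one_mul]
            rw [← mul_smul, h4, mul_smul, inv_smul_eq_iff.2 hpa.symm]
          have hya : y • a = a := h.eq_of_fix he'.1 he'.2.2 hep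
          apply hga
          rw [hya, mul_smul, show e • a = a from h.le he'.1, mul_smul, mul_smul] at hpa
          have := h.eq_of_fix he'.1 he'.2.2 (eq_inv_smul_iff.2 hpa)
          rw [mem_stabilizer_iff]
          exact (inv_smul_eq_iff.1 this).symm
      · exact Char.extendByZero_not_mem _ _ hm
  have hsum : ∑ g : G, Phi lam₀ lam (g * e * g⁻¹ * e) =
      ((Nat.card U : ℂ) * d - Nat.card U) * ((d : ℂ) + 1) := by
    rw [Finset.sum_congr rfl fun g _ => hval g, Finset.sum_ite, Finset.sum_const_zero, add_zero,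
      Finset.sum_const, nsmul_eq_mul]
    congr 1
    have hsub : (Finset.univ.filter fun g => g ∈ U) ⊆ Finset.univ.filter fun g => g ∈ stabilizer G a :=
      fun g hg => Finset.mem_filter.2 ⟨Finset.mem_univ _, h.le (Finset.mem_filter.1 hg).2⟩
    rw [show (Finset.univ.filter fun g => g ∈ stabilizer G a ∧ g ∉ U) =
        (Finset.univ.filter fun g => g ∈ stabilizer G a) \ (Finset.univ.filter fun g => g ∈ U) by
      ext g; simp, Finset.card_sdiff_of_subset hsub, Nat.cast_sub (Finset.card_le_card hsub),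
      ← Fintype.card_subtype, ← Fintype.card_subtype]
    have e1 : Fintype.card {x : G // x ∈ stabilizer G a} = Nat.card U * d := by
      rw [← Nat.card_eq_fintype_card]; exact h.card_stab
    have e2 : Fintype.card {x : G // x ∈ U} = Nat.card U := (Nat.card_eq_fintype_card).symm
    rw [e1, e2]
    push_cast
    rfl
  have hchar : ∀ {χ : G → ℂ}, IsIrrCharacter G χ →
      ∑ g : G, χ (g * e * g⁻¹ * e) = (Nat.card G : ℂ) * χ e * χ e / χ 1 := by
    rintro χ ⟨n, ρ, hi, rfl⟩
    rw [CharApp.sum_char_conj_mul ρ e e, Representation.char_one]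
  have hdeg : A 1 = B 1 := by
    have := congrFun he 1
    rw [h.Phi_one, Pi.sub_apply] at this
    exact (sub_eq_zero.1 this.symm)
  obtain ⟨n, hn0, hn⟩ := Char.IsIrrCharacter.exists_degree hA
  have hAB : A e - B e = (d : ℂ) + 1 := by
    have := congrFun he e
    rw [h.Phi_invs h0 hl he', Pi.sub_apply] at this
    exact this.symm
  rw [Finset.sum_congr rfl fun g _ => congrFun he (g * e * g⁻¹ * e)] at hsum
  simp only [Pi.sub_apply, Finset.sum_sub_distrib, hchar hA, hchar hB] at hsum
  rw [← hdeg, hn, h.card_group, ← hd] at hsum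
  have hnC : (n : ℂ) ≠ 0 := Nat.cast_ne_zero.2 hn0.ne'
  have hqC : (Nat.card U : ℂ) ≠ 0 := Nat.cast_ne_zero.2 Nat.card_pos.ne'
  have hd1 : (d : ℂ) + 1 ≠ 0 := by exact_mod_cast Nat.succ_ne_zero d
  have key : (((Nat.card U + 1) * d : ℕ) : ℂ) * (A e + B e) = (n : ℂ) * ((d : ℂ) - 1) := by
    field_simp at hsum
    push_cast at hsum ⊢
    apply mul_left_cancel₀ (mul_ne_zero hqC hd1)
    linear_combination hsum - ((Nat.card U : ℂ) + 1) * d * Nat.card U * (A e + B e) * hAB
  obtain ⟨j, hj⟩ := Char.exists_int_of_isIntegral_mul (n := (Nat.card U + 1) * d) (k := (n : ℤ) * ((d : ℤ) - 1))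
    (by positivity) (by rw [key]; push_cast; ring)
    ((Char.IsCharacter.isIntegral (Char.IsIrrCharacter.isCharacter hA) e).add
      (Char.IsCharacter.isIntegral (Char.IsIrrCharacter.isCharacter hB) e))
  rw [hj] at key
  have key' : (((Nat.card U + 1) * d : ℕ) : ℤ) * j = (n : ℤ) * ((d : ℤ) - 1) := by exact_mod_cast key
  refine ⟨n, hn, hdeg ▸ hn, ?_⟩
  have hpos : 0 < (n : ℤ) * ((d : ℤ) - 1) := mul_pos (by exact_mod_cast hn0) (by omega)
  have hj1 : 1 ≤ j := by
    by_contra hj0
    push Not at hj0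
    have : (((Nat.card U + 1) * d : ℕ) : ℤ) * j ≤ 0 :=
      mul_nonpos_of_nonneg_of_nonpos (by positivity) (by omega)
    omega
  have hle : (((Nat.card U + 1) * d : ℕ) : ℤ) ≤ (n : ℤ) * ((d : ℤ) - 1) := by
    rw [← key']; exact le_mul_of_one_le_right (by positivity) hj1
  have : ((n * (d - 1) : ℕ) : ℤ) = (n : ℤ) * ((d : ℤ) - 1) := by
    push_cast [Nat.cast_sub (show 1 ≤ d by omega)]
    ring
  rw [← this] at hle
  exact_mod_cast hle

omit h [Finite Ω] in
theorem star_or {μ ν μ' ν' : G → ℂ} (hμ : IsIrrCharacter G μ) (hν : IsIrrCharacter G ν)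
    (hμ' : IsIrrCharacter G μ') (hν' : IsIrrCharacter G ν')
    (h1 : classInner (μ - ν) (μ' - ν') = 1) : μ = μ' ∨ ν = ν' := by
  classical
  simp only [Char.classInner_sub_left, Char.classInner_sub_right, Char.classInner_irr hμ hμ',
    Char.classInner_irr hμ hν', Char.classInner_irr hν hμ', Char.classInner_irr hν hν'] at h1
  by_contra hcon
  push Not at hcon
  rw [if_neg hcon.1, if_neg hcon.2] at h1
  split_ifs at h1 <;> norm_num at h1

omit [Fintype G] in
/-- `U` is elementary abelian. -/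
theorem sq_eq_one [Finite G] {u : G} (hu : u ∈ U) : u * u = 1 := by
  classical
  have : Fintype G := Fintype.ofFinite G
  have : Fintype U := Fintype.ofFinite _
  have : Fintype ↥(stabilizer G a ⊓ stabilizer G b) := Fintype.ofFinite _
  by_contra hu2
  set d := Nat.card ↥(stabilizer G a ⊓ stabilizer G b) with hd
  have hd3 : 3 ≤ d := h.three_le_card_pair
  -- squares
  let sq : U →* U := MonoidHom.mk' (fun x => x * x) fun x y => by
    rw [show x * y * (x * y) = x * (y * x) * y by group,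
      show y * x = x * y from Subtype.ext (h.comm y y.2 x x.2)]
    group
  have hker : sq.ker = h.sqOne := by ext x; exact Iff.rfl
  have hqr : Nat.card U = (d + 1) * Nat.card sq.range := by
    rw [← Subgroup.card_mul_index sq.ker, Subgroup.index_ker, hker, h.card_sqOne]
  have hR : d + 1 ≤ Nat.card sq.range := by
    rw [← h.card_sqOne]
    refine Subgroup.card_le_of_le fun x hx => ?_
    by_cases hx1 : x = 1
    · rw [hx1]; exact one_mem _
    have hxI : (x : G) ∈ invs U := ⟨x.2, congrArg Subtype.val (show x * x = 1 from hx),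
      fun e => hx1 (Subtype.ext e)⟩
    haveI : Fact (Nat.Prime 2) := ⟨Nat.prime_two⟩
    obtain ⟨n, hn⟩ := IsPGroup.iff_card.1 (h.two.to_subgroup sq.range)
    have hn0 : n ≠ 0 := by
      rintro rfl
      rw [pow_zero, Subgroup.card_eq_one, eq_bot_iff] at hn
      exact hu2 (congrArg Subtype.val (Subgroup.mem_bot.1 (hn ⟨⟨u, hu⟩, rfl⟩)))
    obtain ⟨w, hy⟩ := exists_prime_orderOf_dvd_card' (G := sq.range) 2 (hn ▸ dvd_pow_self 2 hn0)
    rw [← Subgroup.orderOf_coe] at hy
    obtain ⟨z, hz⟩ := MonoidHom.mem_range.1 w.2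
    rw [← hz] at hy
    have hyI : ((sq z : U) : G) ∈ invs U := by
      refine ⟨(sq z).2, ?_, fun e => ?_⟩
      · have := pow_orderOf_eq_one (sq z)
        rw [hy, pow_two] at this
        exact congrArg Subtype.val this
      · rw [show sq z = 1 from Subtype.ext e, orderOf_one] at hy
        omega
    obtain ⟨k, hk, hke⟩ := h.exists_conj hyI hxI
    refine ⟨⟨k * z * k⁻¹, h.conj_mem k hk.1 z z.2⟩, Subtype.ext ?_⟩
    rw [← hke]
    show k * z * k⁻¹ * (k * z * k⁻¹) = k * ((z : G) * z) * k⁻¹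
    group
  -- linear characters
  have hdual := BSW.card_dual U h.comm
  haveI : Finite (U →* ℂˣ) := Nat.finite_of_card_ne_zero (by rw [hdual]; exact Nat.card_pos.ne')
  haveI : Fintype (U →* ℂˣ) := Fintype.ofFinite _
  set T := (Finset.univ : Finset (U →* ℂˣ)).filter fun lam => TrivInvs lam with hT
  have hTcard : T.card * (d + 1) = Nat.card U := by
    have hS : Fintype h.sqOne := Fintype.ofFinite _
    have h1 : ∑ lam : U →* ℂˣ, ∑ x : h.sqOne, ((lam (x : U) : ℂˣ) : ℂ) = (Nat.card U : ℂ) := by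
      rw [Finset.sum_comm, Finset.sum_eq_single 1]
      · simp [← Nat.card_eq_fintype_card, hdual]
      · intro x _ hx
        let ev : (U →* ℂˣ) →* ℂ :=
          { toFun := fun lam => ((lam (x : U) : ℂˣ) : ℂ)
            map_one' := by simp
            map_mul' := fun _ _ => by simp }
        refine sum_hom_units_eq_zero ev fun e => ?_
        let _ : CommGroup U :=
          { (inferInstance : Group U) with mul_comm := fun a b => Subtype.ext (h.comm a a.2 b b.2) }
        haveI : NeZero (Monoid.exponent U) := ⟨Monoid.exponent_ne_zero_of_finite⟩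
        obtain ⟨φ, hφ⟩ := CommGroup.exists_apply_ne_one_of_hasEnoughRootsOfUnity U ℂ
          (a := (x : U)) (fun e' => hx (Subtype.ext e'))
        exact hφ (Units.ext (DFunLike.congr_fun e φ))
      · simp
    have h2 : ∀ lam : U →* ℂˣ, ∑ x : h.sqOne, ((lam (x : U) : ℂˣ) : ℂ) =
        if TrivInvs lam then ((d + 1 : ℕ) : ℂ) else 0 := by
      intro lam
      split_ifs with hl
      · rw [Finset.sum_congr rfl (g := fun _ => (1 : ℂ)), Finset.sum_const, Finset.card_univ, nsmul_eq_mul,
          mul_one, ← Nat.card_eq_fintype_card, h.card_sqOne]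
        intro x _
        by_cases hx : (x : U) = 1
        · simp [hx]
        · rw [hl _ ⟨(x : U).2, congrArg Subtype.val (show (x : U) * (x : U) = 1 from x.2),
            fun e => hx (Subtype.ext e)⟩]
          simp
      · refine sum_hom_units_eq_zero ((Units.coeHom ℂ).comp (lam.comp h.sqOne.subtype)) fun e => hl ?_
        intro z hz
        have e1 := DFunLike.congr_fun e (⟨z, Subtype.ext hz.2.1⟩ : h.sqOne)
        exact Units.ext (by simpa using e1)
    rw [Finset.sum_congr rfl fun lam _ => h2 lam, Finset.sum_ite, Finset.sum_const_zero, add_zero,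
      Finset.sum_const, nsmul_eq_mul] at h1
    exact_mod_cast h1
  have hTR : T.card = Nat.card sq.range := by
    refine Nat.eq_of_mul_eq_mul_right (show 0 < d + 1 by omega) ?_
    rw [hTcard, hqr, mul_comm]
  obtain ⟨lam₀, hlam₀, h01⟩ := Finset.exists_mem_ne (s := T) (by omega) 1
  have h0 : TrivInvs lam₀ := (Finset.mem_filter.1 hlam₀).2
  set L := (Finset.univ : Finset (U →* ℂˣ)).filter fun lam => ¬ TrivInvs lam with hL
  have hLcard : L.card = Nat.card sq.range * d := by
    have h1 : T.card + L.card = Fintype.card (U →* ℂˣ) :=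
      Finset.card_filter_add_card_filter_not (s := (Finset.univ : Finset (U →* ℂˣ))) _
    rw [← Nat.card_eq_fintype_card, hdual, hqr, hTR] at h1
    rw [Nat.add_mul, one_mul] at h1
    rw [mul_comm]
    omega
  set S := L.image (Phi lam₀) with hS
  have hinner : ∀ lam ∈ L, ∀ mu ∈ L, classInner (Phi lam₀ lam) (Phi lam₀ mu) =
      1 + ((Finset.univ.filter fun k => lam = mu.comp (h.cj k)).card : ℂ) := fun lam hl mu hm =>
    h.Phi_inner h0 h01 (Finset.mem_filter.1 hl).2 (Finset.mem_filter.1 hm).2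
  have hone : ∀ lam ∈ L, ∀ mu : U →* ℂˣ,
      (Finset.univ.filter fun k => lam = mu.comp (h.cj k)).card ≤ 1 := by
    intro lam hl mu
    refine Finset.card_le_one.2 fun k hk l hl' => ?_
    have ek := (Finset.mem_filter.1 hk).2
    have el := (Finset.mem_filter.1 hl').2
    by_contra hkl
    have hmu : mu.comp (h.cj (l⁻¹ * k)) = mu := by
      rw [← h.cj_comp, ← MonoidHom.comp_assoc, show mu.comp (h.cj k) = mu.comp (h.cj l) from ek.symm.trans el,
        MonoidHom.comp_assoc, h.cj_comp, inv_mul_cancel, h.cj_one, MonoidHom.comp_id]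
    have := h.eq_one_of_comp_eq (fun e => hkl (inv_mul_eq_one.1 e).symm) hmu
    exact (Finset.mem_filter.1 hl).2 (fun x hx => by rw [ek, this]; rfl)
  have hself : ∀ lam ∈ L, classInner (Phi lam₀ lam) (Phi lam₀ lam) = 2 := by
    intro lam hl
    rw [hinner lam hl lam hl]
    have h1 : 0 < (Finset.univ.filter fun k => lam = lam.comp (h.cj k)).card :=
      Finset.card_pos.2 ⟨1, by simp [h.cj_one]⟩
    have h2 := hone lam hl lam
    rw [show (Finset.univ.filter fun k => lam = lam.comp (h.cj k)).card = 1 by omega]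
    norm_num
  -- distinct members have inner product one
  have hdist : ∀ θ ∈ S, ∀ θ' ∈ S, θ ≠ θ' → classInner θ θ' = 1 := by
    intro θ hθ θ' hθ' hne
    obtain ⟨lam, hl, rfl⟩ := Finset.mem_image.1 hθ
    obtain ⟨mu, hm, rfl⟩ := Finset.mem_image.1 hθ'
    have h2 := hone lam hl mu
    rcases Nat.le_one_iff_eq_zero_or_eq_one.1 h2 with e | e
    · rw [hinner lam hl mu hm, e]; norm_num
    · exfalso
      apply hne
      have hx : classInner (Phi lam₀ lam) (Phi lam₀ mu) = 2 := by
        rw [hinner lam hl mu hm, e]; norm_num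
      have hy : classInner (Phi lam₀ mu) (Phi lam₀ lam) = 2 := by
        rw [← Char.classInner_conj_symm, hx, map_ofNat]
      refine sub_eq_zero.1 (Char.classInner_self_eq_zero.1 ?_)
      simp only [Char.classInner_sub_left, Char.classInner_sub_right, hself lam hl, hself mu hm, hx, hy]
      ring
  have hScard : Nat.card sq.range ≤ S.card := by
    have hle : L.card ≤ d * S.card := by
      refine Finset.card_le_mul_card_image _ _ fun θ hθ => ?_
      obtain ⟨mu, hm, rfl⟩ := Finset.mem_image.1 hθ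
      refine le_trans (Finset.card_le_card (t := Finset.univ.image fun k => mu.comp (h.cj k)) ?_)
        (Finset.card_image_le.trans (by rw [Finset.card_univ, hd, Nat.card_eq_fintype_card]))
      intro lam hl
      obtain ⟨hlL, hle⟩ := Finset.mem_filter.1 hl
      have h2 := hself mu hm
      nth_rewrite 1 [← hle] at h2
      rw [hinner lam hlL mu hm] at h2
      obtain ⟨k, hk⟩ : (Finset.univ.filter fun k => lam = mu.comp (h.cj k)).Nonempty := by
        rw [Finset.nonempty_iff_ne_empty]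
        intro e
        rw [e] at h2
        norm_num at h2
      exact Finset.mem_image.2 ⟨k, Finset.mem_univ _, (Finset.mem_filter.1 hk).2.symm⟩
    rw [hLcard, mul_comm] at hle
    exact Nat.le_of_mul_le_mul_left hle (by omega)
  -- the constituents
  have hdec : ∀ θ : G → ℂ, ∃ μ ν : G → ℂ, θ ∈ S → IsIrrCharacter G μ ∧ IsIrrCharacter G ν ∧ θ = μ - ν ∧
      ∃ n : ℕ, μ 1 = n ∧ ν 1 = n ∧ (Nat.card U + 1) * d ≤ n * (d - 1) := by
    intro θ
    by_cases hθ : θ ∈ S
    · obtain ⟨lam, hl, rfl⟩ := Finset.mem_image.1 hθ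
      obtain ⟨μ, ν, hμ, hν, -, e⟩ := Coherence.gc_norm_two (Phi_isGC lam₀ lam) (hself lam hl) (h.Phi_one lam₀ lam)
      exact ⟨μ, ν, fun _ => ⟨hμ, hν, e, h.degree_bound h0 (Finset.mem_filter.1 hl).2 hμ hν e⟩⟩
    · exact ⟨0, 0, fun hh => absurd hh hθ⟩
  choose A B hAB using hdec
  have hstar : ∀ θ ∈ S, ∀ θ' ∈ S, θ ≠ θ' → A θ = A θ' ∨ B θ = B θ' := by
    intro θ hθ θ' hθ' hne
    obtain ⟨a1, a2, a3, -⟩ := hAB θ hθ
    obtain ⟨b1, b2, b3, -⟩ := hAB θ' hθ'
    refine star_or a1 a2 b1 b2 ?_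
    rw [← a3, ← b3]
    exact hdist θ hθ θ' hθ' hne
  obtain ⟨f, hf, hfi⟩ : ∃ f : (G → ℂ) → (G → ℂ), (∀ θ ∈ S, IsIrrCharacter G (f θ) ∧
      ∃ n : ℕ, f θ 1 = n ∧ (Nat.card U + 1) * d ≤ n * (d - 1)) ∧ Set.InjOn f S := by
    have hA : ∀ θ ∈ S, IsIrrCharacter G (A θ) ∧
        ∃ n : ℕ, A θ 1 = n ∧ (Nat.card U + 1) * d ≤ n * (d - 1) := fun θ hθ => by
      obtain ⟨a1, -, -, n, e1, -, e3⟩ := hAB θ hθ
      exact ⟨a1, n, e1, e3⟩
    have hB : ∀ θ ∈ S, IsIrrCharacter G (B θ) ∧
        ∃ n : ℕ, B θ 1 = n ∧ (Nat.card U + 1) * d ≤ n * (d - 1) := fun θ hθ => by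
      obtain ⟨-, a2, -, n, -, e2, e3⟩ := hAB θ hθ
      exact ⟨a2, n, e2, e3⟩
    have hboth : ∀ θ ∈ S, ∀ θ' ∈ S, A θ = A θ' → B θ = B θ' → θ = θ' := fun θ hθ θ' hθ' e1 e2 => by
      rw [(hAB θ hθ).2.2.1, (hAB θ' hθ').2.2.1, e1, e2]
    by_cases hinj : Set.InjOn A S
    · exact ⟨A, hA, hinj⟩
    refine ⟨B, hB, ?_⟩
    simp only [Set.InjOn, not_forall] at hinj
    obtain ⟨θ, hθ, θ', hθ', eA, hne⟩ := hinj
    intro φ hφ φ' hφ' eB
    by_contra hφne
    have hBne : B θ ≠ B θ' := fun e => hne (hboth θ hθ θ' hθ' eA e)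
    have hAne : A φ ≠ A φ' := fun e => hφne (hboth φ hφ φ' hφ' e eB)
    have hmain : ∀ ψ ∈ S, A ψ ≠ A θ → False := by
      intro ψ hψ hneA
      have e1 : B ψ = B θ := (hstar ψ hψ θ hθ fun e => hneA (e ▸ rfl)).resolve_left hneA
      have e2 : B ψ = B θ' := (hstar ψ hψ θ' hθ' fun e => hneA (e ▸ eA.symm)).resolve_left (eA ▸ hneA)
      exact hBne (e1.symm.trans e2)
    by_cases hc : A φ = A θ
    · exact hmain φ' hφ' (fun e => hAne (hc.trans e.symm))
    · exact hmain φ hφ hc
  -- count degrees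
  haveI : Fintype (IrrCharacter G) := Fintype.ofFinite _
  choose deg hdegpos hdeg using fun χ : IrrCharacter G => Char.IsIrrCharacter.exists_degree χ.2
  have hsq : ∑ χ : IrrCharacter G, deg χ ^ 2 = Nat.card G := by
    have := Char.sum_sq_degrees (G := G)
    simp only [hdeg] at this
    exact_mod_cast this
  let g : S → IrrCharacter G := fun θ => ⟨f θ.1, (hf θ.1 θ.2).1⟩
  have hgi : Function.Injective g := fun x y e => Subtype.ext (hfi x.2 y.2 (congrArg Subtype.val e))
  have hbig : S.card * ((Nat.card U + 1) * d) ^ 2 ≤ Nat.card G * (d - 1) ^ 2 := by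
    rw [← hsq, Finset.sum_mul, ← Fintype.card_coe, ← Finset.card_univ, ← smul_eq_mul, ← Finset.sum_const]
    refine le_trans ?_ (Finset.sum_le_sum_of_subset (f := fun χ => deg χ ^ 2 * (d - 1) ^ 2)
      (Finset.subset_univ (Finset.univ.image g)))
    rw [Finset.sum_image fun x _ y _ e => hgi e]
    refine Finset.sum_le_sum fun θ _ => ?_
    obtain ⟨n, hn, hle⟩ := (hf θ.1 θ.2).2
    have : deg (g θ) = n := by exact_mod_cast (hdeg (g θ)).symm.trans hn
    rw [this, ← mul_pow]
    exact Nat.pow_le_pow_left hle 2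
  rw [h.card_group, ← hd] at hbig
  set q := Nat.card U
  set r := Nat.card sq.range
  have h1 : r * ((q + 1) * d) ^ 2 ≤ (q + 1) * (q * d) * (d - 1) ^ 2 :=
    le_trans (Nat.mul_le_mul_right _ hScard) hbig
  have h2 : (q + 1) * d ≤ (d + 1) * (d - 1) ^ 2 := by
    have hpos : 0 < r * ((q + 1) * d) := Nat.mul_pos (by omega) (Nat.mul_pos (by omega) (by omega))
    refine Nat.le_of_mul_le_mul_left ?_ hpos
    calc r * ((q + 1) * d) * ((q + 1) * d) = r * ((q + 1) * d) ^ 2 := by ring
      _ ≤ (q + 1) * (q * d) * (d - 1) ^ 2 := h1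
      _ = r * ((q + 1) * d) * ((d + 1) * (d - 1) ^ 2) := by rw [hqr]; ring
  obtain ⟨c, hc⟩ : ∃ c, d = c + 1 := ⟨d - 1, by omega⟩
  have h3 : (d + 1) * (d + 1) ≤ q := hqr ▸ Nat.mul_le_mul_left _ hR
  rw [hc, Nat.add_sub_cancel] at h2
  rw [hc] at h3
  nlinarith

end EvenHyp

end Cfsg.Agent.RankOne
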